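import Cfsg.Agent.Lib.Fusion.Product.Gen

/-!
A group generated by good elements has good fixed points.
-/

set_option autoImplicit false
set_option linter.style.haveILetI false
set_option linter.unusedSectionVars false
set_option maxHeartbeats 800000

open scoped commutatorElement

namespace Cfsg.Agent.StrongProd

open Cfsg.Agent.Solv (CycQuot)
open Cfsg.Agent.Fusion (cj mem_cj mem_normalizer_of_cj_le cj_eq_self)

universe u

variable {G : Type u} [Group G] [Finite G] {E Y : Subgroup G} {N : Subgroup G → Subgroup G}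

/-- The lower central series of `Y` inside the group. -/
def lcsIn (Y : Subgroup G) : ℕ → Subgroup G
  | 0 => Y
  | n + 1 => ⁅lcsIn Y n, Y⁆

theorem lcsIn_le (Y : Subgroup G) : ∀ n, lcsIn Y n ≤ Y
  | 0 => le_rfl
  | n + 1 => Subgroup.commutator_le.2 fun a ha b hb => by
      rw [commutatorElement_def]
      exact Y.mul_mem (Y.mul_mem (Y.mul_mem (lcsIn_le Y n ha) hb) (Y.inv_mem (lcsIn_le Y n ha))) (Y.inv_mem hb)

theorem lcsIn_normalized (Y : Subgroup G) :
    ∀ n, Subgroup.normalizer (Y : Set G) ≤ Subgroup.normalizer (lcsIn Y n : Set G)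
  | 0 => le_rfl
  | n + 1 => fun x hx => mem_normalizer_of_cj_le (by
      rw [lcsIn, Fusion.cj_commutator, cj_eq_self hx, cj_eq_self (lcsIn_normalized Y n hx)])

/-- Commutators with a join of two subgroups. -/
theorem commutator_sup_le' {A B Y M : Subgroup G} (hA : A ≤ Subgroup.normalizer (M : Set G))
    (hB : B ≤ Subgroup.normalizer (M : Set G)) (h1 : ⁅A, Y⁆ ≤ M) (h2 : ⁅B, Y⁆ ≤ M) : ⁅A ⊔ B, Y⁆ ≤ M := by
  refine Subgroup.commutator_le.2 fun x hx y hy => ?_
  let T : Subgroup G :=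
    { carrier := {x | x ∈ Subgroup.normalizer (M : Set G) ∧ ⁅x, y⁆ ∈ M}
      one_mem' := ⟨Subgroup.one_mem _, by simp⟩
      mul_mem' := fun {a b} ha hb => ⟨Subgroup.mul_mem _ ha.1 hb.1, by
        have := M.mul_mem (Solv.conj_mem_of_mem_normalizer ha.1 hb.2) ha.2
        simp only [commutatorElement_def] at this ⊢
        rwa [show a * (b * y * b⁻¹ * y⁻¹) * a⁻¹ * (a * y * a⁻¹ * y⁻¹) = a * b * y * (a * b)⁻¹ * y⁻¹
          by group] at this⟩
      inv_mem' := fun {a} ha => ⟨Subgroup.inv_mem _ ha.1, by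
        have := Solv.conj_mem_of_mem_normalizer (Subgroup.inv_mem _ ha.1) (M.inv_mem ha.2)
        simp only [commutatorElement_def] at this ⊢
        rwa [show a⁻¹ * (a * y * a⁻¹ * y⁻¹)⁻¹ * a⁻¹⁻¹ = a⁻¹ * y * a⁻¹⁻¹ * y⁻¹ by group] at this⟩ }
  exact ((sup_le (c := T) (fun a ha => ⟨hA ha, h1 (Subgroup.commutator_mem_commutator ha hy)⟩)
    fun b hb => ⟨hB hb, h2 (Subgroup.commutator_mem_commutator hb hy)⟩) hx).2

/-- A perfect section of a solvable group is trivial. -/
theorem le_of_perfect_section {M M0 : Subgroup G} (hsol : Group.IsSolvable M) (h0 : M0 ≤ M)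
    (hn : M ≤ Subgroup.normalizer (M0 : Set G)) (h : M ≤ ⁅M, M⁆ ⊔ M0) : M ≤ M0 := by
  set D := M0.subgroupOf M
  haveI : D.Normal := Subgroup.normal_subgroupOf_of_le_normalizer hn
  haveI := hsol
  haveI : Group.IsSolvable (M ⧸ D) :=
    Group.isSolvable_of_surjective (QuotientGroup.mk'_surjective D)
  have hperf : commutator (M ⧸ D) = ⊤ := by
    have hle : (⊤ : Subgroup M) ≤ commutator M ⊔ D := by
      intro x _
      have hx := h x.2
      have e : (⁅M, M⁆ ⊔ M0 : Subgroup G) = (commutator M ⊔ D).map M.subtype := by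
        rw [Subgroup.map_sup, commutator_def, Subgroup.map_commutator, ← MonoidHom.range_eq_map,
          Subgroup.range_subtype, Subgroup.map_subgroupOf_eq_of_le h0]
      rw [e] at hx
      obtain ⟨y, hy, hyx⟩ := hx
      rwa [Subtype.coe_injective hyx] at hy
    have := Subgroup.map_mono (f := QuotientGroup.mk' D) hle
    rw [Subgroup.map_sup, QuotientGroup.map_mk'_self, sup_bot_eq, commutator_def,
      Subgroup.map_commutator, Subgroup.map_top_of_surjective _ (QuotientGroup.mk'_surjective D)] at this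
    exact top_le_iff.1 (by rwa [commutator_def])
  intro x hx
  by_contra hx0
  haveI : Nontrivial (M ⧸ D) := ⟨⟨QuotientGroup.mk' D ⟨x, hx⟩, 1, fun e =>
    hx0 (Subgroup.mem_subgroupOf.1 ((QuotientGroup.eq_one_iff _).1 e))⟩⟩
  exact (Group.IsSolvable.commutator_lt_top_of_nontrivial (G := M ⧸ D)).ne hperf

variable (h : GenHyp E N)

include h in
theorem GenHyp.fixed_le_aux : ∀ (n : ℕ) (Y : Subgroup G), Nat.card Y = n → Odd (Nat.card Y) →
    Group.IsSolvable Y → E ≤ Subgroup.normalizer (Y : Set G) →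
    Y ≤ (⨆ R ∈ CycQuot E, Y ⊓ N R) →
    ∀ R ∈ CycQuot E, Y ⊓ Subgroup.centralizer (R : Set G) ≤ N R := by
  intro n
  induction n using Nat.strong_induction_on with
  | _ n ih =>
  intro Y hn hY hsol hE hgen
  have hIY : Inv E Y Y := ⟨le_rfl, Subgroup.le_normalizer, hE⟩
  suffices hcov : Covered E Y N ⊥ by
    intro R hR x hx
    have := hcov R hR hx
    rw [sup_bot_eq] at this
    exact this.2
  by_contra hnot
  obtain ⟨M0, -, hmax⟩ := Finite.exists_le_maximal
    (p := fun M : Subgroup G => Inv E Y M ∧ ¬ Covered E Y N M) (a := ⊥)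
    ⟨⟨bot_le, by rw [Subgroup.normalizer_eq_top]; exact le_top, by
      rw [Subgroup.normalizer_eq_top]; exact le_top⟩, hnot⟩
  obtain ⟨hM0, hM0c⟩ := hmax.1
  have hbig : ∀ M, Inv E Y M → M0 < M → Covered E Y N M := fun M hM hlt => by
    by_contra hc
    exact hlt.not_ge (hmax.2 ⟨hM, hc⟩ hlt.le)
  have hYc : Covered E Y N Y := fun R _ => inf_le_left.trans le_sup_right
  have hgood : Y ≤ M0 ⊔ ⨆ R ∈ CycQuot E, Y ⊓ N R := hgen.trans le_sup_right
  -- the abelian case
  by_cases hab : ⁅Y, Y⁆ ≤ M0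
  · exact hM0c (covered_step h hY hM0 hIY hM0.1 hab hgood hYc)
  have key : ∀ X M, Inv E Y X → Inv E Y M → M0 < M → M ≤ X → ⁅X, Y⁆ ≤ M → ⁅X, M⁆ ≤ M0 →
      M ≤ goodPart E N M0 M → False := by
    intro X M _ hM hlt hMX _ hXM hMg
    exact hM0c (covered_step h hY hM0 hM hlt.le
      ((Subgroup.commutator_mono hMX le_rfl).trans hXM) hMg (hbig M hM hlt))
  -- the nilpotent case
  have hnil : ∀ k, ¬ lcsIn Y k ≤ M0 := by
    intro k hk
    induction k with
    | zero => exact hM0c (le_antisymm hM0.1 hk ▸ hYc)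
    | succ k IH =>
      rcases k with _ | k
      · exact hab hk
      by_cases hkk : lcsIn Y (k + 1) ≤ M0
      · exact IH hkk
      have hn' := fun j => lcsIn_normalized Y j
      set M := lcsIn Y (k + 1) ⊔ M0 with hMdef
      set X := lcsIn Y k ⊔ M0 with hXdef
      have hinv : ∀ j, Inv E Y (lcsIn Y j ⊔ M0) := fun j =>
        ⟨sup_le (lcsIn_le Y j) hM0.1,
          fun x hx => normalizer_sup_le (hn' j (Subgroup.le_normalizer hx)) (hM0.2.1 hx),
          fun x hx => normalizer_sup_le (hn' j (hE hx)) (hM0.2.2 hx)⟩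
      have hM : Inv E Y M := hinv (k + 1)
      have hX : Inv E Y X := hinv k
      have h1 : ⁅M0, Y⁆ ≤ M0 := Subgroup.commutator_le.2 fun a ha b hb => by
        rw [commutatorElement_def]
        exact Solv.comm_mem_of_mem_normalizer (hM0.2.1 hb) ha
      have hXY : ⁅X, Y⁆ ≤ M := commutator_sup_le'
        ((lcsIn_le Y k).trans hM.2.1) (hM0.1.trans hM.2.1) le_sup_left (h1.trans le_sup_right)
      have hMY : ⁅M, Y⁆ ≤ M0 := commutator_sup_le'
        ((lcsIn_le Y _).trans hM0.2.1) Subgroup.le_normalizer hk h1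
      have hXM : ⁅X, M⁆ ≤ M0 := by
        rw [Subgroup.commutator_comm]
        exact (Subgroup.commutator_mono le_rfl hX.1).trans hMY
      have hlt : M0 < M := lt_of_le_of_ne le_sup_right fun e => hkk (e ▸ le_sup_left)
      have hMX : M ≤ X := sup_le_sup_right (Subgroup.commutator_le.2 fun a ha b hb => by
        rw [commutatorElement_def]
        exact Solv.comm_mem_of_mem_normalizer (hn' k (Subgroup.le_normalizer hb)) ha) _
      obtain ⟨-, hc⟩ := commutator_le_good h hY hgen hX hM hM0 hlt.le hMX hXY hXM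
      refine key X M hX hM hlt hMX hXY hXM (sup_le ?_ le_sup_left)
      exact (Subgroup.commutator_mono le_sup_left le_rfl).trans hc
  -- a minimal section inside the derived group
  set T := ⁅Y, Y⁆ ⊔ M0 with hT
  have hTI : Inv E Y T := ⟨sup_le (lcsIn_le Y 1) hM0.1,
    fun x hx => normalizer_sup_le (lcsIn_normalized Y 1 (Subgroup.le_normalizer hx)) (hM0.2.1 hx),
    fun x hx => normalizer_sup_le (lcsIn_normalized Y 1 (hE hx)) (hM0.2.2 hx)⟩
  obtain ⟨M, hMT, hMmin⟩ := Finite.exists_le_minimal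
    (p := fun M : Subgroup G => Inv E Y M ∧ M0 < M) (a := T)
    ⟨hTI, lt_of_le_of_ne le_sup_right fun e => hab (e ▸ le_sup_left)⟩
  obtain ⟨hM, hlt⟩ := hMmin.1
  have hMY : ⁅M, Y⁆ ≤ M := Subgroup.commutator_le.2 fun a ha b hb => by
    rw [commutatorElement_def]; exact Solv.comm_mem_of_mem_normalizer (hM.2.1 hb) ha
  have hMsol : Group.IsSolvable M := Solv.isSolvable_of_le hM.1 hsol
  have hMM : ⁅M, M⁆ ≤ M0 := by
    set J := ⁅M, M⁆ ⊔ M0 with hJ
    have hJle : J ≤ M := sup_le ((Subgroup.commutator_mono le_rfl hM.1).trans hMY) hlt.le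
    have hnorm : ∀ x, x ∈ Subgroup.normalizer (M : Set G) → x ∈ Subgroup.normalizer (M0 : Set G) →
        x ∈ Subgroup.normalizer (J : Set G) := fun x hx hx0 => normalizer_sup_le
      (mem_normalizer_of_cj_le (by rw [Fusion.cj_commutator, cj_eq_self hx])) hx0
    have hJI : Inv E Y J := ⟨hJle.trans hM.1, fun x hx => hnorm x (hM.2.1 hx) (hM0.2.1 hx),
      fun x hx => hnorm x (hM.2.2 hx) (hM0.2.2 hx)⟩
    by_contra hne
    have hlt' : M0 < J := lt_of_le_of_ne le_sup_right fun e => hne (e ▸ le_sup_left)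
    exact hlt.not_ge (le_of_perfect_section hMsol hlt.le (hM.1.trans hM0.2.1) (hMmin.2 ⟨hJI, hlt'⟩ hJle))
  obtain ⟨hM1, hc⟩ := commutator_le_good h hY hgen hM hM hM0 hlt.le le_rfl hMY hMM
  have hM1le : goodPart E N M0 M ≤ M := sup_le hlt.le (iSup₂_le fun R _ => inf_le_left)
  rcases (le_sup_left : M0 ≤ goodPart E N M0 M).eq_or_lt with e | hlt1
  swap
  · exact key M M hM hM hlt le_rfl hMY hMM (hMmin.2 ⟨hM1, hlt1⟩ hM1le)
  -- the central case
  have hcen : ⁅M, Y⁆ ≤ M0 := hc.trans e.ge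
  have hbetween : ∀ M2, M0 ≤ M2 → M2 ≤ M → E ≤ Subgroup.normalizer (M2 : Set G) → Inv E Y M2 := by
    intro M2 h02 h2M hE2
    refine ⟨h2M.trans hM.1, fun t ht => mem_normalizer_of_cj_le fun y hy => ?_, hE2⟩
    rw [mem_cj] at hy
    have h1 := h02 (hcen (Subgroup.commutator_mem_commutator (h2M hy) ht))
    have h2 := M2.mul_mem (M2.inv_mem h1) hy
    rwa [commutatorElement_def, show (t⁻¹ * y * t * t * (t⁻¹ * y * t)⁻¹ * t⁻¹)⁻¹ * (t⁻¹ * y * t) = y
      by group] at h2
  obtain ⟨q, hq, hqd⟩ := Nat.exists_prime_and_dvd (n := M0.relIndex M)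
    (fun e1 => hlt.not_ge (Subgroup.relIndex_eq_one.1 e1))
  haveI := Fact.mk hq
  have hcoM := h.coprime (odd_le hY hM.1)
  obtain ⟨P, hP, hPE⟩ := Solv.exists_invariant_sylow hM.2.2 hcoM (Or.inl h.solvable) q
  have hMP : M ≤ M0 ⊔ P := by
    refine hMmin.2 ⟨hbetween _ le_sup_left (sup_le hlt.le hP.1)
      (fun x hx => normalizer_sup_le (hM0.2.2 hx) (hPE hx)), ?_⟩ (sup_le hlt.le hP.1)
    refine lt_of_le_of_ne le_sup_left fun e1 => ?_
    have hPM0 : P ≤ M0 := e1 ▸ le_sup_right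
    obtain ⟨P', hP'⟩ := hP.exists_sylow
    refine P'.not_dvd_index ?_
    have h2 : (P' : Subgroup M) ≤ M0.subgroupOf M := fun x hx => hPM0 (hP' ▸ ⟨x, hx, rfl⟩)
    exact hqd.trans (Subgroup.index_dvd_of_le h2)
  obtain ⟨Q, hQ, hPQ, hQE⟩ := Solv.exists_invariant_sylow_ge hE (h.coprime hY) (Or.inl h.solvable)
    P (hP.1.trans hM.1) hP.isPGroup hPE
  set QM := Q ⊔ M0 with hQM
  have hQMY : QM ≤ Y := sup_le hQ.1 hM0.1
  have hMQM : M ≤ QM := hMP.trans (sup_le le_sup_right (hPQ.trans le_sup_left))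
  have hQME : E ≤ Subgroup.normalizer (QM : Set G) := fun x hx => normalizer_sup_le (hQE hx) (hM0.2.2 hx)
  set D := ⨆ R ∈ CycQuot E, QM ⊓ N R with hD
  set Z := D ⊔ M0 with hZ
  have hDQM : D ≤ QM := iSup₂_le fun R _ => inf_le_left
  have hZQM : Z ≤ QM := sup_le hDQM le_sup_right
  have hcovM := hbig M hM hlt
  have hQMle : QM ≤ Z ⊔ M := by
    refine (Solv.gen_eq E QM h.comm hQME (h.coprime (odd_le hY hQMY))).ge.trans (iSup₂_le fun R hR => ?_)
    intro x hx
    have hx' : x ∈ (((Y ⊓ N R) ⊔ M : Subgroup G) : Set G) := hcovM R hR ⟨hQMY hx.1, hx.2⟩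
    rw [Subgroup.coe_mul_of_left_le_normalizer_right _ _ (inf_le_left.trans hM.2.1)] at hx'
    obtain ⟨k, hk, m, hm, rfl⟩ := hx'
    refine Subgroup.mul_mem _ (Subgroup.mem_sup_left (Subgroup.mem_sup_left ?_)) (Subgroup.mem_sup_right hm)
    refine Subgroup.mem_iSup_of_mem R (Subgroup.mem_iSup_of_mem hR ⟨?_, hk.2⟩)
    have := QM.mul_mem hx.1 (QM.inv_mem (hMQM hm))
    rwa [mul_inv_cancel_right] at this
  -- pass to the section `Y / M0`
  set D0 := M0.subgroupOf Y with hD0
  haveI : D0.Normal := Subgroup.normal_subgroupOf_of_le_normalizer hM0.2.1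
  set π := QuotientGroup.mk' D0 with hπ
  let bar : Subgroup G → Subgroup (Y ⧸ D0) := fun A => (A.subgroupOf Y).map π
  have bar_mono : ∀ {A B : Subgroup G}, A ≤ B → bar A ≤ bar B := fun hAB =>
    Subgroup.map_mono (Subgroup.comap_mono hAB)
  have bar_sup : ∀ {A B : Subgroup G}, A ≤ Y → B ≤ Y → bar (A ⊔ B) = bar A ⊔ bar B := by
    intro A B hA hB
    simp only [bar]
    rw [Subgroup.subgroupOf_sup hA hB, Subgroup.map_sup]
  have bar_M0 : bar M0 = ⊥ := by
    simp only [bar]; exact QuotientGroup.map_mk'_self D0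
  have bar_le : ∀ {A B : Subgroup G}, A ≤ Y → M0 ≤ B → bar A ≤ bar B → A ≤ B := by
    intro A B hA hB hle x hx
    obtain ⟨y, hy, hxy⟩ := hle ⟨⟨x, hA hx⟩, hx, rfl⟩
    have h1 : (y : G)⁻¹ * x ∈ M0 := Subgroup.mem_subgroupOf.1 (QuotientGroup.eq.1 hxy)
    have := B.mul_mem (hy : (y : G) ∈ B) (hB h1)
    simp only [Subgroup.coe_subtype, mul_inv_cancel_left] at this
    exact this
  obtain ⟨Q', hQ'⟩ := hQ.exists_sylow
  set Qb := Q'.mapSurjective (QuotientGroup.mk'_surjective D0) with hQb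
  have hQb' : (Qb : Subgroup (Y ⧸ D0)) = bar Q := by
    rw [hQb, Sylow.coe_mapSurjective]
    simp only [bar]
    rw [← hQ', Subgroup.subgroupOf, Subgroup.comap_map_eq_self_of_injective Subtype.coe_injective]
  have hQbQM : bar QM = (Qb : Subgroup (Y ⧸ D0)) := by
    rw [hQb', bar_sup hQ.1 hM0.1, bar_M0, sup_bot_eq]
  have hZeq : QM ≤ Z := by
    refine bar_le hQMY le_sup_right ?_
    rw [hQbQM]
    refine le_of_le_sup_central Qb (bar Z) (bar M) (hQbQM ▸ bar_mono hZQM) (hQbQM ▸ bar_mono hMQM) ?_ ?_ ?_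
    · rintro _ ⟨m, hm, rfl⟩
      rw [Subgroup.mem_center_iff]
      intro y
      obtain ⟨y, rfl⟩ := QuotientGroup.mk'_surjective D0 y
      rw [← map_mul, ← map_mul]
      refine (QuotientGroup.eq.2 (Subgroup.mem_subgroupOf.2 ?_)).symm
      have h1 := hcen (Subgroup.commutator_mem_commutator (M.inv_mem (hm : (m : G) ∈ M)) (Y.inv_mem y.2))
      simp only [Subgroup.coe_mul, Subgroup.coe_inv]
      have h3 : (y : G)⁻¹ * (m : G)⁻¹ * y * m ∈ M0 := by
        have := M0.inv_mem h1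
        simp only [Subgroup.coe_subtype] at this
        rwa [commutatorElement_def,
          show ((m : G)⁻¹ * (y : G)⁻¹ * (m : G)⁻¹⁻¹ * (y : G)⁻¹⁻¹)⁻¹ = (y : G)⁻¹ * (m : G)⁻¹ * y * m
            by group] at this
      convert h3 using 1
      group
    · refine (bar_mono hMT).trans ?_
      show bar (lcsIn Y 1 ⊔ M0) ≤ _
      rw [bar_sup (lcsIn_le Y 1) hM0.1, bar_M0, sup_bot_eq]
      simp only [bar]
      have : (⁅Y, Y⁆).subgroupOf Y = commutator Y := by
        refine (Subgroup.map_injective Y.subtype_injective) ?_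
        rw [Subgroup.map_subgroupOf_eq_of_le (show ⁅Y, Y⁆ ≤ Y from lcsIn_le Y 1), commutator_def, Subgroup.map_commutator,
          ← MonoidHom.range_eq_map, Subgroup.range_subtype]
      rw [show lcsIn Y 1 = ⁅Y, Y⁆ from rfl, this, commutator_def, Subgroup.map_commutator, commutator_def]
      exact Subgroup.commutator_mono le_top le_top
    · rw [← bar_sup (hZQM.trans hQMY) hM.1, ← hQbQM]
      exact bar_mono hQMle
  by_cases hDY : D = Y
  · -- the section is nilpotent
    have htop : (Qb : Subgroup (Y ⧸ D0)) = ⊤ := by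
      rw [eq_top_iff]
      intro v _
      obtain ⟨y, rfl⟩ := QuotientGroup.mk'_surjective D0 v
      rw [← hQbQM]
      exact ⟨y, hDQM (hDY.ge y.2), rfl⟩
    have hp : IsPGroup q (Y ⧸ D0) := by
      have := Qb.2
      rw [htop] at this
      exact this.of_equiv Subgroup.topEquiv
    have := hp.isNilpotent
    obtain ⟨k, hk⟩ := Subgroup.nilpotent_iff_lowerCentralSeries.1 this
    refine hnil k ?_
    refine bar_le (lcsIn_le Y k) le_rfl ?_
    rw [bar_M0]
    have hmap : ∀ j, bar (lcsIn Y j) ≤ Subgroup.lowerCentralSeries (⊤ : Subgroup (Y ⧸ D0)) j := by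
      intro j
      induction j with
      | zero => rw [Subgroup.lowerCentralSeries_zero]; exact le_top
      | succ j IH =>
        rw [Subgroup.lowerCentralSeries_succ]
        refine le_trans (le_of_eq ?_) (Subgroup.commutator_mono IH le_top (H₂ := bar Y))
        simp only [bar, lcsIn]
        rw [← Subgroup.map_commutator]
        refine congrArg _ (Subgroup.map_injective Y.subtype_injective ?_)
        rw [Subgroup.map_subgroupOf_eq_of_le (show ⁅lcsIn Y j, Y⁆ ≤ Y from lcsIn_le Y (j + 1)),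
          Subgroup.map_commutator,
          Subgroup.map_subgroupOf_eq_of_le (lcsIn_le Y j), Subgroup.map_subgroupOf_eq_of_le le_rfl]
    exact (hmap k).trans hk.le
  · -- induction
    have hDY' : D ≤ Y := hDQM.trans hQMY
    have hlt : Nat.card D < n := hn ▸ lt_of_le_of_ne (Subgroup.card_le_of_le hDY')
      fun e1 => hDY (Subgroup.eq_of_le_of_card_ge hDY' e1.ge)
    have hDE : E ≤ Subgroup.normalizer (D : Set G) := fun x hx => Solv.normalizer_biSup_le _ _
      fun R hR => normalizer_inf_le (hQME hx) (h.invariant hR.1 hx)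
    have hDgen : D ≤ ⨆ R ∈ CycQuot E, D ⊓ N R := iSup₂_le fun R hR x hx =>
      Subgroup.mem_iSup_of_mem R (Subgroup.mem_iSup_of_mem hR
        ⟨Subgroup.mem_iSup_of_mem R (Subgroup.mem_iSup_of_mem hR hx), hx.2⟩)
    have hfix := ih _ hlt D rfl (odd_le hY hDY') (Solv.isSolvable_of_le hDY' hsol) hDE hDgen
    refine hM0c fun R hR x hx => ?_
    have hx' : x ∈ (((Y ⊓ N R) ⊔ M : Subgroup G) : Set G) := hcovM R hR hx
    rw [Subgroup.coe_mul_of_left_le_normalizer_right _ _ (inf_le_left.trans hM.2.1)] at hx'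
    obtain ⟨k, hk, m, hm, rfl⟩ := hx'
    refine Subgroup.mul_mem _ (Subgroup.mem_sup_left hk) ?_
    have hmR : m ∈ Subgroup.centralizer (R : Set G) := by
      have := Subgroup.mul_mem _ (Subgroup.inv_mem _ (h.cent R hR.1 hk.2)) hx.2
      simpa using this
    have hm' : m ∈ (((D ⊔ M0 : Subgroup G)) : Set G) := hZeq (hMQM hm)
    rw [Subgroup.coe_mul_of_left_le_normalizer_right _ _ (hDY'.trans hM0.2.1)] at hm'
    obtain ⟨d, hd, z, hz, rfl⟩ := hm'
    simp only at hmR ⊢
    have hRD : R ≤ Subgroup.normalizer (D : Set G) := hR.1.trans hDE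
    obtain ⟨c, hc, hcd⟩ := Solv.exists_fixed_in_coset' R D (D ⊓ M0) hRD
      ((h.coprime (odd_le hY hDY')).coprime_dvd_left (Subgroup.card_dvd_of_le hR.1))
      (Or.inl (Solv.isSolvable_of_le hR.1 h.solvable)) inf_le_left
      (fun r hr => normalizer_inf_le (hRD hr) (hM0.2.2 (hR.1 hr))) hd (fun r hr => by
        refine ⟨D.mul_mem (D.inv_mem hd) (Solv.conj_mem_of_mem_normalizer (hRD hr) hd), ?_⟩
        have h1 : r * (d * z) * r⁻¹ = d * z := by
          rw [Subgroup.mem_centralizer_iff.1 hmR r hr, mul_inv_cancel_right]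
        have h2 := Solv.conj_mem_of_mem_normalizer (hM0.2.2 (hR.1 hr)) hz
        have h3 := M0.mul_mem hz (M0.inv_mem h2)
        rwa [show z * (r * z * r⁻¹)⁻¹ = d⁻¹ * (r * d * r⁻¹) by
          calc z * (r * z * r⁻¹)⁻¹ = d⁻¹ * (d * z) * (r * z * r⁻¹)⁻¹ := by group
            _ = d⁻¹ * (r * (d * z) * r⁻¹) * (r * z * r⁻¹)⁻¹ := by rw [h1]
            _ = d⁻¹ * (r * d * r⁻¹) := by group] at h3)
    have hcY : c ∈ Y ⊓ N R := ⟨hDY' hc.1, hfix R hR hc⟩
    have := Subgroup.mul_mem _ (Subgroup.mem_sup_left hcY : c ∈ (Y ⊓ N R) ⊔ M0)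
      (Subgroup.mem_sup_right (M0.mul_mem (M0.inv_mem hcd.2) hz))
    rwa [mul_inv_rev, inv_inv, mul_assoc, mul_inv_cancel_left] at this

include h in
/-- The fixed points of a group generated by good elements are good. -/
theorem GenHyp.fixed_le (Y : Subgroup G) (hY : Odd (Nat.card Y)) (hsol : Group.IsSolvable Y)
    (hE : E ≤ Subgroup.normalizer (Y : Set G)) (hgen : Y ≤ ⨆ R ∈ CycQuot E, Y ⊓ N R)
    {R : Subgroup G} (hR : R ∈ CycQuot E) : Y ⊓ Subgroup.centralizer (R : Set G) ≤ N R :=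
  h.fixed_le_aux _ Y rfl hY hsol hE hgen R hR

end Cfsg.Agent.StrongProd
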