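import Cfsg.Agent.Lib.Fusion.Product.Local
import Cfsg.Agent.Lib.Fusion.Product.GenMain
import Cfsg.Agent.Lib.SSF.Main
import Cfsg.Agent.Lib.OddChar.FT.NoMinimal
import Cfsg.Agent.Lib.OddChar.FT.Final

/-!
The signalizer functor of a pair of commuting fours groups and its invariance.
-/

set_option autoImplicit false
set_option linter.style.haveILetI false
set_option linter.unusedSectionVars false

open scoped commutatorElement

namespace Cfsg.Agent.StrongProd

open Cfsg.Agent.Solv (CycQuot)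
open Cfsg.Agent.Fusion (cj mem_cj mem_normalizer_of_cj_le cj_eq_self)
open Ctx (O O_le O_odd O_normalized)

universe u

variable {G : Type u} [Group G] [Finite G]

theorem solvable_of_odd {H : Subgroup G} (h : Odd (Nat.card H)) : Group.IsSolvable H :=
  OddFT.odd_solvable_of_no_min (fun _ _ _ h => OddFT.no_minSimple _ h) h

theorem coprime_of_sq {E K : Subgroup G} (hE : ∀ g ∈ E, g * g = 1) (hK : Odd (Nat.card K)) :
    (Nat.card E).Coprime (Nat.card K) := by
  have hp : IsPGroup 2 E := fun x => ⟨1, Subtype.ext (by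
    rw [pow_one, Subgroup.coe_pow, pow_two]; exact hE x x.2)⟩
  haveI : Fact (Nat.Prime 2) := ⟨Nat.prime_two⟩
  obtain ⟨k, hk⟩ := IsPGroup.iff_card.1 hp
  rw [hk]
  exact (Nat.coprime_two_left.2 hK).pow_left _

theorem commute_of_sq {E : Subgroup G} (hE : ∀ g ∈ E, g * g = 1) {x y : G} (hx : x ∈ E) (hy : y ∈ E) :
    x * y = y * x := by
  have h1 := inv_eq_of_mul_eq_one_right (hE _ (E.mul_mem hx hy))
  have h2 := inv_eq_of_mul_eq_one_right (hE _ hx)
  have h3 := inv_eq_of_mul_eq_one_right (hE _ hy)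
  rw [mul_inv_rev, h2, h3] at h1
  exact h1.symm

theorem comm_of_sq {E : Subgroup G} (hE : ∀ g ∈ E, g * g = 1) : IsMulCommutative E :=
  ⟨⟨fun x y => Subtype.ext (commute_of_sq hE x.2 y.2)⟩⟩

/-- Two elements with the same class modulo a hyperplane multiply into it. -/
theorem mul_mem_cyc {E R : Subgroup G} (hE : ∀ g ∈ E, g * g = 1) (hR : R ∈ CycQuot E) {x y : G}
    (hx : x ∈ E) (hy : y ∈ E) (h : x ∈ R ↔ y ∈ R) : x * y ∈ R := by
  by_cases hxR : x ∈ R
  · exact R.mul_mem hxR (h.1 hxR)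
  obtain ⟨hRE, a, ha, hsup⟩ := hR
  have hn : Subgroup.zpowers a ≤ Subgroup.normalizer (R : Set G) :=
    Subgroup.zpowers_le.2 (Subgroup.centralizer_le_normalizer _
      (Subgroup.mem_centralizer_iff.2 fun r hr => commute_of_sq hE (hRE hr) ha))
  have key : ∀ z ∈ E, z ∉ R → ∃ r ∈ R, z = r * a := by
    intro z hz hzR
    have hz' : z ∈ ((R ⊔ Subgroup.zpowers a : Subgroup G) : Set G) := hsup.ge hz
    rw [Subgroup.coe_mul_of_right_le_normalizer_left R _ hn] at hz'
    obtain ⟨r, hr, _, ⟨i, rfl⟩, rfl⟩ := hz'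
    simp only at hzR ⊢
    have haa : a ^ (2 : ℤ) = 1 := by rw [zpow_two]; exact hE a ha
    rcases Int.even_or_odd i with ⟨j, rfl⟩ | ⟨j, rfl⟩
    · refine absurd ?_ hzR
      rw [← two_mul, zpow_mul, haa, one_zpow, mul_one]
      exact hr
    · exact ⟨r, hr, by rw [zpow_add, zpow_mul, haa, one_zpow, one_mul, zpow_one]⟩
  obtain ⟨r, hr, rfl⟩ := key x hx hxR
  obtain ⟨s, hs, rfl⟩ := key y hy (fun e => hxR (h.2 e))
  rw [mul_assoc, ← mul_assoc a, ← commute_of_sq hE (hRE hs) ha, mul_assoc, hE a ha, mul_one]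
  exact R.mul_mem hr hs

/-- A hyperplane meets every fours group nontrivially. -/
theorem exists_mem_cyc {E R U : Subgroup G} (hE : ∀ g ∈ E, g * g = 1) (hR : R ∈ CycQuot E)
    (hUE : U ≤ E) (hU : Nat.card U = 4) : ∃ x ∈ R, x ∈ U ∧ x ≠ 1 := by
  classical
  by_contra hcon
  push Not at hcon
  have hsub : ∀ x ∈ U, ∀ y ∈ U, x ≠ 1 → y ≠ 1 → x = y := by
    intro x hx y hy hx1 hy1
    have := hcon _ (mul_mem_cyc hE hR (hUE hx) (hUE hy)
      ⟨fun e => absurd (hcon x e hx) hx1, fun e => absurd (hcon y e hy) hy1⟩) (U.mul_mem hx hy)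
    rw [mul_eq_one_iff_eq_inv] at this
    rw [this, inv_eq_of_mul_eq_one_right (hE y (hUE hy))]
  haveI := Fintype.ofFinite U
  have hinj : Function.Injective fun x : U => decide (x = 1) := by
    intro x y e
    simp only [decide_eq_decide] at e
    by_cases hx : x = 1
    · rw [hx, e.1 hx]
    · exact Subtype.ext (hsub x x.2 y y.2 (fun e' => hx (Subtype.ext e'))
        (fun e' => hx (e.2 (Subtype.ext e'))))
  have := Nat.card_le_card_of_injective _ hinj
  rw [hU, Nat.card_eq_fintype_card, Fintype.card_bool] at this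
  omega

/-- The centraliser of `X` inside the cores of its nonidentity elements. -/
def N (X : Subgroup G) : Subgroup G :=
  Subgroup.centralizer (X : Set G) ⊓ ⨅ x ∈ X, ⨅ _ : x ≠ 1, O x

theorem mem_N {X : Subgroup G} {d : G} :
    d ∈ N X ↔ d ∈ Subgroup.centralizer (X : Set G) ∧ ∀ x ∈ X, x ≠ 1 → d ∈ O x := by
  simp [N, Subgroup.mem_inf, Subgroup.mem_iInf]

theorem N_anti {U Q : Subgroup G} (h : U ≤ Q) : N Q ≤ N U := fun d hd => by
  rw [mem_N] at hd ⊢
  exact ⟨Subgroup.centralizer_le (SetLike.coe_subset_coe.2 h) hd.1, fun x hx => hd.2 x (h hx)⟩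

theorem N_le_cent (X : Subgroup G) : N X ≤ Subgroup.centralizer (X : Set G) := inf_le_left

theorem cj_O_le (x g : G) : cj (O x) g ≤ O (g * x * g⁻¹) := by
  set C' := Subgroup.centralizer ({g * x * g⁻¹} : Set G)
  have hC : cj (Subgroup.centralizer ({x} : Set G)) g ≤ C' := by
    intro y hy
    rw [mem_cj, Subgroup.mem_centralizer_singleton_iff] at hy
    rw [Subgroup.mem_centralizer_singleton_iff]
    calc y * (g * x * g⁻¹) = g * (g⁻¹ * y * g * x) * g⁻¹ := by group
      _ = g * (x * (g⁻¹ * y * g)) * g⁻¹ := by rw [hy]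
      _ = g * x * g⁻¹ * y := by group
  have hle : cj (O x) g ≤ C' := (Fusion.cj_mono (O_le x) g).trans hC
  have hn : C' ≤ Subgroup.normalizer (cj (O x) g : Set G) := by
    intro y hy
    rw [← Fusion.cj_normalizer, mem_cj]
    refine O_normalized x ?_
    rw [Subgroup.mem_centralizer_singleton_iff] at hy ⊢
    calc g⁻¹ * y * g * x = g⁻¹ * (y * (g * x * g⁻¹)) * g := by group
      _ = g⁻¹ * (g * x * g⁻¹ * y) * g := by rw [hy]
      _ = x * (g⁻¹ * y * g) := by group
  haveI : ((cj (O x) g).subgroupOf C').Normal := Subgroup.normal_subgroupOf_of_le_normalizer hn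
  rw [← Subgroup.map_subgroupOf_eq_of_le hle]
  refine Subgroup.map_mono (Fusion.le_pPrimeCore (Nat.coprime_two_right.2 ?_))
  rw [← Solv.card_map_subtype, Subgroup.map_subgroupOf_eq_of_le hle, Fusion.card_cj]
  exact O_odd x

theorem cj_N_le (X : Subgroup G) (g : G) : cj (N X) g ≤ N (cj X g) := by
  intro d hd
  rw [mem_cj, mem_N] at hd
  rw [mem_N]
  constructor
  · rw [Subgroup.mem_centralizer_iff]
    intro y hy
    have := Subgroup.mem_centralizer_iff.1 hd.1 _ (mem_cj.1 hy)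
    calc y * d = g * (g⁻¹ * y * g * (g⁻¹ * d * g)) * g⁻¹ := by group
      _ = g * (g⁻¹ * d * g * (g⁻¹ * y * g)) * g⁻¹ := by rw [this]
      _ = d * y := by group
  · intro y hy hy1
    have h1 := hd.2 _ (mem_cj.1 hy) (fun e => hy1 (by
      calc y = g * (g⁻¹ * y * g) * g⁻¹ := by group
        _ = 1 := by rw [e]; group))
    have := cj_O_le (g⁻¹ * y * g) g (mem_cj.2 h1 : d ∈ cj (O (g⁻¹ * y * g)) g)
    rwa [show g * (g⁻¹ * y * g) * g⁻¹ = y by group] at this

/-- The group generated by the signalizers of the hyperplanes of `E`. -/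
def W (E : Subgroup G) : Subgroup G := ⨆ R ∈ CycQuot E, N R

theorem N_le_W {E R : Subgroup G} (hR : R ∈ CycQuot E) : N R ≤ W E :=
  le_iSup₂ (f := fun R _ => N R) R hR

theorem cyc_cj {E R : Subgroup G} (hR : R ∈ CycQuot E) (g : G) : cj R g ∈ CycQuot (cj E g) := by
  obtain ⟨hRE, a, ha, hsup⟩ := hR
  refine ⟨Fusion.cj_mono hRE g, g * a * g⁻¹, Fusion.conj_mem_cj ha, ?_⟩
  rw [← hsup, Fusion.cj_sup]
  congr 1
  exact (MonoidHom.map_zpowers (MulAut.conj g).toMonoidHom a).symm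

theorem cj_W_le (E : Subgroup G) (g : G) : cj (W E) g ≤ W (cj E g) := by
  rw [Fusion.cj_le_iff, W]
  refine iSup₂_le fun R hR => ?_
  rw [← Fusion.cj_le_iff]
  exact (cj_N_le R g).trans (N_le_W (cyc_cj hR g))

namespace Ctx

/-- Two commuting fours groups of elements conjugate into `A`, respectively `B`. -/
structure Config (c : Ctx G) (U V : Subgroup G) : Prop where
  cardU : Nat.card U = 4
  cardV : Nat.card V = 4
  sqU : ∀ x ∈ U, x * x = 1
  sqV : ∀ x ∈ V, x * x = 1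
  isA : ∀ x ∈ U, c.IsA x
  isB : ∀ x ∈ V, c.IsB x
  comm : ∀ x ∈ U, ∀ y ∈ V, x * y = y * x

variable {c : Ctx G} {U V : Subgroup G}

theorem Config.symm (h : c.Config U V) : c.swap.Config V U :=
  ⟨h.cardV, h.cardU, h.sqV, h.sqU, h.isB, h.isA, fun y hy x hx => (h.comm x hx y hy).symm⟩

theorem Config.disjoint (h : c.Config U V) : U ⊓ V = ⊥ :=
  eq_bot_iff.2 fun x hx => Subgroup.mem_bot.2 (c.eq_one_of_both (h.isA x hx.1) (h.isB x hx.2))

theorem Config.le_normalizer (h : c.Config U V) : V ≤ Subgroup.normalizer (U : Set G) :=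
  le_trans (fun y hy => Subgroup.mem_centralizer_iff.2 fun x hx => h.comm x hx y hy)
    (Subgroup.centralizer_le_normalizer _)

theorem Config.exists_mul (h : c.Config U V) {g : G} (hg : g ∈ U ⊔ V) :
    ∃ x ∈ U, ∃ y ∈ V, g = x * y := by
  have hg' : g ∈ ((U ⊔ V : Subgroup G) : Set G) := hg
  rw [Subgroup.coe_mul_of_right_le_normalizer_left U V h.le_normalizer] at hg'
  obtain ⟨x, hx, y, hy, rfl⟩ := hg'
  exact ⟨x, hx, y, hy, rfl⟩

theorem Config.sq (h : c.Config U V) : ∀ g ∈ U ⊔ V, g * g = 1 := by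
  intro g hg
  obtain ⟨x, hx, y, hy, rfl⟩ := h.exists_mul hg
  rw [mul_assoc, ← mul_assoc y, ← h.comm x hx y hy, mul_assoc, h.sqV y hy, mul_one, h.sqU x hx]

theorem Config.commute (h : c.Config U V) {x y : G} (hx : x ∈ U ⊔ V) (hy : y ∈ U ⊔ V) :
    x * y = y * x :=
  commute_of_sq h.sq hx hy

theorem Config.elementary (h : c.Config U V) : Cfsg.IsElementaryAbelian 2 (U ⊔ V) :=
  ⟨comm_of_sq h.sq, fun g hg => by rw [pow_two]; exact h.sq g hg⟩

theorem Config.card_le (h : c.Config U V) : 2 ^ 3 ≤ Nat.card (U ⊔ V : Subgroup G) := by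
  have hinj : Function.Injective fun p : U × V =>
      (⟨(p.1 : G) * p.2, Subgroup.mul_mem _ (Subgroup.mem_sup_left p.1.2) (Subgroup.mem_sup_right p.2.2)⟩ :
        (U ⊔ V : Subgroup G)) := by
    rintro ⟨x, y⟩ ⟨x', y'⟩ e
    simp only [Subtype.mk.injEq] at e
    have h1 : (x'⁻¹ : G) * x ∈ U ⊓ V := by
      refine ⟨U.mul_mem (U.inv_mem x'.2) x.2, ?_⟩
      rw [show (x' : G)⁻¹ * x = y' * (y : G)⁻¹ by rw [eq_mul_inv_iff_mul_eq, mul_assoc, e, inv_mul_cancel_left]]
      exact V.mul_mem y'.2 (V.inv_mem y.2)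
    rw [h.disjoint, Subgroup.mem_bot, inv_mul_eq_one] at h1
    rw [← h1] at e
    rw [Subtype.ext h1, Subtype.ext (mul_left_cancel e)]
  have := Nat.card_le_card_of_injective _ hinj
  rw [Nat.card_prod, h.cardU, h.cardV] at this
  omega

/-- A hyperplane of `U ⊔ V` meets `U`. -/
theorem Config.meetU (h : c.Config U V) {R : Subgroup G} (hR : R ∈ CycQuot (U ⊔ V)) :
    ∃ x ∈ R, x ∈ U ∧ x ≠ 1 :=
  exists_mem_cyc h.sq hR le_sup_left h.cardU

/-- A hyperplane of `U ⊔ V` meets `V`. -/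
theorem Config.meetV (h : c.Config U V) {R : Subgroup G} (hR : R ∈ CycQuot (U ⊔ V)) :
    ∃ x ∈ R, x ∈ V ∧ x ≠ 1 :=
  exists_mem_cyc h.sq hR le_sup_right h.cardV

/-- Elements centralising `w` in the cores of `a` and `b`. -/
theorem Config.both (h : c.Config U V) {a b w d : G} (ha : a ∈ U) (hb : b ∈ V) (hw : w ∈ U ⊔ V)
    (hw1 : w ≠ 1) (hdw : d * w = w * d) (hda : d ∈ O a) (hdb : d ∈ O b) : d ∈ O w :=
  c.local_both hw1 (h.isA a ha) (h.isB b hb) (h.commute (Subgroup.mem_sup_left ha) hw)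
    (h.commute (Subgroup.mem_sup_right hb) hw) (h.comm a ha b hb) (h.sqU a ha) (h.sqV b hb) hdw hda hdb

/-- Elements of `N R` centralising `w` lie in its core. -/
theorem Config.mem_O_of_N (h : c.Config U V) {R : Subgroup G} (hR : R ∈ CycQuot (U ⊔ V)) {w d : G}
    (hw : w ∈ U ⊔ V) (hw1 : w ≠ 1) (hd : d ∈ N R) (hdw : d * w = w * d) : d ∈ O w := by
  obtain ⟨a, haR, haU, ha1⟩ := h.meetU hR
  obtain ⟨b, hbR, hbV, hb1⟩ := h.meetV hR
  rw [mem_N] at hd
  exact h.both haU hbV hw hw1 hdw (hd.2 a haR ha1) (hd.2 b hbR hb1)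

theorem Config.genHyp (h : c.Config U V) : GenHyp (U ⊔ V) (N : Subgroup G → Subgroup G) where
  comm := comm_of_sq h.sq
  sq := h.sq
  anti := fun U' Q hUQ _ => N_anti hUQ
  cent := fun U' _ => N_le_cent U'
  norm := fun U' _ g hg => by
    refine mem_normalizer_of_cj_le fun d hd => ?_
    have hfix : ∀ x ∈ U', g * x * g⁻¹ = x := fun x hx => by
      rw [← Subgroup.mem_centralizer_iff.1 hg x hx, mul_inv_cancel_right]
    have e : cj U' g = U' := cj_eq_self (Subgroup.centralizer_le_normalizer _ hg)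
    exact e ▸ cj_N_le U' g hd
  zero := fun R hR d hd hdE => by
    rw [mem_N]
    exact ⟨hdE, fun w hw hw1 => h.mem_O_of_N hR hw hw1 hd (Subgroup.mem_centralizer_iff.1 hdE w hw).symm⟩
  inverted := fun R hR P hP Q hQ hPQ d hd hdR g hg hgR hinv hodd => by
    rw [mem_N] at hd ⊢
    refine ⟨hdR, fun w hw hw1 => ?_⟩
    have hwE := hR.1 hw
    have hdw : d * w = w * d := (Subgroup.mem_centralizer_iff.1 hdR w hw).symm
    have hinvall : ∀ g' ∈ U ⊔ V, g' ∉ R → g' * d * g'⁻¹ = d⁻¹ := by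
      intro g' hg' hg'R
      have hr : g * g' ∈ R := mul_mem_cyc h.sq hR hg hg' ⟨fun e => absurd e hgR, fun e => absurd e hg'R⟩
      have hgg : g' = g * (g * g') := by rw [← mul_assoc, h.sq g hg, one_mul]
      rw [hgg, show g * (g * g') * d * (g * (g * g'))⁻¹ = g * ((g * g') * d * (g * g')⁻¹) * g⁻¹ by group,
        Subgroup.mem_centralizer_iff.1 hdR _ hr, mul_inv_cancel_right, hinv]
    have hmeet : ∀ {X Y : Subgroup G}, X ≤ U ⊔ V → Y ≤ U ⊔ V → Nat.card Y = 4 → Y ≤ R → ¬ X ≤ R →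
        ∃ v ∈ P ⊓ Q, v ∈ Y ∧ v ≠ 1 := by
      intro X Y hX hY hcard hYR hXR
      classical
      by_contra hcon
      push Not at hcon
      obtain ⟨x, hx, hxR⟩ := SetLike.not_le_iff_exists.1 hXR
      haveI := Fintype.ofFinite Y
      let f : Y → Bool × Bool := fun y => (decide ((y : G) ∈ P), decide ((y : G) ∈ Q))
      have hinj : Function.Injective f := by
        intro y y' e
        simp only [f, Prod.mk.injEq, decide_eq_decide] at e
        have h1 := hcon _ ⟨mul_mem_cyc h.sq hP (hY y.2) (hY y'.2) e.1,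
          mul_mem_cyc h.sq hQ (hY y.2) (hY y'.2) e.2⟩ (Y.mul_mem y.2 y'.2)
        refine Subtype.ext ?_
        rw [mul_eq_one_iff_eq_inv] at h1
        rw [h1, inv_eq_of_mul_eq_one_right (h.sq y' (hY y'.2))]
      have hsurj : Function.Surjective f :=
        ((Fintype.bijective_iff_injective_and_card f).2 ⟨hinj, by
          rw [← Nat.card_eq_fintype_card, hcard]; simp⟩).2
      obtain ⟨y, hy⟩ := hsurj (decide (x ∈ P), decide (x ∈ Q))
      simp only [f, Prod.mk.injEq, decide_eq_decide] at hy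
      have h1 : (y : G) * x ∈ R :=
        hPQ ⟨mul_mem_cyc h.sq hP (hY y.2) (hX hx) hy.1, mul_mem_cyc h.sq hQ (hY y.2) (hX hx) hy.2⟩
      exact hxR (by simpa using R.mul_mem (R.inv_mem (hYR y.2)) h1)
    by_cases hVR : V ≤ R
    · have hUR : ¬ U ≤ R := fun hUR => hgR (sup_le hUR hVR hg)
      obtain ⟨v, hvPQ, hvV, hv1⟩ := hmeet le_sup_left le_sup_right h.cardV hVR hUR
      obtain ⟨u', hu', hu'R⟩ := SetLike.not_le_iff_exists.1 hUR
      exact c.local_inverted_A hw1 (h.isA u' hu') (h.isB v hvV) (h.commute (Subgroup.mem_sup_left hu') hwE)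
        (h.commute (Subgroup.mem_sup_right hvV) hwE) (h.comm u' hu' v hvV) (h.sqU u' hu') (h.sqV v hvV)
        hdw (hd.2 v hvPQ hv1) (hinvall u' (Subgroup.mem_sup_left hu') hu'R)
    obtain ⟨v', hv', hv'R⟩ := SetLike.not_le_iff_exists.1 hVR
    by_cases hUR : U ≤ R
    · obtain ⟨a, haPQ, haU, ha1⟩ := hmeet le_sup_right le_sup_left h.cardU hUR hVR
      exact c.local_inverted_B hw1 (h.isA a haU) (h.isB v' hv') (h.commute (Subgroup.mem_sup_left haU) hwE)
        (h.commute (Subgroup.mem_sup_right hv') hwE) (h.comm a haU v' hv') (h.sqU a haU) (h.sqV v' hv')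
        hdw (hd.2 a haPQ ha1) (hinvall v' (Subgroup.mem_sup_right hv') hv'R)
    obtain ⟨u', hu', hu'R⟩ := SetLike.not_le_iff_exists.1 hUR
    exact c.local_inverted hw1 (h.isA u' hu') (h.isB v' hv') (h.commute (Subgroup.mem_sup_left hu') hwE)
      (h.commute (Subgroup.mem_sup_right hv') hwE) (h.comm u' hu' v' hv') (h.sqU u' hu') (h.sqV v' hv')
      hdw (hinvall u' (Subgroup.mem_sup_left hu') hu'R) (hinvall v' (Subgroup.mem_sup_right hv') hv'R) hodd

theorem Config.W_invariant (h : c.Config U V) : U ⊔ V ≤ Subgroup.normalizer (W (U ⊔ V) : Set G) :=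
  fun _ hg => Solv.normalizer_biSup_le _ _ fun _ hR => h.genHyp.invariant hR.1 hg

/-- The group generated by the signalizers is odd and meets centralisers in signalizers. -/
theorem Config.W_spec (h : c.Config U V) : Odd (Nat.card (W (U ⊔ V))) ∧
    ∀ R ∈ CycQuot (U ⊔ V), W (U ⊔ V) ⊓ Subgroup.centralizer (R : Set G) ≤ N R := by
  haveI : Fact (Nat.Prime 2) := ⟨Nat.prime_two⟩
  set E := U ⊔ V with hE
  let θ : G → Subgroup G := fun x => ⨆ R ∈ CycQuot E, ⨆ _ : x ∈ R, N R
  have hleθ : ∀ {R : Subgroup G}, R ∈ CycQuot E → ∀ {x : G}, x ∈ R → N R ≤ θ x := fun {R} hR {x} hx =>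
    le_iSup₂_of_le (f := fun R _ => ⨆ _ : x ∈ R, N R) R hR
      (le_iSup (fun _ : x ∈ R => N R) hx)
  have hθO : ∀ {a : G}, a ≠ 1 → θ a ≤ O a := fun {a} ha1 =>
    iSup₂_le fun R _ => iSup_le fun haR d hd => (mem_N.1 hd).2 a haR ha1
  have hθodd : ∀ {a : G}, a ≠ 1 → Odd (Nat.card (θ a)) := fun {a} ha1 => odd_le (O_odd a) (hθO ha1)
  have hθinv : ∀ a : G, E ≤ Subgroup.normalizer (θ a : Set G) := fun a g hg => by
    refine Solv.normalizer_biSup_le _ _ fun R hR => ?_
    by_cases haR : a ∈ R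
    · rw [show (⨆ _ : a ∈ R, N R) = N R from iSup_pos haR]
      exact h.genHyp.invariant hR.1 hg
    · rw [show (⨆ _ : a ∈ R, N R) = ⊥ from iSup_neg haR, Subgroup.normalizer_eq_top]
      exact Subgroup.mem_top g
  have hθ : Cfsg.IsSolvableSignalizerFunctor 2 E θ := by
    refine ⟨⟨fun a _ ha1 => (hθO ha1).trans (O_le a),
      fun a _ ha1 => (hθodd ha1).not_two_dvd_nat,
      fun a _ _ b hb x hx => Solv.conj_mem_of_mem_normalizer (hθinv a hb) hx,
      fun a ha ha1 b hb hb1 => ?_⟩, fun a _ ha1 => solvable_of_odd (hθodd ha1)⟩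
    set Y := θ a ⊓ Subgroup.centralizer ({b} : Set G) with hY
    have hYE : E ≤ Subgroup.normalizer (Y : Set G) := fun g hg =>
      normalizer_inf_le (hθinv a hg) (Subgroup.le_normalizer
        (Subgroup.mem_centralizer_singleton_iff.2 (h.commute hg hb)))
    rw [← Solv.gen_eq E Y h.genHyp.comm hYE (coprime_of_sq h.sq (odd_le (hθodd ha1) inf_le_left))]
    refine iSup₂_le fun R₀ hR₀ => ?_
    have hab : Subgroup.closure {a, b} ≤ E := (Subgroup.closure_le _).2 (by rintro x (rfl | rfl) <;> assumption)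
    set R := R₀ ⊔ Subgroup.closure {a, b} with hR
    have hRmem : R ∈ CycQuot E := h.genHyp.cyc_sup hR₀ hab
    intro d hd
    have hdR : d ∈ Subgroup.centralizer (R : Set G) := by
      have : R ≤ Subgroup.centralizer ({d} : Set G) := by
        refine sup_le (fun r hr => Subgroup.mem_centralizer_singleton_iff.2
          (Subgroup.mem_centralizer_iff.1 hd.2 r hr)) ((Subgroup.closure_le _).2 ?_)
        rintro x (rfl | rfl)
        · exact Subgroup.mem_centralizer_singleton_iff.2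
            (Subgroup.mem_centralizer_singleton_iff.1 ((hθO ha1).trans (O_le x) hd.1.1)).symm
        · exact Subgroup.mem_centralizer_singleton_iff.2
            (Subgroup.mem_centralizer_singleton_iff.1 hd.1.2).symm
      rw [Subgroup.mem_centralizer_iff]
      exact fun r hr => Subgroup.mem_centralizer_singleton_iff.1 (this hr)
    have hgen : θ a ≤ ⨆ R ∈ CycQuot E, θ a ⊓ N R := iSup₂_le fun R' hR' => iSup_le fun haR' =>
      le_iSup₂_of_le (f := fun R _ => θ a ⊓ N R) R' hR' (le_inf (hleθ hR' haR') le_rfl)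
    exact hleθ hRmem (Subgroup.mem_sup_right (Subgroup.subset_closure (Or.inr rfl)))
      (h.genHyp.fixed_le (θ a) (hθodd ha1) (solvable_of_odd (hθodd ha1)) (hθinv a) hgen hRmem ⟨hd.1.1, hdR⟩)
  have hfam := (SSF.complete h.elementary h.card_le hθ).1
  have hW : (⨆ a : {a : G // a ∈ E ∧ a ≠ 1}, θ a) = W E := by
    refine le_antisymm (iSup_le fun a => iSup₂_le fun R hR => iSup_le fun _ => N_le_W hR)
      (iSup₂_le fun R hR => ?_)
    obtain ⟨x, hxR, -, hx1⟩ := h.meetU hR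
    exact (hleθ hR hxR).trans (le_iSup (fun a : {a : G // a ∈ E ∧ a ≠ 1} => θ a) ⟨x, hR.1 hxR, hx1⟩)
  rw [hW] at hfam
  have hodd : Odd (Nat.card (W E)) :=
    Nat.not_even_iff_odd.1 fun he => hfam.2.1 he.two_dvd
  refine ⟨hodd, fun R hR => h.genHyp.fixed_le (W E) hodd hfam.1 h.W_invariant ?_ hR⟩
  exact iSup₂_le fun R' hR' => le_iSup₂_of_le (f := fun R _ => W E ⊓ N R) R' hR' (le_inf (N_le_W hR') le_rfl)

theorem Config.delta_le (h : c.Config U V) {a b : G} (ha : a ∈ U) (hb : b ∈ V) :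
    O a ⊓ O b ≤ W (U ⊔ V) := by
  set E := U ⊔ V with hE
  have hEn : E ≤ Subgroup.normalizer ((O a ⊓ O b : Subgroup G) : Set G) := fun g hg =>
    normalizer_inf_le
      (O_normalized a (Subgroup.mem_centralizer_singleton_iff.2 (h.commute hg (Subgroup.mem_sup_left ha))))
      (O_normalized b (Subgroup.mem_centralizer_singleton_iff.2 (h.commute hg (Subgroup.mem_sup_right hb))))
  rw [← Solv.gen_eq E _ h.genHyp.comm hEn (coprime_of_sq h.sq (odd_le (O_odd a) inf_le_left))]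
  refine iSup₂_le fun R hR => le_trans ?_ (N_le_W hR)
  intro d hd
  rw [mem_N]
  exact ⟨hd.2, fun w hw hw1 =>
    h.both ha hb (hR.1 hw) hw1 (Subgroup.mem_centralizer_iff.1 hd.2 w hw).symm hd.1.1 hd.1.2⟩

/-- The commutator of the core of `a ∈ U` with `V` lies in `W`. -/
theorem Config.comm_le_W (h : c.Config U V) {a : G} (ha : a ∈ U) : ⁅O a, V⁆ ≤ W (U ⊔ V) := by
  set E := U ⊔ V
  have hVn : V ≤ Subgroup.normalizer (O a : Set G) := fun g hg =>
    O_normalized a (Subgroup.mem_centralizer_singleton_iff.2 (h.comm a ha g hg).symm)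
  rw [← Solv.gen_commutator_eq V (O a) (comm_of_sq h.sqV) hVn (coprime_of_sq h.sqV (O_odd a))]
  refine iSup₂_le fun B hB => Subgroup.commutator_le.2 fun k hk y hy => ?_
  obtain ⟨b, hbB, hbV, hb1⟩ := exists_mem_cyc h.sqV hB le_rfl h.cardV
  have hd : ⁅k, y⁆ ∈ O a := by
    rw [commutatorElement_def]
    exact Solv.comm_mem_of_mem_normalizer (hVn hy) hk.1
  have hdb : ⁅k, y⁆ * b = b * ⁅k, y⁆ := by
    have h2 : Commute b k := Subgroup.mem_centralizer_iff.1 hk.2 b hbB
    have h3 : Commute b y := h.commute (Subgroup.mem_sup_right hbV) (Subgroup.mem_sup_right hy)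
    rw [commutatorElement_def]
    exact (((h2.mul_right h3).mul_right h2.inv_right).mul_right h3.inv_right).eq.symm
  have hyi : y⁻¹ = y := inv_eq_of_mul_eq_one_right (h.sqV y hy)
  have hinv : y * ⁅k, y⁆ * y⁻¹ = ⁅k, y⁆⁻¹ := by
    rw [commutatorElement_inv, commutatorElement_def, commutatorElement_def, hyi]
    rw [show y * (k * y * k⁻¹ * y) * y = y * k * y * k⁻¹ * (y * y) by group, h.sqV y hy, mul_one]
  exact h.delta_le ha hbV ⟨hd, c.local_inverted_B hb1 (h.isA a ha) (h.isB y hy) (h.comm a ha b hbV)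
    (h.commute (Subgroup.mem_sup_right hy) (Subgroup.mem_sup_right hbV)) (h.comm a ha y hy) (h.sqU a ha)
    (h.sqV y hy) hdb hd hinv⟩

/-- Elements of the core of `a ∈ U` inverted by an element of `V` lie in `W`. -/
theorem Config.inverted_mem_W (h : c.Config U V) {a x e : G} (ha : a ∈ U) (hx : x ∈ V)
    (he : e ∈ O a) (hex : x * e * x⁻¹ = e⁻¹) : e ∈ W (U ⊔ V) := by
  refine mem_of_sq_mem (odd_orderOf_of_mem (O_odd a) he) ?_
  have h1 : e * e = ⁅e, x⁆ := by
    rw [commutatorElement_def, mul_assoc e x, mul_assoc e]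
    congr 1
    rw [show x * e⁻¹ * x⁻¹ = (x * e * x⁻¹)⁻¹ by group, hex, inv_inv]
  rw [h1]
  exact h.comm_le_W ha (Subgroup.commutator_mem_commutator he hx)

/-- Configurations sharing `V` and an involution of `U` have the same group `W`. -/
theorem Config.share_le {U' : Subgroup G} (h : c.Config U V) (h' : c.Config U' V) {u : G} (hu : u ∈ U)
    (hu' : u ∈ U') (hu1 : u ≠ 1) : W (U ⊔ V) ≤ W (U' ⊔ V) := by
  refine iSup₂_le fun R hR => ?_
  have hVn : V ≤ Subgroup.normalizer (N R : Set G) :=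
    le_sup_right.trans (h.genHyp.invariant hR.1)
  have hRodd : Odd (Nat.card (N R)) := by
    obtain ⟨a, haR, -, ha1⟩ := h.meetU hR
    exact odd_le (O_odd a) fun d hd => (mem_N.1 hd).2 a haR ha1
  rw [← Solv.gen_eq V (N R) (comm_of_sq h.sqV) hVn (coprime_of_sq h.sqV hRodd)]
  refine iSup₂_le fun B hB => ?_
  obtain ⟨y, hyB, hyV, hy1⟩ := exists_mem_cyc h.sqV hB le_rfl h.cardV
  set Y := N R ⊓ Subgroup.centralizer ({y} : Set G) with hY
  have hle : N R ⊓ Subgroup.centralizer (B : Set G) ≤ Y :=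
    inf_le_inf_left _ (Subgroup.centralizer_le (Set.singleton_subset_iff.2 hyB))
  refine hle.trans ?_
  have huy : u * y = y * u := h.comm u hu y hyV
  have hun : Subgroup.zpowers u ≤ Subgroup.normalizer (Y : Set G) := Subgroup.zpowers_le.2
    (normalizer_inf_le (h.genHyp.invariant hR.1 (Subgroup.mem_sup_left hu))
      (Subgroup.le_normalizer (Subgroup.mem_centralizer_singleton_iff.2 huy)))
  have hsq : ∀ g ∈ Subgroup.zpowers u, g * g = 1 := by
    rintro _ ⟨i, rfl⟩
    rw [← (Commute.refl u).mul_zpow, h.sqU u hu, one_zpow]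
  have hsol : Group.IsSolvable (Subgroup.zpowers u) :=
    Group.isSolvable_of_comm fun s t => Subtype.ext (commute_of_sq hsq s.2 t.2)
  rw [← Solv.commutator_sup_fixed hun (coprime_of_sq hsq (odd_le hRodd inf_le_left)) (Or.inl hsol)]
  refine sup_le (Subgroup.commutator_le.2 fun k hk z hz => ?_) ?_
  · have hzU : z ∈ U := Subgroup.zpowers_le.2 hu hz
    have hzU' : z ∈ U' := Subgroup.zpowers_le.2 hu' hz
    have hmem : ⁅k, z⁆ ∈ Y := by
      rw [commutatorElement_def]
      exact Solv.comm_mem_of_mem_normalizer (hun hz) hk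
    have hOy : ⁅k, z⁆ ∈ O y := h.mem_O_of_N hR (Subgroup.mem_sup_right hyV) hy1 hmem.1
      (Subgroup.mem_centralizer_singleton_iff.1 hmem.2)
    have hzi : z⁻¹ = z := inv_eq_of_mul_eq_one_right (h.sqU z hzU)
    have hinv : z * ⁅k, z⁆ * z⁻¹ = ⁅k, z⁆⁻¹ := by
      rw [commutatorElement_inv, commutatorElement_def, commutatorElement_def, hzi]
      rw [show z * (k * z * k⁻¹ * z) * z = z * k * z * k⁻¹ * (z * z) by group, h.sqU z hzU, mul_one]
    have := h'.symm.inverted_mem_W hyV hzU' hOy hinv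
    rwa [sup_comm] at this
  · intro d hd
    have hdu : d * u = u * d :=
      (Subgroup.mem_centralizer_iff.1 hd.2 u (Subgroup.mem_zpowers u)).symm
    exact h'.delta_le hu' hyV ⟨h.mem_O_of_N hR (Subgroup.mem_sup_left hu) hu1 hd.1.1 hdu,
      h.mem_O_of_N hR (Subgroup.mem_sup_right hyV) hy1 hd.1.1
        (Subgroup.mem_centralizer_singleton_iff.1 hd.1.2)⟩

theorem Config.share_A {U' : Subgroup G} (h : c.Config U V) (h' : c.Config U' V) {u : G} (hu : u ∈ U)
    (hu' : u ∈ U') (hu1 : u ≠ 1) : W (U ⊔ V) = W (U' ⊔ V) :=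
  le_antisymm (h.share_le h' hu hu' hu1) (h'.share_le h hu' hu hu1)

theorem Config.share_B {V' : Subgroup G} (h : c.Config U V) (h' : c.Config U V') {v : G} (hv : v ∈ V)
    (hv' : v ∈ V') (hv1 : v ≠ 1) : W (U ⊔ V) = W (U ⊔ V') := by
  rw [sup_comm U V, sup_comm U V']
  exact h.symm.share_A h'.symm hv hv' hv1

/-- A conjugate of a configuration is one. -/
theorem Config.cj (h : c.Config U V) (g : G) : c.Config (Fusion.cj U g) (Fusion.cj V g) := by
  refine ⟨by rw [Fusion.card_cj]; exact h.cardU, by rw [Fusion.card_cj]; exact h.cardV, ?_, ?_, ?_, ?_, ?_⟩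
  · rintro _ ⟨x, hx, rfl⟩
    rw [← map_mul, h.sqU x hx, map_one]
  · rintro _ ⟨x, hx, rfl⟩
    rw [← map_mul, h.sqV x hx, map_one]
  · rintro _ ⟨x, hx, rfl⟩
    obtain ⟨k, hk⟩ := h.isA x hx
    exact ⟨k * g⁻¹, by simpa [mul_assoc] using hk⟩
  · rintro _ ⟨x, hx, rfl⟩
    obtain ⟨k, hk⟩ := h.isB x hx
    exact ⟨k * g⁻¹, by simpa [mul_assoc] using hk⟩
  · rintro _ ⟨x, hx, rfl⟩ _ ⟨y, hy, rfl⟩
    rw [← map_mul, h.comm x hx y hy, map_mul]

end Ctx

end Cfsg.Agent.StrongProd
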