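import Cfsg.Agent.Lib.Fusion.Product.DihFourSetup

/-!
Fusion of reflections when the second factor is a four group.
-/

set_option autoImplicit false
set_option linter.style.haveILetI false
set_option linter.unusedSectionVars false

open scoped commutatorElement

namespace Cfsg.Agent.StrongProd

open Cfsg.Agent.Fusion (cj mem_cj SylIn)

universe u

variable {G : Type u} [Group G] [Finite G]

/-- Fusion data at the noncentral involution `w`: it is fused to `z`, and its translates by `U` follow the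
translates of `z`. -/
structure FusData (S : Sylow 2 G) (V : Subgroup G) (r : G) (n : ℕ) (w : G) (U : Subgroup G) : Prop where
  memS : w ∈ (S : Subgroup G)
  ncen : ¬ Cen V r n w
  sq : w * w = 1
  conjz : IsConj w (r ^ (2 * n))
  cen : ∀ f ∈ U, Cen V r n f
  nz : r ^ (2 * n) ∉ U
  cover : ∀ c, Cen V r n c → c ∈ U ∨ c * r ^ (2 * n) ∈ U
  trans : ∀ f ∈ U, IsConj (w * f) (f * r ^ (2 * n))

namespace FFrame

variable {S : Sylow 2 G} {D V : Subgroup G} {r : G} {n : ℕ} (F : FFrame S D V r n)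
include F

theorem cen_inv {x : G} (hx : Cen V r n x) : x⁻¹ = x := inv_eq_of_mul_eq_one_right (F.cen_sq hx)

theorem cen_memD {a : G} (ha : a ∈ D) (hc : Cen V r n a) : a = 1 ∨ a = r ^ (2 * n) := by
  obtain ⟨α, hα, b, hb, he⟩ := hc
  have hαD : α ∈ D := by rcases hα with rfl | rfl; exacts [D.one_mem, F.h.z_mem]
  rw [(F.eq_split ha V.one_mem hαD hb (by rw [mul_one]; exact he)).1]
  exact hα

theorem refl_ncen {e : G} (heR : e ∉ Subgroup.zpowers r) (he : e ∈ D) {c : G} (hc : Cen V r n c) :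
    ¬ Cen V r n (e * c) := fun h => by
  have h1 := F.cen_mul h hc
  rw [mul_assoc, F.cen_sq hc, mul_one] at h1
  rcases F.cen_memD he h1 with e' | e' <;> rw [e'] at heR
  · exact heR (Subgroup.one_mem _)
  · exact heR F.h.z_rot

theorem refl_comp {x : G} (hx : x ∈ (S : Subgroup G)) (hx2 : x * x = 1) (hn : ¬ Cen V r n x) :
    ∃ e ∈ D, e ∉ Subgroup.zpowers r ∧ ∃ b ∈ V, x = e * b := by
  obtain ⟨a, ha, b, hb, rfl⟩ := F.split hx
  refine ⟨a, ha, ?_, b, hb, rfl⟩
  rw [F.sq_split ha hb] at hx2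
  rcases F.h.invol_cases ha hx2 with h | h | h
  · exact absurd ⟨a, Or.inl h, b, hb, rfl⟩ hn
  · exact absurd ⟨a, Or.inr h, b, hb, rfl⟩ hn
  · exact h

theorem elem_mem {e c : G} (he : e ∈ D) (hc : Cen V r n c) :
    e * c ∈ (S : Subgroup G) ⊓ Subgroup.centralizer ({e} : Set G) ∧
      c ∈ (S : Subgroup G) ⊓ Subgroup.centralizer ({e} : Set G) := by
  have h1 := F.cen_comm hc (F.leD he)
  refine ⟨⟨(S : Subgroup G).mul_mem (F.leD he) (F.cen_memS hc), ?_⟩, F.cen_memS hc,
    Subgroup.mem_centralizer_singleton_iff.2 h1⟩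
  exact Subgroup.mem_centralizer_singleton_iff.2 (by rw [mul_assoc, h1])

theorem elem_count {e : G} (he : e ∈ D) (heR : e ∉ Subgroup.zpowers r) :
    Nat.card ((S : Subgroup G) ⊓ Subgroup.centralizer ({e} : Set G) : Subgroup G) = 16 := by
  classical
  let f : Bool × {c : G // Cen V r n c} → ((S : Subgroup G) ⊓ Subgroup.centralizer ({e} : Set G) : Subgroup G) :=
    fun p => ⟨(if p.1 then e else 1) * p.2, by
      obtain ⟨i, c, hc⟩ := p
      cases i
      · simpa using (F.elem_mem he hc).2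
      · simpa using (F.elem_mem he hc).1⟩
  have hinj : Function.Injective f := by
    rintro ⟨i, c, hc⟩ ⟨j, d, hd⟩ h
    replace h := congrArg Subtype.val h
    simp only [f] at h
    cases i <;> cases j <;> simp only [one_mul, Bool.false_eq_true, ↓reduceIte] at h
    · subst h; rfl
    · exact absurd (h ▸ hc) (F.refl_ncen heR he hd)
    · exact absurd (h ▸ hd) (F.refl_ncen heR he hc)
    · cases mul_left_cancel h; rfl
  have hsurj : Function.Surjective f := by
    rintro ⟨x, hx⟩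
    obtain ⟨-, c, hc, h | h⟩ := F.elem_card he heR x hx
    · exact ⟨(false, ⟨c, hc⟩), Subtype.ext (by simp [f, h])⟩
    · exact ⟨(true, ⟨c, hc⟩), Subtype.ext (by simp [f, h])⟩
  rw [← Nat.card_congr (Equiv.ofBijective f ⟨hinj, hsurj⟩), Nat.card_prod, F.cen_card]
  simp

theorem q_action {e : G} (he : e ∈ D) (heR : e ∉ Subgroup.zpowers r) {c : G} (hc : Cen V r n c) :
    r ^ n * c * (r ^ n)⁻¹ = c ∧ r ^ n * (e * c) * (r ^ n)⁻¹ = e * c * r ^ (2 * n) := by
  have h1 : r ^ n * c = c * r ^ n := (F.cen_comm hc (F.leD F.h.q_mem)).symm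
  refine ⟨by rw [h1, mul_inv_cancel_right], ?_⟩
  calc r ^ n * (e * c) * (r ^ n)⁻¹ = r ^ n * e * (r ^ n)⁻¹ * (r ^ n * c * (r ^ n)⁻¹) := by group
    _ = e * r ^ (2 * n) * c := by rw [F.h.q_conj he heR, h1, mul_inv_cancel_right]
    _ = e * c * r ^ (2 * n) := by
        rw [mul_assoc, mul_assoc, F.cen_comm hc (F.leD F.h.z_mem)]

theorem q_normalizes {e : G} (he : e ∈ D) (heR : e ∉ Subgroup.zpowers r) :
    r ^ n ∈ Subgroup.normalizer (((S : Subgroup G) ⊓ Subgroup.centralizer ({e} : Set G) : Subgroup G) : Set G) := by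
  refine Fusion.mem_normalizer_of_cj_le ?_
  rintro _ ⟨x, hx, rfl⟩
  obtain ⟨-, c, hc, h | h⟩ := F.elem_card he heR x hx
  · show r ^ n * x * (r ^ n)⁻¹ ∈ _
    rw [h, (F.q_action he heR hc).1]
    exact (F.elem_mem he hc).2
  · show r ^ n * x * (r ^ n)⁻¹ ∈ _
    rw [h, (F.q_action he heR hc).2, mul_assoc]
    exact (F.elem_mem he (F.cen_mul hc F.cen_z)).1

theorem normalizer_elem {e : G} (he : e ∈ D) (heR : e ∉ Subgroup.zpowers r) {x : G}
    (hx : x ∈ (S : Subgroup G) ⊓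
      Subgroup.normalizer (((S : Subgroup G) ⊓ Subgroup.centralizer ({e} : Set G) : Subgroup G) : Set G)) :
    (x * e * x⁻¹ = e ∧ x ∈ (S : Subgroup G) ⊓ Subgroup.centralizer ({e} : Set G)) ∨
      x * e * x⁻¹ = e * r ^ (2 * n) := by
  have h1 := Solv.conj_mem_of_mem_normalizer hx.2
    (show e ∈ (S : Subgroup G) ⊓ Subgroup.centralizer ({e} : Set G) from
      ⟨F.leD he, Subgroup.mem_centralizer_singleton_iff.2 rfl⟩)
  obtain ⟨a, ha, b, hb, hab⟩ := F.split hx.1
  have hbe : b * e * b⁻¹ = e := by rw [← F.comm he hb, mul_inv_cancel_right]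
  have hxe : x * e * x⁻¹ = a * e * a⁻¹ := by
    rw [hab, show a * b * e * (a * b)⁻¹ = a * (b * e * b⁻¹) * a⁻¹ by group, hbe]
  rw [hxe] at h1 ⊢
  have haeD : a * e * a⁻¹ ∈ D := D.mul_mem (D.mul_mem ha he) (D.inv_mem ha)
  have hnR : a * e * a⁻¹ ∉ Subgroup.zpowers r := by
    intro hR
    rcases F.h.rot_invol hR (by
      rw [show a * e * a⁻¹ * (a * e * a⁻¹) = a * (e * e) * a⁻¹ by group, (F.h.refl e he heR).1]; group) with
      h | h
    · exact heR (conj_eq_one_iff.1 h ▸ Subgroup.one_mem _)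
    · rw [mul_inv_eq_iff_eq_mul, ← F.h.z_cent ha] at h
      exact heR (mul_left_cancel h ▸ F.h.z_rot)
  rcases F.h.cent_refl he heR haeD (Subgroup.mem_centralizer_singleton_iff.1 h1.2).symm with h | h | h | h
  · exact absurd (h ▸ Subgroup.one_mem _) hnR
  · exact absurd (h ▸ F.h.z_rot) hnR
  · refine Or.inl ⟨h, hx.1, Subgroup.mem_centralizer_singleton_iff.2 ?_⟩
    rw [← hxe, mul_inv_eq_iff_eq_mul] at h
    exact h
  · exact Or.inr h

theorem normalizer_count {e : G} (he : e ∈ D) (heR : e ∉ Subgroup.zpowers r) :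
    Nat.card ((S : Subgroup G) ⊓
      Subgroup.normalizer (((S : Subgroup G) ⊓ Subgroup.centralizer ({e} : Set G) : Subgroup G) : Set G) :
        Subgroup G) = 32 := by
  classical
  set T := (S : Subgroup G) ⊓ Subgroup.centralizer ({e} : Set G) with hT
  set N := (S : Subgroup G) ⊓ Subgroup.normalizer (T : Set G)
  have hq : r ^ n ∈ N := ⟨F.leD F.h.q_mem, F.q_normalizes he heR⟩
  have hTN : T ≤ N := le_inf inf_le_left Subgroup.le_normalizer
  have hqe : r ^ n * e * (r ^ n)⁻¹ = e * r ^ (2 * n) := F.h.q_conj he heR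
  let f : Bool × T → N := fun p => ⟨(if p.1 then r ^ n else 1) * p.2, by
    obtain ⟨i, t⟩ := p
    cases i
    · simpa using hTN t.2
    · simpa using N.mul_mem hq (hTN t.2)⟩
  have hqT : r ^ n ∉ T := fun h => by
    have h1 := (F.elem_card he heR _ h).1
    exact F.h.q_sq_ne h1
  have hinj : Function.Injective f := by
    rintro ⟨i, t⟩ ⟨j, t'⟩ h
    replace h := congrArg Subtype.val h
    simp only [f] at h
    cases i <;> cases j <;> simp only [one_mul, Bool.false_eq_true, ↓reduceIte] at h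
    · rw [Subtype.ext h]
    · exact absurd (by
        have := T.mul_mem t.2 (T.inv_mem t'.2)
        rwa [h, mul_inv_cancel_right] at this) hqT
    · exact absurd (by
        have := T.mul_mem t'.2 (T.inv_mem t.2)
        rwa [← h, mul_inv_cancel_right] at this) hqT
    · rw [Subtype.ext (mul_left_cancel h)]
  have hsurj : Function.Surjective f := by
    rintro ⟨x, hx⟩
    rcases F.normalizer_elem he heR hx with ⟨-, h⟩ | h
    · exact ⟨(false, ⟨x, h⟩), Subtype.ext (by simp [f])⟩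
    · have hx' : (r ^ n)⁻¹ * x ∈ T := by
        refine ⟨(S : Subgroup G).mul_mem ((S : Subgroup G).inv_mem (F.leD F.h.q_mem)) hx.1,
          Subgroup.mem_centralizer_singleton_iff.2 ?_⟩
        have h1 : (r ^ n)⁻¹ * (x * e * x⁻¹) * r ^ n = e := by rw [h, ← hqe]; group
        calc (r ^ n)⁻¹ * x * e = (r ^ n)⁻¹ * (x * e * x⁻¹) * r ^ n * ((r ^ n)⁻¹ * x) := by group
          _ = e * ((r ^ n)⁻¹ * x) := by rw [h1]
      exact ⟨(true, ⟨_, hx'⟩), Subtype.ext (by simp [f])⟩
  rw [← Nat.card_congr (Equiv.ofBijective f ⟨hinj, hsurj⟩), Nat.card_prod, F.elem_count he heR]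
  simp

/-- An elementary subgroup of order sixteen is the centraliser of a reflection. -/
theorem elem_eq {T : Subgroup G} (hT : T ≤ (S : Subgroup G)) (hsq : ∀ t ∈ T, t * t = 1)
    (hcard : Nat.card T = 16) :
    ∃ e ∈ D, e ∉ Subgroup.zpowers r ∧ T = (S : Subgroup G) ⊓ Subgroup.centralizer ({e} : Set G) := by
  classical
  obtain ⟨t, ht, htn⟩ : ∃ t ∈ T, ¬ Cen V r n t := by
    by_contra hcon
    push Not at hcon
    have hinj : Function.Injective fun t : T => (⟨(t : G), hcon t t.2⟩ : {c : G // Cen V r n c}) :=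
      fun a b h => Subtype.ext (congrArg Subtype.val h :)
    have := Nat.card_le_card_of_injective _ hinj
    rw [hcard, F.cen_card] at this
    omega
  obtain ⟨e, he, heR, b, hb, hte⟩ := F.refl_comp (hT ht) (hsq t ht) htn
  refine ⟨e, he, heR, Subgroup.eq_of_le_of_card_ge (fun x hx => ⟨hT hx, ?_⟩)
    (by rw [hcard, F.elem_count he heR])⟩
  refine Subgroup.mem_centralizer_singleton_iff.2 ?_
  have h1 := commute_of_sq hsq hx ht
  have hbc : Cen V r n b := ⟨1, Or.inl rfl, b, hb, (one_mul b).symm⟩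
  have hxb : b * x = x * b := F.cen_comm hbc (hT hx)
  rw [hte, ← mul_assoc, mul_assoc e b x, hxb, ← mul_assoc] at h1
  exact mul_right_cancel h1

theorem sylIn_normalizer {e : G} (he : e ∈ D) (heR : e ∉ Subgroup.zpowers r) :
    SylIn 2 ((S : Subgroup G) ⊓
      Subgroup.normalizer (((S : Subgroup G) ⊓ Subgroup.centralizer ({e} : Set G) : Subgroup G) : Set G))
      (Subgroup.normalizer (((S : Subgroup G) ⊓ Subgroup.centralizer ({e} : Set G) : Subgroup G) : Set G)) := by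
  haveI : Fact (Nat.Prime 2) := ⟨Nat.prime_two⟩
  set T := (S : Subgroup G) ⊓ Subgroup.centralizer ({e} : Set G) with hT
  set K := Subgroup.normalizer (T : Set G)
  obtain ⟨P, hP, hle⟩ := Fusion.exists_sylIn_ge (p := 2)
    (S.isPGroup'.to_inf_left : IsPGroup 2 ((S : Subgroup G) ⊓ K : Subgroup G)) inf_le_right
  obtain ⟨g, -, hg⟩ := (Fusion.sylIn_top S).conj_le hP.isPGroup le_top
  have hTP : T ≤ P := le_trans (le_inf inf_le_left Subgroup.le_normalizer) hle
  obtain ⟨e', he', he'R, hT'⟩ := F.elem_eq ((Fusion.cj_mono hTP g).trans hg) (by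
    rintro _ ⟨t, ht, rfl⟩
    rw [← map_mul, (F.elem_card he heR t ht).1, map_one]) (by rw [Fusion.card_cj, hT, F.elem_count he heR])
  refine hP.of_card_ge S.isPGroup'.to_inf_left inf_le_right ?_
  rw [F.normalizer_count he heR, ← F.normalizer_count he' he'R, ← Fusion.card_cj P g]
  refine Subgroup.card_le_of_le (le_inf hg ?_)
  rw [← hT', ← Fusion.cj_normalizer]
  exact Fusion.cj_mono hP.le g

/-- The action on the elementary subgroup of a `2`-group normalising it has order at most two. -/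
theorem same_action {e : G} (he : e ∈ D) (heR : e ∉ Subgroup.zpowers r) {P : Subgroup G}
    (hP : IsPGroup 2 P)
    (hPK : P ≤ Subgroup.normalizer (((S : Subgroup G) ⊓ Subgroup.centralizer ({e} : Set G) : Subgroup G) : Set G))
    {x y : G} (hx : x ∈ P) (hy : y ∈ P)
    (hxn : ∃ t ∈ (S : Subgroup G) ⊓ Subgroup.centralizer ({e} : Set G), x * t * x⁻¹ ≠ t)
    (hyn : ∃ t ∈ (S : Subgroup G) ⊓ Subgroup.centralizer ({e} : Set G), y * t * y⁻¹ ≠ t) :
    ∀ t ∈ (S : Subgroup G) ⊓ Subgroup.centralizer ({e} : Set G), x * t * x⁻¹ = y * t * y⁻¹ := by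
  haveI : Fact (Nat.Prime 2) := ⟨Nat.prime_two⟩
  set T := (S : Subgroup G) ⊓ Subgroup.centralizer ({e} : Set G) with hT
  obtain ⟨k, hk, hle⟩ := (F.sylIn_normalizer he heR).conj_le hP hPK
  have key : ∀ w ∈ P, (∃ t ∈ T, w * t * w⁻¹ ≠ t) → ∀ t ∈ T,
      w * t * w⁻¹ = k⁻¹ * (r ^ n * (k * t * k⁻¹) * (r ^ n)⁻¹) * k := by
    intro w hw hwn t ht
    have hmem := hle (Fusion.conj_mem_cj hw)
    rcases F.normalizer_elem he heR hmem with ⟨-, hin⟩ | hact
    · exfalso
      obtain ⟨t₁, ht₁, hne⟩ := hwn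
      refine hne ?_
      have hc := commute_of_sq (fun s hs => (F.elem_card he heR s hs).1) hin
        (Solv.conj_mem_of_mem_normalizer hk ht₁)
      calc w * t₁ * w⁻¹ = k⁻¹ * (k * w * k⁻¹ * (k * t₁ * k⁻¹)) * k * w⁻¹ := by group
        _ = t₁ := by rw [hc]; group
    · obtain ⟨-, c, hc, h | h⟩ := F.elem_card he heR _ (Solv.conj_mem_of_mem_normalizer hk ht)
      · rw [h, (F.q_action he heR hc).1, ← h]
        have h1 : k * w * k⁻¹ * c = c * (k * w * k⁻¹) := (F.cen_comm hc hmem.1).symm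
        rw [← h] at h1
        calc w * t * w⁻¹ = k⁻¹ * (k * w * k⁻¹ * (k * t * k⁻¹)) * k * w⁻¹ := by group
          _ = t := by rw [h1]; group
          _ = k⁻¹ * (k * t * k⁻¹) * k := by group
      · rw [h, (F.q_action he heR hc).2]
        have h1 : k * w * k⁻¹ * c * (k * w * k⁻¹)⁻¹ = c := by
          rw [← F.cen_comm hc hmem.1, mul_inv_cancel_right]
        calc w * t * w⁻¹ = k⁻¹ * (k * w * k⁻¹ * (k * t * k⁻¹) * (k * w * k⁻¹)⁻¹) * k := by group
          _ = k⁻¹ * (k * w * k⁻¹ * e * (k * w * k⁻¹)⁻¹ * (k * w * k⁻¹ * c * (k * w * k⁻¹)⁻¹)) * k := by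
              rw [h]; group
          _ = k⁻¹ * (e * c * r ^ (2 * n)) * k := by
              rw [hact, h1, mul_assoc e, ← F.cen_comm hc (F.leD F.h.z_mem), ← mul_assoc e]
  intro t ht
  rw [key x hx hxn t ht, key y hy hyn t ht]

end FFrame

/-- Two commuting transvections generate a group of exponent dividing four. -/
theorem transvection_pow {T : Subgroup G} (hTsq : ∀ t ∈ T, t * t = 1) (hTc : ∀ s ∈ T, ∀ t ∈ T, s * t = t * s)
    {x y a b : G} (ha : a ∈ T) (hb : b ∈ T) (hx : ∀ t ∈ T, x * t * x⁻¹ = t ∨ x * t * x⁻¹ = t * a)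
    (hy : ∀ t ∈ T, y * t * y⁻¹ = t ∨ y * t * y⁻¹ = t * b) (hxa : x * a * x⁻¹ = a) (hyb : y * b * y⁻¹ = b)
    (hxb : x * b * x⁻¹ = b) :
    ∀ t ∈ T, (x * y) ^ 4 * t * ((x * y) ^ 4)⁻¹ = t := by
  set m := x * y
  have hm : ∀ t, m * t * m⁻¹ = x * (y * t * y⁻¹) * x⁻¹ := fun t => by simp only [m]; group
  have hmb : m * b * m⁻¹ = b := by rw [hm, hyb, hxb]
  have hma : m * a * m⁻¹ = a ∨ m * a * m⁻¹ = a * b := by
    rw [hm]
    rcases hy a ha with h | h <;> rw [h]
    · exact Or.inl hxa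
    · right; rw [show x * (a * b) * x⁻¹ = x * a * x⁻¹ * (x * b * x⁻¹) by group, hxa, hxb]
  have hstep : ∀ t ∈ T, ∃ w, (w = 1 ∨ w = a ∨ w = b ∨ w = a * b) ∧ m * t * m⁻¹ = t * w := by
    intro t ht
    rw [hm]
    rcases hy t ht with h | h <;> rw [h]
    · rcases hx t ht with h' | h'
      · exact ⟨1, Or.inl rfl, by rw [h', mul_one]⟩
      · exact ⟨a, Or.inr (Or.inl rfl), h'⟩
    · rw [show x * (t * b) * x⁻¹ = x * t * x⁻¹ * (x * b * x⁻¹) by group, hxb]
      rcases hx t ht with h' | h' <;> rw [h']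
      · exact ⟨b, Or.inr (Or.inr (Or.inl rfl)), rfl⟩
      · exact ⟨a * b, Or.inr (Or.inr (Or.inr rfl)), mul_assoc _ _ _⟩
  have hsq : ∀ t ∈ T, m * (m * t * m⁻¹) * m⁻¹ = t ∨ m * (m * t * m⁻¹) * m⁻¹ = t * b := by
    intro t ht
    obtain ⟨w, hw, he⟩ := hstep t ht
    rw [he, show m * (t * w) * m⁻¹ = m * t * m⁻¹ * (m * w * m⁻¹) by group, he]
    rcases hw with rfl | rfl | rfl | rfl
    · left; simp
    · rcases hma with h | h <;> rw [h]
      · left; rw [mul_assoc, hTsq _ ha, mul_one]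
      · right; rw [mul_assoc, ← mul_assoc w w, hTsq _ ha, one_mul]
    · left; rw [hmb, mul_assoc, hTsq _ hb, mul_one]
    · rw [show m * (a * b) * m⁻¹ = m * a * m⁻¹ * (m * b * m⁻¹) by group, hmb]
      rcases hma with h | h <;> rw [h]
      · left; rw [mul_assoc, hTsq _ (T.mul_mem ha hb), mul_one]
      · right
        rw [mul_assoc a b b, hTsq _ hb, mul_one, mul_assoc, hTc _ ha _ hb, mul_assoc, hTsq _ ha, mul_one]
  intro t ht
  rw [show m ^ 4 * t * (m ^ 4)⁻¹ = m * (m * (m * (m * t * m⁻¹) * m⁻¹) * m⁻¹) * m⁻¹ by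
    simp only [pow_succ, pow_zero, one_mul, mul_inv_rev, mul_assoc]]
  rcases hsq t ht with h | h <;> rw [h]
  · exact h
  · rw [show m * (m * (t * b) * m⁻¹) * m⁻¹
      = m * (m * t * m⁻¹) * m⁻¹ * (m * (m * b * m⁻¹) * m⁻¹) by group, h, hmb, hmb, mul_assoc, hTsq _ hb,
      mul_one]

end Cfsg.Agent.StrongProd
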