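import Cfsg.Agent.Lib.Fusion.Product.DihFusion

/-!
A strongly closed dihedral factor and four group.
-/

set_option autoImplicit false
set_option linter.style.haveILetI false
set_option linter.unusedSectionVars false

namespace Cfsg.Agent.StrongProd

open Cfsg.Agent.Fusion (cj mem_cj SylIn)

universe u

variable {G : Type u} [Group G] [Finite G]

/-- A rotation and an inverting involution generate a dihedral subgroup. -/
theorem dih_of_gens {r s : G} {n : ℕ} (hord : orderOf r = 4 * n) (h2 : ∃ j, n = 2 ^ j) (hss : s * s = 1)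
    (hsr : s * r * s⁻¹ = r⁻¹) (hsR : s ∉ Subgroup.zpowers r) :
    Dih (Subgroup.zpowers r ⊔ Subgroup.zpowers s) r n := by
  refine ⟨Subgroup.mem_sup_left (Subgroup.mem_zpowers r), hord, h2, fun x hx hxR => ?_,
    ⟨s, Subgroup.mem_sup_right (Subgroup.mem_zpowers s), hsR⟩⟩
  have hnorm : Subgroup.zpowers s ≤ Subgroup.normalizer (Subgroup.zpowers r : Set G) := by
    rw [Subgroup.zpowers_le]
    refine Fusion.mem_normalizer_of_cj_le fun x hx => ?_
    obtain ⟨i, hi⟩ := mem_cj.1 hx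
    refine ⟨-i, ?_⟩
    simp only at hi ⊢
    calc r ^ (-i) = (s * r * s⁻¹) ^ i := by rw [hsr, inv_zpow, zpow_neg]
      _ = x := by rw [conj_zpow, hi]; group
  have hsmem : ∀ i : ℤ, s ^ i = 1 ∨ s ^ i = s := fun i => by
    have h : s ^ (2 : ℤ) = 1 := by rw [zpow_two]; exact hss
    rcases Int.even_or_odd i with ⟨l, rfl⟩ | ⟨l, rfl⟩
    · left; rw [← two_mul, zpow_mul, h, one_zpow]
    · right; rw [zpow_add, zpow_mul, h, one_zpow, one_mul, zpow_one]
  have hx' : x ∈ ((Subgroup.zpowers r ⊔ Subgroup.zpowers s : Subgroup G) : Set G) := hx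
  rw [Subgroup.coe_mul_of_right_le_normalizer_left _ _ hnorm] at hx'
  obtain ⟨a, ⟨i, rfl⟩, b, ⟨j, rfl⟩, rfl⟩ := hx'
  simp only at hxR ⊢
  rcases hsmem j with e | e <;> rw [e] at hxR ⊢
  · exact absurd (by rw [mul_one]; exact ⟨i, rfl⟩) hxR
  have h1 : s * r ^ i * s⁻¹ = (r ^ i)⁻¹ := by
    rw [show s * r ^ i * s⁻¹ = (s * r * s⁻¹) ^ i from (conj_zpow).symm, hsr, inv_zpow]
  constructor
  · rw [show r ^ i * s * (r ^ i * s) = r ^ i * (s * r ^ i * s⁻¹) * (s * s) by group, h1, hss]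
    simp
  · rw [show r ^ i * s * r * (r ^ i * s)⁻¹ = r ^ i * (s * r * s⁻¹) * (r ^ i)⁻¹ by group, hsr]
    group

/-- The data with trivial translation at every reflection. -/
structure Twisted (S : Sylow 2 G) (D U : Subgroup G) (r : G) (n : ℕ) : Prop where
  conjz : ∀ e ∈ D, e ∉ Subgroup.zpowers r → IsConj e (r ^ (2 * n))
  trans : ∀ e ∈ D, e ∉ Subgroup.zpowers r → ∀ f ∈ U, IsConj (e * f) (f * r ^ (2 * n))
  inv : ∀ m ∈ Subgroup.normalizer ((S : Subgroup G) : Set G), cj U m = U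

namespace FFrame

variable {S : Sylow 2 G} {D V : Subgroup G} {r : G} {n : ℕ} (F : FFrame S D V r n)
include F

theorem cenV {b : G} (hb : b ∈ V) : Cen V r n b := ⟨1, Or.inl rfl, b, hb, (one_mul b).symm⟩

/-- Data at a reflection with translation in `V`. -/
theorem exists_data_V (hO : Cfsg.oddCore G = ⊥) {U : Subgroup G}
    (hU : ∀ (w : G) (U' : Subgroup G), FusData S V r n w U' → U' = U)
    {e : G} (he : e ∈ D) (heR : e ∉ Subgroup.zpowers r) : ∃ b ∈ V, FusData S V r n (e * b) U := by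
  obtain ⟨c, U', hc, h⟩ := F.exists_data he heR
  obtain rfl := hU _ _ h
  obtain ⟨a, ha, b, hb, rfl⟩ := hc
  refine ⟨b, hb, ?_⟩
  rcases ha with rfl | rfl
  · simpa using h
  · have h1 := F.fus_conj (F.normalizer_of_mem (F.leD F.h.q_mem)) h
    rw [F.fus_cj_self (F.leD F.h.q_mem) h,
      (F.q_action he heR (F.cen_mul F.cen_z (F.cenV hb))).2] at h1
    rwa [mul_assoc e, F.comm F.h.z_mem hb, mul_assoc, F.h.z_sq, mul_one] at h1

/-- Twisting the dihedral factor. -/
theorem exists_twisted (hO : Cfsg.oddCore G = ⊥) : ∃ (D' U : Subgroup G) (r' : G),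
    FFrame S D' U r' n ∧ Twisted S D' U r' n ∧ Nonempty (D' ≃* D) ∧ Nonempty (U ≃* V) := by
  obtain ⟨e₀, he₀, he₀R⟩ := F.h.ex
  obtain ⟨c₀, U, -, hd₀⟩ := F.exists_data he₀ he₀R
  have hU : ∀ (w : G) (U' : Subgroup G), FusData S V r n w U' → U' = U :=
    fun w U' h => F.fus_same hO hd₀ h
  obtain ⟨b₀, hb₀, h₀⟩ := F.exists_data_V hO hU he₀ he₀R
  obtain ⟨b₁, hb₁, h₁⟩ := F.exists_data_V hO hU (D.mul_mem he₀ F.h.mem)
    (F.h.refl_mul_rot he₀R (Subgroup.mem_zpowers r))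
  set c := b₀ * b₁ with hcdef
  have hc : c ∈ V := V.mul_mem hb₀ hb₁
  set r' := r * c with hr'
  set s := e₀ * b₀ with hs
  have hcr : Commute r c := F.comm F.h.mem hc
  have hrpow : ∀ i : ℤ, r' ^ i = r ^ i * c ^ i := fun i => hcr.mul_zpow i
  have hcpow : ∀ i : ℕ, c ^ (2 * i) = 1 := fun i => by rw [pow_mul, pow_two, F.sq c hc, one_pow]
  have hz : r' ^ (2 * n) = r ^ (2 * n) := by rw [hr', hcr.mul_pow, hcpow, mul_one]
  have hord : orderOf r' = 4 * n := by
    refine Nat.dvd_antisymm (orderOf_dvd_of_pow_eq_one ?_) ?_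
    · rw [hr', hcr.mul_pow, show 4 * n = 2 * (2 * n) by ring, hcpow, mul_one,
        show 2 * (2 * n) = orderOf r by rw [F.h.ord]; ring, pow_orderOf_eq_one]
    · rw [← F.h.ord]
      refine orderOf_dvd_of_pow_eq_one ?_
      have h1 := hcr.mul_pow (orderOf r')
      rw [← hr', pow_orderOf_eq_one] at h1
      exact (F.eq_split D.one_mem V.one_mem (D.pow_mem F.h.mem _) (V.pow_mem hc _)
        (by rw [one_mul]; exact h1)).1.symm
  have hss : s * s = 1 := by rw [hs, F.sq_split he₀ hb₀, (F.h.refl e₀ he₀ he₀R).1]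
  have hsr : s * r' * s⁻¹ = r'⁻¹ := by
    have h2 := (F.h.refl e₀ he₀ he₀R).2
    rw [mul_inv_eq_iff_eq_mul] at h2
    have hci : c⁻¹ = c := inv_eq_of_mul_eq_one_right (F.sq c hc)
    have h1 : s * r' = r'⁻¹ * s := by
      have hr'' : r'⁻¹ = r⁻¹ * c := by rw [hr', mul_inv_rev, hci, F.comm (D.inv_mem F.h.mem) hc]
      rw [hr'', hs, hr', F.mul_split F.h.mem hb₀, F.mul_split he₀ hc, h2, F.commV hb₀ hc]
    rw [h1, mul_inv_cancel_right]
  have hsR : s ∉ Subgroup.zpowers r' := by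
    rintro ⟨i, hi⟩
    simp only [hrpow] at hi
    exact he₀R ⟨i, (F.eq_split (D.zpow_mem F.h.mem i) (V.zpow_mem hc i) he₀ hb₀ hi).1⟩
  set D' := Subgroup.zpowers r' ⊔ Subgroup.zpowers s
  have hdih : Dih D' r' n := dih_of_gens hord F.h.two hss hsr hsR
  have hsD : s ∈ D' := Subgroup.mem_sup_right (Subgroup.mem_zpowers s)
  have hD'S : D' ≤ (S : Subgroup G) := sup_le
    (Subgroup.zpowers_le.2 ((S : Subgroup G).mul_mem (F.leD F.h.mem) (F.leV hc)))
    (Subgroup.zpowers_le.2 ((S : Subgroup G).mul_mem (F.leD he₀) (F.leV hb₀)))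
  have hcenD' : ∀ x ∈ D', Cen V r n x → x = 1 ∨ x = r ^ (2 * n) := fun x hx hxc => by
    rcases hdih.cent_all hx fun y hy => F.cen_comm hxc (hD'S hy) with e | e
    · exact Or.inl e
    · exact Or.inr (e.trans hz)
  have hzV : r ^ (2 * n) ∉ V := fun h =>
    F.h.z_ne (F.eq_split F.h.z_mem V.one_mem D.one_mem h (by rw [mul_one, one_mul])).1
  have hdV : D' ⊓ V = ⊥ := eq_bot_iff.2 fun x hx => by
    rcases hcenD' x hx.1 (F.cenV hx.2) with e | e
    · exact Subgroup.mem_bot.2 e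
    · exact absurd (e ▸ hx.2) hzV
  have hdU : D' ⊓ U = ⊥ := eq_bot_iff.2 fun x hx => by
    rcases hcenD' x hx.1 (h₀.cen x hx.2) with e | e
    · exact Subgroup.mem_bot.2 e
    · exact absurd (e ▸ hx.2) h₀.nz
  have hgV : D' ⊔ V = (S : Subgroup G) := by
    refine le_antisymm (sup_le hD'S F.leV) ?_
    rw [← F.prod.2.2.2.2]
    refine sup_le (F.h.le_of_refl fun e he heR => ?_) le_sup_right
    have hr1 : r ∈ D' ⊔ V := by
      have := (D' ⊔ V).mul_mem (Subgroup.mem_sup_left (T := V) hdih.mem)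
        (Subgroup.mem_sup_right (S := D') (V.inv_mem hc))
      rwa [hr', mul_inv_cancel_right] at this
    have he1 : e₀ ∈ D' ⊔ V := by
      have := (D' ⊔ V).mul_mem (Subgroup.mem_sup_left (T := V) hsD)
        (Subgroup.mem_sup_right (S := D') (V.inv_mem hb₀))
      rwa [hs, mul_inv_cancel_right] at this
    obtain ⟨j, hj | hj⟩ := F.h.refl_class he₀ he₀R he heR <;> rw [hj]
    · exact Subgroup.mul_mem _ (Subgroup.mul_mem _ (Subgroup.zpow_mem _ hr1 j) he1)
        (Subgroup.inv_mem _ (Subgroup.zpow_mem _ hr1 j))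
    · exact Subgroup.mul_mem _ (Subgroup.mul_mem _ (Subgroup.zpow_mem _ hr1 j) (Subgroup.mul_mem _ he1 hr1))
        (Subgroup.inv_mem _ (Subgroup.zpow_mem _ hr1 j))
  have hgU : D' ⊔ U = (S : Subgroup G) := by
    refine le_antisymm (sup_le hD'S fun x hx => F.cen_memS (h₀.cen x hx)) ?_
    rw [← hgV]
    refine sup_le le_sup_left fun v hv => ?_
    have hzD : r ^ (2 * n) ∈ D' := hz ▸ hdih.z_mem
    rcases h₀.cover v (F.cenV hv) with h | h
    · exact Subgroup.mem_sup_right h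
    · have := (D' ⊔ U).mul_mem (Subgroup.mem_sup_right (S := D') h) (Subgroup.mem_sup_left (T := U) hzD)
      rwa [mul_assoc, F.h.z_sq, mul_one] at this
  have hcV : ∀ a ∈ D', ∀ b ∈ V, a * b = b * a := fun a ha b hb => (F.cen_comm (F.cenV hb) (hD'S ha)).symm
  have hcU : ∀ a ∈ D', ∀ b ∈ U, a * b = b * a := fun a ha b hb => (F.cen_comm (h₀.cen b hb) (hD'S ha)).symm
  have hUS : U ≤ (S : Subgroup G) := fun x hx => F.cen_memS (h₀.cen x hx)
  refine ⟨D', U, r', ⟨⟨hD'S, hUS, hcU, hdU, hgU⟩, hdih, F.fus_card h₀,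
    fun v hv => F.cen_sq (h₀.cen v hv), F.noTwo⟩, ⟨fun e he heR => ?_, fun e he heR f hf => ?_, fun m hm => ?_⟩,
    complement_equiv F.prod ⟨hD'S, F.leV, hcV, hdV, hgV⟩,
    complement_equiv (A := V) (A' := U) (B := D')
      ⟨F.leV, hD'S, fun a ha b hb => (hcV b hb a ha).symm, by rw [inf_comm]; exact hdV,
        by rw [sup_comm]; exact hgV⟩
      ⟨hUS, hD'S, fun a ha b hb => (hcU b hb a ha).symm, by rw [inf_comm]; exact hdU,
        by rw [sup_comm]; exact hgU⟩⟩
  on_goal 3 => exact hU _ _ (F.fus_conj hm h₀)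
  all_goals
    have hsr'' : s * r' = e₀ * r * b₁ := by
      rw [hs, hr', F.mul_split F.h.mem hb₀, hcdef, ← mul_assoc b₀, F.sq b₀ hb₀, one_mul]
    obtain ⟨j, hj⟩ := hdih.refl_class hsD hsR he heR
    have hjS : r' ^ j ∈ (S : Subgroup G) := hD'S (D'.zpow_mem hdih.mem j)
    have hd : FusData S V r n e U := by
      rcases hj with hj | hj <;> rw [hj]
      · have h1 := F.fus_conj (F.normalizer_of_mem hjS) h₀
        rwa [F.fus_cj_self hjS h₀] at h1
      · have h1 := F.fus_conj (F.normalizer_of_mem hjS) h₁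
        rwa [F.fus_cj_self hjS h₁, ← hsr''] at h1
    rw [hz]
  · exact hd.conjz
  · exact hd.trans f hf

variable (T : Twisted S D V r n)
include T

/-- The four group is strongly closed. -/
theorem closedV : Cfsg.IsStronglyClosed V (S : Subgroup G) := by
  refine ⟨F.leV, fun x hx g hy => ?_⟩
  set y := g * x * g⁻¹ with hydef
  have hxy : IsConj x y := isConj_iff.2 ⟨g, rfl⟩
  have hfix : ∀ {v : G}, Cen V r n v → IsConj x v → v ∈ V := fun {v} hv hc => by
    obtain ⟨m, hm, he⟩ := F.cen_conj (F.cenV hx) hv hc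
    rw [← he]
    exact (T.inv m hm).le (Fusion.conj_mem_cj hx)
  by_cases hyc : Cen V r n y
  · exact hfix hyc hxy
  exfalso
  have hy2 : y * y = 1 := by
    rw [hydef, show g * x * g⁻¹ * (g * x * g⁻¹) = g * (x * x) * g⁻¹ by group, F.sq x hx]; group
  obtain ⟨e, he, heR, b, hb, hye⟩ := F.refl_comp hy hy2 hyc
  have h1 := hfix (F.cen_mul (F.cenV hb) F.cen_z) (hxy.trans (hye ▸ T.trans e he heR b hb))
  have h2 := V.mul_mem (V.inv_mem hb) h1
  rw [inv_mul_cancel_left] at h2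
  exact F.h.z_ne (F.eq_split F.h.z_mem V.one_mem D.one_mem h2 (by rw [mul_one, one_mul])).1

/-- Involutions fused to the centre lie in the dihedral factor. -/
theorem invol_memD {y : G} (hy : y ∈ (S : Subgroup G)) (hy2 : y * y = 1)
    (hc : IsConj y (r ^ (2 * n))) : y ∈ D := by
  by_cases hyc : Cen V r n y
  · rw [F.conj_z hyc hc]; exact F.h.z_mem
  obtain ⟨e, he, heR, b, hb, hye⟩ := F.refl_comp hy hy2 hyc
  have h1 := F.conj_z (F.cen_mul (F.cenV hb) F.cen_z) ((hye ▸ T.trans e he heR b hb).symm.trans hc)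
  rw [hye, mul_eq_right.1 h1, mul_one]
  exact he

/-- The dihedral group is strongly closed. -/
theorem closedD : Cfsg.IsStronglyClosed D (S : Subgroup G) := by
  haveI : Fact (Nat.Prime 2) := ⟨Nat.prime_two⟩
  refine ⟨F.leD, fun x hx g hy => ?_⟩
  set y := g * x * g⁻¹ with hydef
  have hysq : y * y = g * (x * x) * g⁻¹ := by rw [hydef]; group
  by_cases hx2 : x * x = 1
  · rcases F.h.invol_cases hx hx2 with e | e | e
    · rw [hydef, e]; simp
    all_goals
      refine F.invol_memD T hy (by rw [hysq, hx2]; group) ?_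
    · exact ((isConj_iff.2 ⟨g, rfl⟩ : IsConj x y).symm).trans (e ▸ IsConj.refl _)
    · exact ((isConj_iff.2 ⟨g, rfl⟩ : IsConj x y).symm).trans (T.conjz x hx e)
  have hxR : x ∈ Subgroup.zpowers r := by
    by_contra h; exact hx2 (F.h.refl x hx h).1
  obtain ⟨a, ha, b, hb, hys⟩ := F.split hy
  have hb2 := F.sq b hb
  have ha2 : a * a ≠ 1 := fun e => hx2 (by
    have h1 : y * y = 1 := by rw [hys, F.sq_split ha hb, e]
    rw [hysq] at h1
    exact conj_eq_one_iff.1 h1)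
  have haR : a ∈ Subgroup.zpowers r := by
    by_contra h; exact ha2 (F.h.refl a ha h).1
  -- the factor normalises `⟨y⟩`
  have hDy : D ≤ Subgroup.normalizer (Subgroup.zpowers y : Set G) := by
    refine F.h.le_of_refl fun e he heR => Fusion.mem_normalizer_of_cj_le fun w hw => ?_
    obtain ⟨i, hi⟩ := mem_cj.1 hw
    refine ⟨-i, ?_⟩
    simp only at hi ⊢
    have hbi : b⁻¹ = b := inv_eq_of_mul_eq_one_right hb2
    have h1 : e * y * e⁻¹ = y⁻¹ := by
      rw [hys, mul_inv_rev, hbi, ← F.comm (D.inv_mem ha) hb, ← F.h.refl_conj he heR haR]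
      calc e * (a * b) * e⁻¹ = e * a * (b * e⁻¹) := by group
        _ = e * a * (e⁻¹ * b) := by rw [F.comm (D.inv_mem he) hb]
        _ = e * a * e⁻¹ * b := by group
    calc y ^ (-i) = (e * y * e⁻¹) ^ i := by rw [h1, inv_zpow, zpow_neg]
      _ = w := by rw [conj_zpow, hi]; group
  set NX := Subgroup.normalizer (Subgroup.zpowers x : Set G)
  have hxN : (S : Subgroup G) ≤ NX := by
    intro s hs
    obtain ⟨u, hu, v, hv, rfl⟩ := F.split hs
    refine Subgroup.mul_mem _ ?_ ?_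
    · refine Fusion.mem_normalizer_of_cj_le fun w hw => ?_
      obtain ⟨i, hi⟩ := mem_cj.1 hw
      simp only at hi
      have hw' : w = u * x ^ i * u⁻¹ := by rw [hi]; group
      by_cases huR : u ∈ Subgroup.zpowers r
      · refine ⟨i, ?_⟩
        show x ^ i = w
        rw [hw', F.h.rot_comm huR (Subgroup.zpow_mem _ hxR i), mul_inv_cancel_right]
      · refine ⟨-i, ?_⟩
        show x ^ (-i) = w
        rw [hw', F.h.refl_conj hu huR (Subgroup.zpow_mem _ hxR i), zpow_neg]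
    · refine Subgroup.centralizer_le_normalizer _ (Subgroup.mem_centralizer_iff.2 ?_)
      rintro w ⟨i, rfl⟩
      exact F.comm (D.zpow_mem hx i) hv
  have hSN : SylIn 2 (S : Subgroup G) NX := (Fusion.sylIn_top S).mono hxN le_top
  have hP : cj D g⁻¹ ≤ NX := by
    have hcj : cj (Subgroup.zpowers y) g⁻¹ = Subgroup.zpowers x := by
      show (Subgroup.zpowers y).map (MulAut.conj g⁻¹).toMonoidHom = _
      rw [MonoidHom.map_zpowers]
      congr 1
      show g⁻¹ * y * g⁻¹⁻¹ = x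
      rw [hydef]; group
    intro w hw
    have h1 : w ∈ cj (Subgroup.normalizer (Subgroup.zpowers y : Set G)) g⁻¹ := Fusion.cj_mono hDy g⁻¹ hw
    rwa [Fusion.cj_normalizer, hcj] at h1
  obtain ⟨m, hm, hle⟩ := hSN.conj_le (Fusion.isPGroup_cj (S.isPGroup'.to_le F.leD) g⁻¹) hP
  set k := m * g⁻¹ with hkdef
  rw [Fusion.cj_cj, ← hkdef] at hle
  have hkD : D ≤ cj D k⁻¹ := F.h.le_of_refl fun e he heR => by
    rw [mem_cj, inv_inv]
    refine F.invol_memD T (hle (Fusion.conj_mem_cj he)) ?_ ?_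
    · rw [show k * e * k⁻¹ * (k * e * k⁻¹) = k * (e * e) * k⁻¹ by group, (F.h.refl e he heR).1]
      group
    · exact ((isConj_iff.2 ⟨k, rfl⟩ : IsConj e (k * e * k⁻¹)).symm).trans (T.conjz e he heR)
  have hkD' : cj D k⁻¹ = D := (Subgroup.eq_of_le_of_card_ge hkD (Fusion.card_cj D k⁻¹).le).symm
  have hky : k * y * k⁻¹ ∈ D := by
    have e : k * y * k⁻¹ = m * x * m⁻¹ := by rw [hydef, hkdef]; group
    rw [e]
    exact (Subgroup.zpowers_le.2 hx : Subgroup.zpowers x ≤ D)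
      ((Subgroup.mem_normalizer_iff.1 hm x).1 (Subgroup.mem_zpowers x))
  have hy' : y ∈ D := by
    have h1 : y ∈ cj D k⁻¹ := by rw [mem_cj, inv_inv]; exact hky
    rwa [hkD'] at h1
  exact hy'

end FFrame

/-- Product fusion for a dihedral factor and a four group. -/
theorem FFrame.exists_closed {S : Sylow 2 G} {D V : Subgroup G} {r : G} {n : ℕ} (F : FFrame S D V r n)
    (hO : Cfsg.oddCore G = ⊥) : ∃ S₁ S₂ : Subgroup G,
    Cfsg.IsInternalDirectProduct S₁ S₂ (S : Subgroup G) ∧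
    Nonempty (S₁ ≃* D) ∧ Nonempty (S₂ ≃* V) ∧
    Cfsg.IsStronglyClosed S₁ (S : Subgroup G) ∧ Cfsg.IsStronglyClosed S₂ (S : Subgroup G) := by
  obtain ⟨D', U, r', F', T, i₁, i₂⟩ := F.exists_twisted hO
  exact ⟨D', U, F'.prod, i₁, i₂, F'.closedD T, F'.closedV T⟩

end Cfsg.Agent.StrongProd
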