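import Cfsg.Agent.Lib.Fusion.Product.DihPair
import Cfsg.Agent.Lib.Fusion.IndexP

/-!
Fusion in a Sylow subgroup which is a product of a nonabelian dihedral group and a four group.
-/

set_option autoImplicit false
set_option linter.style.haveILetI false
set_option linter.unusedSectionVars false

namespace Cfsg.Agent.StrongProd

open Cfsg.Agent.Fusion (cj mem_cj SylIn)
open scoped commutatorElement

universe u

variable {G : Type u} [Group G] [Finite G]

/-- A Sylow subgroup decomposed into a dihedral group and a four group. -/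
structure FFrame (S : Sylow 2 G) (D V : Subgroup G) (r : G) (n : ℕ) : Prop where
  prod : Cfsg.IsInternalDirectProduct D V (S : Subgroup G)
  h : Dih D r n
  card : Nat.card V = 4
  sq : ∀ v ∈ V, v * v = 1
  noTwo : ∀ N : Subgroup G, N.Normal → N.index ≠ 2

/-- The central involutions: elements of `S` of order at most two with component `1` or `z`. -/
def Cen (V : Subgroup G) (r : G) (n : ℕ) (x : G) : Prop :=
  ∃ a, (a = 1 ∨ a = r ^ (2 * n)) ∧ ∃ b ∈ V, x = a * b

namespace FFrame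

variable {S : Sylow 2 G} {D V : Subgroup G} {r : G} {n : ℕ} (F : FFrame S D V r n)
include F

theorem leD : D ≤ (S : Subgroup G) := F.prod.1

theorem leV : V ≤ (S : Subgroup G) := F.prod.2.1

theorem comm {a b : G} (ha : a ∈ D) (hb : b ∈ V) : a * b = b * a := F.prod.2.2.1 a ha b hb

theorem commV {a b : G} (ha : a ∈ V) (hb : b ∈ V) : a * b = b * a := commute_of_sq F.sq ha hb

theorem eq_split {a b a' b' : G} (ha : a ∈ D) (hb : b ∈ V) (ha' : a' ∈ D) (hb' : b' ∈ V)
    (e : a * b = a' * b') : a = a' ∧ b = b' := by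
  have h1 : a'⁻¹ * a ∈ D ⊓ V := by
    refine ⟨D.mul_mem (D.inv_mem ha') ha, ?_⟩
    rw [show a'⁻¹ * a = b' * b⁻¹ by rw [eq_mul_inv_iff_mul_eq, mul_assoc, e, inv_mul_cancel_left]]
    exact V.mul_mem hb' (V.inv_mem hb)
  rw [F.prod.2.2.2.1, Subgroup.mem_bot, inv_mul_eq_one] at h1
  subst h1
  exact ⟨rfl, mul_left_cancel e⟩

theorem split {x : G} (hx : x ∈ (S : Subgroup G)) : ∃ a ∈ D, ∃ b ∈ V, x = a * b := by
  have hn : D ≤ Subgroup.normalizer (V : Set G) := fun a ha =>
    Fusion.mem_normalizer_of_cj_le fun x hx => by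
      rw [mem_cj] at hx
      have := F.comm ha hx
      rwa [show x = a * (a⁻¹ * x * a) * a⁻¹ by group, this, mul_inv_cancel_right]
  have hx' : x ∈ ((D ⊔ V : Subgroup G) : Set G) := F.prod.2.2.2.2.symm ▸ hx
  rw [Subgroup.coe_mul_of_left_le_normalizer_right D V hn] at hx'
  obtain ⟨a, ha, b, hb, rfl⟩ := hx'
  exact ⟨a, ha, b, hb, rfl⟩

theorem mul_split {a b a' b' : G} (ha' : a' ∈ D) (hb : b ∈ V) :
    a * b * (a' * b') = a * a' * (b * b') := by
  rw [mul_assoc, ← mul_assoc b, ← F.comm ha' hb]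
  simp only [mul_assoc]

theorem sq_split {a b : G} (ha : a ∈ D) (hb : b ∈ V) : a * b * (a * b) = a * a := by
  rw [F.mul_split ha hb, F.sq b hb, mul_one]

theorem sq_mem {s : G} (hs : s ∈ (S : Subgroup G)) : ∃ a ∈ D, s * s = a * a := by
  obtain ⟨a, ha, b, hb, rfl⟩ := F.split hs
  exact ⟨a, ha, F.sq_split ha hb⟩

theorem z_central {s : G} (hs : s ∈ (S : Subgroup G)) : r ^ (2 * n) * s = s * r ^ (2 * n) := by
  obtain ⟨a, ha, b, hb, rfl⟩ := F.split hs
  rw [← mul_assoc, ← F.h.z_cent ha, mul_assoc, F.comm F.h.z_mem hb, mul_assoc]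

theorem cen_memS {x : G} (hx : Cen V r n x) : x ∈ (S : Subgroup G) := by
  obtain ⟨a, ha, b, hb, rfl⟩ := hx
  refine (S : Subgroup G).mul_mem ?_ (F.leV hb)
  rcases ha with rfl | rfl
  exacts [(S : Subgroup G).one_mem, F.leD F.h.z_mem]

theorem cen_comm {x : G} (hx : Cen V r n x) {s : G} (hs : s ∈ (S : Subgroup G)) : x * s = s * x := by
  obtain ⟨a, ha, b, hb, rfl⟩ := hx
  have h1 : b * s = s * b := by
    obtain ⟨a', ha', b', hb', rfl⟩ := F.split hs
    rw [← mul_assoc, ← F.comm ha' hb, mul_assoc, F.commV hb hb', mul_assoc]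
  have h2 : a * s = s * a := by
    rcases ha with rfl | rfl
    · simp
    · exact F.z_central hs
  rw [mul_assoc, h1, ← mul_assoc, h2, mul_assoc]

theorem cen_sq {x : G} (hx : Cen V r n x) : x * x = 1 := by
  obtain ⟨a, ha, b, hb, rfl⟩ := hx
  rcases ha with rfl | rfl
  · rw [F.sq_split D.one_mem hb, one_mul]
  · rw [F.sq_split F.h.z_mem hb, F.h.z_sq]

theorem cen_of_central {x : G} (hxS : x ∈ (S : Subgroup G))
    (hc : ∀ s ∈ (S : Subgroup G), x * s = s * x) : Cen V r n x := by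
  obtain ⟨a, ha, b, hb, rfl⟩ := F.split hxS
  refine ⟨a, F.h.cent_all ha fun y hy => ?_, b, hb, rfl⟩
  have h1 := hc y (F.leD hy)
  rw [mul_assoc, ← F.comm hy hb, ← mul_assoc, ← mul_assoc] at h1
  exact mul_right_cancel h1

theorem cen_one : Cen V r n 1 := ⟨1, Or.inl rfl, 1, V.one_mem, (one_mul 1).symm⟩

theorem cen_z : Cen V r n (r ^ (2 * n)) := ⟨_, Or.inr rfl, 1, V.one_mem, (mul_one _).symm⟩

theorem cen_mul {x y : G} (hx : Cen V r n x) (hy : Cen V r n y) : Cen V r n (x * y) := by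
  obtain ⟨a, ha, b, hb, rfl⟩ := hx
  obtain ⟨a', ha', b', hb', rfl⟩ := hy
  have haD : a' ∈ D := by rcases ha' with rfl | rfl; exacts [D.one_mem, F.h.z_mem]
  refine ⟨a * a', ?_, b * b', V.mul_mem hb hb', F.mul_split haD hb⟩
  rcases ha with rfl | rfl <;> rcases ha' with rfl | rfl
  · exact Or.inl (one_mul 1)
  · exact Or.inr (one_mul _)
  · exact Or.inr (mul_one _)
  · exact Or.inl F.h.z_sq

theorem normalizer_fix {m : G} (hm : m ∈ Subgroup.normalizer ((S : Subgroup G) : Set G)) :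
    m * r ^ (2 * n) * m⁻¹ = r ^ (2 * n) := by
  have hS := Solv.conj_mem_of_mem_normalizer hm (F.leD F.h.q_mem)
  obtain ⟨a, ha, he⟩ := F.sq_mem hS
  have e : m * r ^ (2 * n) * m⁻¹ = a * a := by rw [← he, ← F.h.q_sq]; group
  have h2 : a * a * (a * a) = 1 := by
    rw [← e, show m * r ^ (2 * n) * m⁻¹ * (m * r ^ (2 * n) * m⁻¹) = m * (r ^ (2 * n) * r ^ (2 * n)) * m⁻¹
      by group, F.h.z_sq]; group
  rcases F.h.rot_invol (F.h.sq_mem ha) h2 with h1 | h1
  · exact absurd (conj_eq_one_iff.1 (e.trans h1)) F.h.z_ne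
  · exact e.trans h1

theorem cen_normalizer {m x : G} (hm : m ∈ Subgroup.normalizer ((S : Subgroup G) : Set G))
    (hx : Cen V r n x) : Cen V r n (m * x * m⁻¹) := by
  refine F.cen_of_central (Solv.conj_mem_of_mem_normalizer hm (F.cen_memS hx)) fun s hs => ?_
  have h1 : m⁻¹ * s * m ∈ (S : Subgroup G) := by
    have := Solv.conj_mem_of_mem_normalizer (Subgroup.inv_mem _ hm) hs
    rwa [inv_inv] at this
  calc m * x * m⁻¹ * s = m * (x * (m⁻¹ * s * m)) * m⁻¹ := by group
    _ = m * ((m⁻¹ * s * m) * x) * m⁻¹ := by rw [F.cen_comm hx h1]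
    _ = s * (m * x * m⁻¹) := by group

/-- Central involutions are fused by the normaliser of `S`. -/
theorem cen_conj {x y : G} (hx : Cen V r n x) (hy : Cen V r n y) (hc : IsConj x y) :
    ∃ m ∈ Subgroup.normalizer ((S : Subgroup G) : Set G), m * x * m⁻¹ = y := by
  haveI : Fact (Nat.Prime 2) := ⟨Nat.prime_two⟩
  obtain ⟨g, hg⟩ := isConj_iff.1 hc
  obtain ⟨m, hm, he⟩ := S.conj_eq_normalizer_conj_of_mem_centralizer x g⁻¹
    (Subgroup.mem_centralizer_iff.2 fun s hs => (F.cen_comm hx hs).symm)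
    (by rw [inv_inv, hg]; exact Subgroup.mem_centralizer_iff.2 fun s hs => (F.cen_comm hy hs).symm)
  rw [inv_inv, hg] at he
  exact ⟨m⁻¹, Subgroup.inv_mem _ hm, by rw [inv_inv, he]⟩

theorem conj_z {y : G} (hy : Cen V r n y) (hc : IsConj y (r ^ (2 * n))) : y = r ^ (2 * n) := by
  obtain ⟨m, hm, he⟩ := F.cen_conj F.cen_z hy hc.symm
  rw [← he, F.normalizer_fix hm]

/-- A central involution is not conjugate to its translate by `z`. -/
theorem not_conj_mul_z {x : G} (hx : Cen V r n x) : ¬ IsConj x (x * r ^ (2 * n)) := by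
  intro hc
  haveI : Fact (Nat.Prime 2) := ⟨Nat.prime_two⟩
  obtain ⟨m, hm, he⟩ := F.cen_conj hx (F.cen_mul hx F.cen_z) hc
  set N := Subgroup.normalizer ((S : Subgroup G) : Set G)
  haveI : ((S : Subgroup G).subgroupOf N).Normal :=
    Subgroup.normal_subgroupOf_of_le_normalizer le_rfl
  have key : ∀ l : ℕ, m ^ (2 * l + 1) * x * (m ^ (2 * l + 1))⁻¹ = x * r ^ (2 * n) := by
    intro l
    induction l with
    | zero => simpa using he
    | succ l ih =>
      rw [show 2 * (l + 1) + 1 = 1 + (1 + (2 * l + 1)) by ring, pow_add, pow_add, pow_one]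
      calc m * (m * m ^ (2 * l + 1)) * x * (m * (m * m ^ (2 * l + 1)))⁻¹
          = m * (m * (m ^ (2 * l + 1) * x * (m ^ (2 * l + 1))⁻¹) * m⁻¹) * m⁻¹ := by group
        _ = m * (m * x * m⁻¹ * (m * r ^ (2 * n) * m⁻¹)) * m⁻¹ := by rw [ih]; group
        _ = m * x * m⁻¹ := by rw [he, F.normalizer_fix hm, mul_assoc x, F.h.z_sq, mul_one, he]
        _ = x * r ^ (2 * n) := he
  set k := ((S : Subgroup G).subgroupOf N).index
  have hodd : Odd k := Nat.not_even_iff_odd.1 fun h => S.not_dvd_index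
    (h.two_dvd.trans (dvd_of_mul_right_eq N.index
      (Subgroup.relIndex_mul_index (Subgroup.le_normalizer : (S : Subgroup G) ≤ N))))
  obtain ⟨l, hl⟩ := hodd
  have hmem : m ^ k ∈ (S : Subgroup G) :=
    Subgroup.pow_index_mem ((S : Subgroup G).subgroupOf N) (⟨m, hm⟩ : N)
  have := key l
  rw [← hl, ← F.cen_comm hx hmem, mul_inv_cancel_right] at this
  exact F.h.z_ne (mul_eq_left.1 this.symm)

theorem cen_card : Nat.card {x : G // Cen V r n x} = 8 := by
  have hinj : Function.Injective fun p : Bool × V =>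
      (⟨(if p.1 then r ^ (2 * n) else 1) * p.2, (if p.1 then r ^ (2 * n) else 1),
        by cases p.1 <;> simp, p.2, p.2.2, rfl⟩ : {x : G // Cen V r n x}) := by
    rintro ⟨i, v⟩ ⟨j, w⟩ e
    replace e := congrArg Subtype.val e
    have hm : ∀ i : Bool, (if i then r ^ (2 * n) else 1) ∈ D := fun i => by
      cases i
      · simpa using D.one_mem
      · simpa using F.h.z_mem
    obtain ⟨h1, h2⟩ := F.eq_split (hm i) v.2 (hm j) w.2 e
    refine Prod.ext ?_ (Subtype.ext h2)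
    cases i <;> cases j
    · rfl
    · exact absurd (by simpa using h1.symm) F.h.z_ne
    · exact absurd (by simpa using h1) F.h.z_ne
    · rfl
  have hsurj : Function.Surjective fun p : Bool × V =>
      (⟨(if p.1 then r ^ (2 * n) else 1) * p.2, (if p.1 then r ^ (2 * n) else 1),
        by cases p.1 <;> simp, p.2, p.2.2, rfl⟩ : {x : G // Cen V r n x}) := by
    rintro ⟨x, a, ha, b, hb, rfl⟩
    rcases ha with rfl | rfl
    · exact ⟨(false, ⟨b, hb⟩), Subtype.ext (by simp)⟩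
    · exact ⟨(true, ⟨b, hb⟩), Subtype.ext (by simp)⟩
  rw [← Nat.card_congr (Equiv.ofBijective _ ⟨hinj, hsurj⟩), Nat.card_prod, F.card]
  simp

/-- A maximal elementary subgroup. -/
theorem elem_card {e : G} (he : e ∈ D) (heR : e ∉ Subgroup.zpowers r) :
    ∀ x ∈ (S : Subgroup G) ⊓ Subgroup.centralizer ({e} : Set G), x * x = 1 ∧
      ∃ c, Cen V r n c ∧ (x = c ∨ x = e * c) := by
  intro x hx
  obtain ⟨a, ha, b, hb, rfl⟩ := F.split hx.1
  have hc := Subgroup.mem_centralizer_singleton_iff.1 hx.2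
  rw [mul_assoc, ← F.comm he hb, ← mul_assoc, ← mul_assoc] at hc
  have hc' : e * a = a * e := (mul_right_cancel hc).symm
  refine ⟨?_, ?_⟩
  · rw [F.sq_split ha hb]
    rcases F.h.cent_refl he heR ha hc' with h | h | h | h <;> rw [h]
    · exact one_mul 1
    · exact F.h.z_sq
    · exact (F.h.refl e he heR).1
    · exact (F.h.refl _ (D.mul_mem he F.h.z_mem) (F.h.refl_mul_rot heR F.h.z_rot)).1
  · rcases F.h.cent_refl he heR ha hc' with h | h | h | h <;> rw [h]
    · exact ⟨1 * b, ⟨1, Or.inl rfl, b, hb, rfl⟩, Or.inl rfl⟩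
    · exact ⟨_, ⟨_, Or.inr rfl, b, hb, rfl⟩, Or.inl rfl⟩
    · exact ⟨1 * b, ⟨1, Or.inl rfl, b, hb, rfl⟩, Or.inr (by rw [one_mul])⟩
    · exact ⟨_, ⟨_, Or.inr rfl, b, hb, rfl⟩, Or.inr (by rw [mul_assoc])⟩

theorem commutator_rot : (commutator (S : Subgroup G)).map (S : Subgroup G).subtype ≤ Subgroup.zpowers r := by
  rw [commutator_def, Subgroup.map_commutator, ← MonoidHom.range_eq_map, Subgroup.range_subtype,
    Subgroup.commutator_le]
  intro x hx y hy
  obtain ⟨a, ha, b, hb, rfl⟩ := F.split hx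
  obtain ⟨a', ha', b', hb', rfl⟩ := F.split hy
  have hbb : ⁅a * b, a' * b'⁆ = ⁅a, a'⁆ := by
    rw [commutatorElement_def, commutatorElement_def, F.mul_split ha' hb, mul_inv_rev, mul_inv_rev,
      ← F.comm (D.inv_mem ha) (V.inv_mem hb), ← F.comm (D.inv_mem ha') (V.inv_mem hb'),
      F.mul_split (D.inv_mem ha) (V.mul_mem hb hb'), F.mul_split (D.inv_mem ha')
        (V.mul_mem (V.mul_mem hb hb') (V.inv_mem hb))]
    have : b * b' * b⁻¹ * b'⁻¹ = 1 := by rw [F.commV hb hb']; group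
    rw [this, mul_one]
  rw [hbb, commutatorElement_def]
  have hR : ∀ {x y : G}, x ∈ D → y ∈ Subgroup.zpowers r → x * y * x⁻¹ ∈ Subgroup.zpowers r :=
    fun {x y} hx hy => by
      by_cases hxR : x ∈ Subgroup.zpowers r
      · rw [F.h.rot_comm hxR hy, mul_inv_cancel_right]; exact hy
      · rw [F.h.refl_conj hx hxR hy]; exact Subgroup.inv_mem _ hy
  by_cases haR : a ∈ Subgroup.zpowers r
  · have h1 := Subgroup.mul_mem _ haR (hR ha' (Subgroup.inv_mem _ haR))
    rwa [show a * (a' * a⁻¹ * a'⁻¹) = a * a' * a⁻¹ * a'⁻¹ by group] at h1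
  by_cases ha'R : a' ∈ Subgroup.zpowers r
  · exact Subgroup.mul_mem _ (hR ha ha'R) (Subgroup.inv_mem _ ha'R)
  · have h1 := F.h.mul_refl ha haR ha' ha'R
    rw [F.h.refl_inv ha haR, F.h.refl_inv ha' ha'R, mul_assoc]
    exact Subgroup.mul_mem _ h1 h1

end FFrame

end Cfsg.Agent.StrongProd
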