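import Cfsg.Agent.Lib.Fusion.Product.DihFour

/-!
The fusion of the noncentral involutions when the second factor is a four group.
-/

set_option autoImplicit false
set_option linter.style.haveILetI false
set_option linter.unusedSectionVars false

open scoped commutatorElement

namespace Cfsg.Agent.StrongProd

open Cfsg.Agent.Fusion (cj mem_cj SylIn)

universe u

variable {G : Type u} [Group G] [Finite G]

/-- In a group of order not divisible by four two involutions with product of order dividing four agree. -/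
theorem two_invol {H : Type*} [Group H] [Finite H] (h4 : ¬ 4 ∣ Nat.card H) {a b : H} (ha : a * a = 1)
    (hb : b * b = 1) (hab : (a * b) ^ 4 = 1) (ha1 : a ≠ 1) (hb1 : b ≠ 1) : a = b := by
  classical
  haveI : Fact (Nat.Prime 2) := ⟨Nat.prime_two⟩
  by_contra hne
  have hai : a⁻¹ = a := inv_eq_of_mul_eq_one_right ha
  have hbi : b⁻¹ = b := inv_eq_of_mul_eq_one_right hb
  have hord : orderOf (a * b) ∣ 2 ^ 2 := orderOf_dvd_of_pow_eq_one (by norm_num; exact hab)
  obtain ⟨j, hj, he⟩ := (Nat.dvd_prime_pow Nat.prime_two).1 hord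
  have hc : a * b = b * a := by
    interval_cases j
    · have h1 : a * b = 1 := orderOf_eq_one_iff.1 (by simpa using he)
      rw [mul_eq_one_iff_eq_inv, hbi] at h1
      exact absurd h1 hne
    · have h1 : (a * b) * (a * b) = 1 := by
        have := pow_orderOf_eq_one (a * b)
        rwa [he, pow_one, pow_two] at this
      have h2 := inv_eq_of_mul_eq_one_right h1
      rw [mul_inv_rev, hai, hbi] at h2
      exact h2.symm
    · exact (h4 (by have := orderOf_dvd_natCard (a * b); rw [he] at this; exact this)).elim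
  have hp : ∀ {x : H}, x * x = 1 → IsPGroup 2 (Subgroup.zpowers x) := fun {x} hx =>
    IsPGroup.iff_card.2 (by
      rw [Nat.card_zpowers]
      obtain ⟨k, -, hk⟩ := (Nat.dvd_prime_pow Nat.prime_two).1
        (orderOf_dvd_of_pow_eq_one (by rw [pow_one, pow_two]; exact hx) : orderOf x ∣ 2 ^ 1)
      exact ⟨k, hk⟩)
  have hn : Subgroup.zpowers b ≤ Subgroup.normalizer (Subgroup.zpowers a : Set H) := by
    refine Subgroup.zpowers_le.2 (Subgroup.centralizer_le_normalizer _ (Subgroup.mem_centralizer_iff.2 ?_))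
    rintro w ⟨i, rfl⟩
    exact ((show Commute a b from hc).zpow_left i).eq
  obtain ⟨k, hk⟩ := IsPGroup.iff_card.1 (IsPGroup.to_sup_of_normal_left' (hp ha) (hp hb) hn)
  set P := Subgroup.zpowers a ⊔ Subgroup.zpowers b
  have h3 : 3 ≤ Nat.card P := by
    let f : Fin 3 → P := ![1, ⟨a, Subgroup.mem_sup_left (Subgroup.mem_zpowers a)⟩,
      ⟨b, Subgroup.mem_sup_right (Subgroup.mem_zpowers b)⟩]
    have hf : Function.Injective f := by
      intro i j h
      replace h := congrArg Subtype.val h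
      fin_cases i <;> fin_cases j <;> simp [f] at h ⊢ <;>
        first | exact ha1 h | exact ha1 h.symm | exact hb1 h | exact hb1 h.symm | exact hne h | exact hne h.symm
    simpa using Nat.card_le_card_of_injective f hf
  rcases k with _ | _ | k
  · simp [hk] at h3
  · rw [hk] at h3; norm_num at h3
  · exact h4 ((Dvd.intro_left _ (by rw [hk]; ring : 2 ^ k * 4 = Nat.card P)).trans
      (Subgroup.card_subgroup_dvd_card P))

/-- Conjugation of the data. -/
theorem cj_eq_of_comm {U : Subgroup G} {s : G} (h : ∀ x ∈ U, s * x = x * s) : cj U s = U :=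
  Fusion.cj_eq_self (Subgroup.centralizer_le_normalizer _ (Subgroup.mem_centralizer_iff.2 fun x hx => (h x hx).symm))

namespace FFrame

variable {S : Sylow 2 G} {D V : Subgroup G} {r : G} {n : ℕ} (F : FFrame S D V r n)
include F

/-- The Sylow subgroup of the normaliser acts as `q`. -/
theorem conj_elem_eq {e w : G} (he : e ∈ D) (heR : e ∉ Subgroup.zpowers r) (hw : w ∈ (S : Subgroup G))
    (hwe : w * e * w⁻¹ = e * r ^ (2 * n)) :
    ∀ t ∈ (S : Subgroup G) ⊓ Subgroup.centralizer ({e} : Set G), w * t * w⁻¹ = r ^ n * t * (r ^ n)⁻¹ := by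
  intro t ht
  obtain ⟨-, c, hc, h | h⟩ := F.elem_card he heR t ht
  · rw [h, (F.q_action he heR hc).1, ← F.cen_comm hc hw, mul_inv_cancel_right]
  · rw [h, (F.q_action he heR hc).2,
      show w * (e * c) * w⁻¹ = w * e * w⁻¹ * (w * c * w⁻¹) by group, hwe, ← F.cen_comm hc hw,
      mul_inv_cancel_right, mul_assoc, mul_assoc, F.cen_comm hc (F.leD F.h.z_mem)]

/-- The action on an elementary subgroup of a `2`-element of its normaliser. -/
theorem twisted {e x : G} (he : e ∈ D) (heR : e ∉ Subgroup.zpowers r) (hx2 : IsPGroup 2 (Subgroup.zpowers x))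
    (hxK : x ∈ Subgroup.normalizer (((S : Subgroup G) ⊓ Subgroup.centralizer ({e} : Set G) : Subgroup G) : Set G))
    (hxn : ∃ t ∈ (S : Subgroup G) ⊓ Subgroup.centralizer ({e} : Set G), x * t * x⁻¹ ≠ t) :
    ∃ k ∈ Subgroup.normalizer (((S : Subgroup G) ⊓ Subgroup.centralizer ({e} : Set G) : Subgroup G) : Set G),
      ∀ t ∈ (S : Subgroup G) ⊓ Subgroup.centralizer ({e} : Set G),
        x * t * x⁻¹ = k⁻¹ * (r ^ n * (k * t * k⁻¹) * (r ^ n)⁻¹) * k := by
  haveI : Fact (Nat.Prime 2) := ⟨Nat.prime_two⟩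
  set T := (S : Subgroup G) ⊓ Subgroup.centralizer ({e} : Set G) with hT
  obtain ⟨k, hk, hle⟩ := (F.sylIn_normalizer he heR).conj_le hx2 (Subgroup.zpowers_le.2 hxK)
  refine ⟨k, hk, fun t ht => ?_⟩
  have hmem := hle (Fusion.conj_mem_cj (Subgroup.mem_zpowers x))
  have hkt := Solv.conj_mem_of_mem_normalizer hk ht
  rcases F.normalizer_elem he heR hmem with ⟨-, hin⟩ | hact
  · exfalso
    obtain ⟨t₁, ht₁, hne⟩ := hxn
    refine hne ?_
    have hc := commute_of_sq (fun s hs => (F.elem_card he heR s hs).1) hin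
      (Solv.conj_mem_of_mem_normalizer hk ht₁)
    calc x * t₁ * x⁻¹ = k⁻¹ * (k * x * k⁻¹ * (k * t₁ * k⁻¹)) * k * x⁻¹ := by group
      _ = t₁ := by rw [hc]; group
  · rw [← F.conj_elem_eq he heR hmem.1 hact _ hkt]
    group

theorem elem_sq {e : G} (he : e ∈ D) (heR : e ∉ Subgroup.zpowers r) :
    ∀ t ∈ (S : Subgroup G) ⊓ Subgroup.centralizer ({e} : Set G), t * t = 1 :=
  fun t ht => (F.elem_card he heR t ht).1

theorem q_elem {e : G} (he : e ∈ D) (heR : e ∉ Subgroup.zpowers r) {t : G}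
    (ht : t ∈ (S : Subgroup G) ⊓ Subgroup.centralizer ({e} : Set G)) :
    r ^ n * t * (r ^ n)⁻¹ = t ∨ r ^ n * t * (r ^ n)⁻¹ = t * r ^ (2 * n) := by
  obtain ⟨-, c, hc, h | h⟩ := F.elem_card he heR t ht
  · exact Or.inl (h ▸ (F.q_action he heR hc).1)
  · exact Or.inr (h ▸ (F.q_action he heR hc).2)

theorem q_sq_act (t : G) (ht : t ∈ (S : Subgroup G)) :
    r ^ n * (r ^ n * t * (r ^ n)⁻¹) * (r ^ n)⁻¹ = t := by
  rw [show r ^ n * (r ^ n * t * (r ^ n)⁻¹) * (r ^ n)⁻¹ = r ^ n * r ^ n * t * (r ^ n * r ^ n)⁻¹ by group,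
    F.h.q_sq, F.z_central ht, mul_inv_cancel_right]

/-- Two elements of the normaliser acting as involutions and generating a `2`-group act equally. -/
theorem action_eq {e x y : G} (he : e ∈ D) (heR : e ∉ Subgroup.zpowers r)
    (hx : x ∈ Subgroup.normalizer (((S : Subgroup G) ⊓ Subgroup.centralizer ({e} : Set G) : Subgroup G) : Set G))
    (hy : y ∈ Subgroup.normalizer (((S : Subgroup G) ⊓ Subgroup.centralizer ({e} : Set G) : Subgroup G) : Set G))
    (hxx : ∀ t ∈ (S : Subgroup G) ⊓ Subgroup.centralizer ({e} : Set G), x * (x * t * x⁻¹) * x⁻¹ = t)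
    (hyy : ∀ t ∈ (S : Subgroup G) ⊓ Subgroup.centralizer ({e} : Set G), y * (y * t * y⁻¹) * y⁻¹ = t)
    (h4 : ∀ t ∈ (S : Subgroup G) ⊓ Subgroup.centralizer ({e} : Set G), (x * y) ^ 4 * t * ((x * y) ^ 4)⁻¹ = t)
    (hxn : ∃ t ∈ (S : Subgroup G) ⊓ Subgroup.centralizer ({e} : Set G), x * t * x⁻¹ ≠ t)
    (hyn : ∃ t ∈ (S : Subgroup G) ⊓ Subgroup.centralizer ({e} : Set G), y * t * y⁻¹ ≠ t) :
    ∀ t ∈ (S : Subgroup G) ⊓ Subgroup.centralizer ({e} : Set G), x * t * x⁻¹ = y * t * y⁻¹ := by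
  classical
  haveI : Fact (Nat.Prime 2) := ⟨Nat.prime_two⟩
  set T := (S : Subgroup G) ⊓ Subgroup.centralizer ({e} : Set G) with hT
  set φ := T.normalizerMonoidHom with hφ
  have hval : ∀ (k : Subgroup.normalizer (T : Set G)) (t : T),
      ((φ k t : T) : G) = (k : G) * t * (k : G)⁻¹ := fun k t => rfl
  have hone : ∀ k : Subgroup.normalizer (T : Set G),
      φ k = 1 ↔ ∀ t ∈ T, (k : G) * t * (k : G)⁻¹ = t := by
    intro k
    constructor
    · intro h t ht
      rw [← hval k ⟨t, ht⟩, h]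
      rfl
    · intro h
      ext t
      rw [hval]
      exact h t t.2
  have hker : 16 ∣ Nat.card φ.ker := by
    have hle : T.subgroupOf (Subgroup.normalizer (T : Set G)) ≤ φ.ker := fun k hk => (hone k).2 fun t ht => by
      rw [commute_of_sq (F.elem_sq he heR) (show (k : G) ∈ T from hk) ht, mul_inv_cancel_right]
    have h1 : Nat.card (T.subgroupOf (Subgroup.normalizer (T : Set G))) = 16 := by
      rw [Nat.card_congr (Subgroup.subgroupOfEquivOfLe Subgroup.le_normalizer).toEquiv, hT,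
        F.elem_count he heR]
    exact h1 ▸ Subgroup.card_dvd_of_le hle
  have hrange : ¬ 4 ∣ Nat.card φ.range := by
    intro h
    have hsyl := F.sylIn_normalizer he heR
    rw [← hT] at hsyl
    have h1 := Subgroup.card_mul_index φ.ker
    rw [Subgroup.index_ker] at h1
    have h2 := Subgroup.card_mul_index (((S : Subgroup G) ⊓ Subgroup.normalizer (T : Set G)).subgroupOf
      (Subgroup.normalizer (T : Set G)))
    rw [Nat.card_congr (Subgroup.subgroupOfEquivOfLe hsyl.le).toEquiv] at h2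
    have h32 : Nat.card ((S : Subgroup G) ⊓ Subgroup.normalizer (T : Set G) : Subgroup G) = 32 :=
      F.normalizer_count he heR
    rw [h32, ← h1] at h2
    apply hsyl.not_dvd
    have h3 : 32 * 2 ∣ Nat.card φ.ker * Nat.card φ.range := by
      have := Nat.mul_dvd_mul hker h
      norm_num at this ⊢
      exact this
    rw [← h2] at h3
    exact (Nat.mul_dvd_mul_iff_left (by norm_num : 0 < 32)).1 h3
  set X : φ.range := ⟨φ ⟨x, hx⟩, _, rfl⟩
  set Y : φ.range := ⟨φ ⟨y, hy⟩, _, rfl⟩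
  have key : X = Y := by
    refine two_invol hrange (Subtype.ext ?_) (Subtype.ext ?_) (Subtype.ext ?_) ?_ ?_
    · show φ ⟨x, hx⟩ * φ ⟨x, hx⟩ = 1
      rw [← map_mul, hone]
      intro t ht
      rw [Subgroup.coe_mul, show x * x * t * (x * x)⁻¹ = x * (x * t * x⁻¹) * x⁻¹ by group]
      exact hxx t ht
    · show φ ⟨y, hy⟩ * φ ⟨y, hy⟩ = 1
      rw [← map_mul, hone]
      intro t ht
      rw [Subgroup.coe_mul, show y * y * t * (y * y)⁻¹ = y * (y * t * y⁻¹) * y⁻¹ by group]
      exact hyy t ht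
    · show (φ ⟨x, hx⟩ * φ ⟨y, hy⟩) ^ 4 = 1
      rw [← map_mul, ← map_pow, hone]
      exact h4
    · intro h
      obtain ⟨t, ht, hne⟩ := hxn
      exact hne ((hone ⟨x, hx⟩).1 (congrArg Subtype.val h) t ht)
    · intro h
      obtain ⟨t, ht, hne⟩ := hyn
      exact hne ((hone ⟨y, hy⟩).1 (congrArg Subtype.val h) t ht)
  intro t ht
  have h := congrArg Subtype.val key
  exact (hval ⟨x, hx⟩ ⟨t, ht⟩).symm.trans ((congrArg (fun f : MulAut T => ((f ⟨t, ht⟩ : T) : G)) h).trans
    (hval ⟨y, hy⟩ ⟨t, ht⟩))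

/-- A fused noncentral involution provides fusion data. -/
theorem exists_fus {e b v : G} (he : e ∈ D) (heR : e ∉ Subgroup.zpowers r) (hb : b ∈ V) (hv : Cen V r n v)
    (hc : IsConj (e * b) v) : ∃ c U, Cen V r n c ∧ FusData S V r n (e * c) U := by
  classical
  haveI : Fact (Nat.Prime 2) := ⟨Nat.prime_two⟩
  set T := (S : Subgroup G) ⊓ Subgroup.centralizer ({e} : Set G) with hT
  set K := Subgroup.normalizer (T : Set G) with hK
  have hbc : Cen V r n b := ⟨1, Or.inl rfl, b, hb, (one_mul b).symm⟩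
  have hu : e * b ∈ T := (F.elem_mem he hbc).1
  have hzT : r ^ (2 * n) ∈ T := (F.elem_mem he F.cen_z).2
  have hTc : ∀ s ∈ T, ∀ t ∈ T, s * t = t * s := fun s hs t ht => commute_of_sq (F.elem_sq he heR) hs ht
  obtain ⟨g, hg, hmove⟩ := exists_conj_full hc (full_of_central fun s hs => F.cen_comm hv hs)
  have hgT : ∀ y ∈ T, g * y * g⁻¹ ∈ (S : Subgroup G) := fun y hy => hmove y hy.1 (hTc y hy _ hu)
  set T' := cj (S : Subgroup G) g⁻¹ with hT'
  have hTT' : T ≤ T' := fun y hy => by rw [hT', mem_cj, inv_inv]; exact hgT y hy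
  have hne : T ≠ T' := fun h => by
    have h1 := congrArg (fun H : Subgroup G => Nat.card H) h
    simp only [hT', Fusion.card_cj] at h1
    have h16 : Nat.card T = 16 := F.elem_count he heR
    rw [h16] at h1
    have h2 : Nat.card ((S : Subgroup G) ⊓ K : Subgroup G) = 32 := F.normalizer_count he heR
    have h3 : Nat.card ((S : Subgroup G) ⊓ K : Subgroup G) ≤ Nat.card (S : Subgroup G) :=
      Subgroup.card_le_of_le inf_le_left
    omega
  obtain ⟨x, hx, hxT⟩ := SetLike.exists_of_lt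
    (SylIn.normalizer_growth hTT' hne (Fusion.isPGroup_cj S.isPGroup' g⁻¹))
  have hxS : g * x * g⁻¹ ∈ (S : Subgroup G) := by
    have := mem_cj.1 hx.1
    rwa [inv_inv] at this
  have hxn : ∃ t ∈ T, x * t * x⁻¹ ≠ t := by
    by_contra hfix
    push Not at hfix
    obtain ⟨e'', he'', he''R, heq⟩ := F.elem_eq (T := cj T g)
      (by rintro _ ⟨t, ht, rfl⟩; exact hgT t ht)
      (by rintro _ ⟨t, ht, rfl⟩; rw [← map_mul, F.elem_sq he heR t ht, map_one])
      (by rw [Fusion.card_cj]; exact F.elem_count he heR)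
    have hmem : e'' ∈ cj T g := by
      rw [heq]; exact ⟨F.leD he'', Subgroup.mem_centralizer_singleton_iff.2 rfl⟩
    have h1 := hfix _ (mem_cj.1 hmem)
    rw [mul_inv_eq_iff_eq_mul] at h1
    have h2 : g * x * g⁻¹ ∈ cj T g := by
      rw [heq]
      refine ⟨hxS, Subgroup.mem_centralizer_singleton_iff.2 ?_⟩
      calc g * x * g⁻¹ * e'' = g * (x * (g⁻¹ * e'' * g)) * g⁻¹ := by group
        _ = g * (g⁻¹ * e'' * g * x) * g⁻¹ := by rw [h1]
        _ = e'' * (g * x * g⁻¹) := by group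
    refine hxT ?_
    have h3 := mem_cj.1 h2
    rwa [show g⁻¹ * (g * x * g⁻¹) * g = x by group] at h3
  have hxu : x * (e * b) * x⁻¹ = e * b := by
    have h1 := F.cen_comm hv hxS
    rw [← hg] at h1
    calc x * (e * b) * x⁻¹ = g⁻¹ * (g * x * g⁻¹ * (g * (e * b) * g⁻¹)) * g * x⁻¹ := by group
      _ = e * b := by rw [← h1]; group
  obtain ⟨k, hk, htw⟩ := F.twisted he heR
    ((Fusion.isPGroup_cj S.isPGroup' g⁻¹).to_le (Subgroup.zpowers_le.2 hx.1)) hx.2 hxn
  set w := k⁻¹ * r ^ (2 * n) * k with hwdef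
  have hwT : w ∈ T := by
    have := Solv.conj_mem_of_mem_normalizer (Subgroup.inv_mem _ hk) hzT
    rwa [inv_inv] at this
  have hτ : ∀ t ∈ T, x * t * x⁻¹ = t ∨ x * t * x⁻¹ = t * w := fun t ht => by
    rw [htw t ht]
    rcases F.q_elem he heR (Solv.conj_mem_of_mem_normalizer hk ht) with h | h <;> rw [h]
    · left; group
    · right; rw [hwdef]; group
  have hσ : ∀ t ∈ T, r ^ n * t * (r ^ n)⁻¹ = t ∨ r ^ n * t * (r ^ n)⁻¹ = t * r ^ (2 * n) :=
    fun t ht => F.q_elem he heR ht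
  have hτw : x * w * x⁻¹ = w := by
    rw [htw w hwT, show k * w * k⁻¹ = r ^ (2 * n) by rw [hwdef]; group,
      F.h.rot_comm F.h.q_rot F.h.z_rot, mul_inv_cancel_right]
  have hσz : r ^ n * r ^ (2 * n) * (r ^ n)⁻¹ = r ^ (2 * n) := by
    rw [F.h.rot_comm F.h.q_rot F.h.z_rot, mul_inv_cancel_right]
  have hxx : ∀ t ∈ T, x * (x * t * x⁻¹) * x⁻¹ = t := fun t ht => by
    rw [htw _ (Solv.conj_mem_of_mem_normalizer hx.2 ht), htw t ht]
    have h1 := F.q_sq_act _ (Solv.conj_mem_of_mem_normalizer hk ht).1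
    calc k⁻¹ * (r ^ n * (k * (k⁻¹ * (r ^ n * (k * t * k⁻¹) * (r ^ n)⁻¹) * k) * k⁻¹) * (r ^ n)⁻¹) * k
        = k⁻¹ * (r ^ n * (r ^ n * (k * t * k⁻¹) * (r ^ n)⁻¹) * (r ^ n)⁻¹) * k := by group
      _ = t := by rw [h1]; group
  have hσu := (F.q_action he heR hbc).2
  have hσn : ∃ t ∈ T, r ^ n * t * (r ^ n)⁻¹ ≠ t := ⟨_, hu, by
    rw [hσu]; exact fun h => F.h.z_ne (mul_eq_left.1 h)⟩
  have hdiff : ¬ ∀ t ∈ T, r ^ n * t * (r ^ n)⁻¹ = x * t * x⁻¹ := fun h => by
    have := h _ hu
    rw [hσu, hxu] at this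
    exact F.h.z_ne (mul_eq_left.1 this)
  have hqK : r ^ n ∈ K := F.q_normalizes he heR
  have hσw : r ^ n * w * (r ^ n)⁻¹ = w * r ^ (2 * n) := (hσ w hwT).resolve_left fun h =>
    hdiff (F.action_eq he heR hqK hx.2 (fun t ht => F.q_sq_act t ht.1) hxx
      (transvection_pow (F.elem_sq he heR) hTc hzT hwT hσ hτ hσz hτw h) hσn hxn)
  have hτz : x * r ^ (2 * n) * x⁻¹ = r ^ (2 * n) * w := (hτ _ hzT).resolve_left fun h =>
    hdiff fun t ht => (F.action_eq he heR hx.2 hqK hxx (fun t ht => F.q_sq_act t ht.1)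
      (transvection_pow (F.elem_sq he heR) hTc hwT hzT hτ hσ hτw hσz h) hxn hσn t ht).symm
  have hwn : ¬ Cen V r n w := fun h => F.h.z_ne (by
    rw [(F.q_action he heR h).1] at hσw
    exact mul_eq_left.1 hσw.symm)
  obtain ⟨-, c, hcc, hw' | hw'⟩ := F.elem_card he heR w hwT
  · exact absurd (hw' ▸ hcc) hwn
  let U : Subgroup G :=
    { carrier := {f | Cen V r n f ∧ Commute x f}
      one_mem' := ⟨F.cen_one, Commute.one_right x⟩
      mul_mem' := fun ha hb' => ⟨F.cen_mul ha.1 hb'.1, ha.2.mul_right hb'.2⟩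
      inv_mem' := fun ha => ⟨(F.cen_inv ha.1).symm ▸ ha.1, ha.2.inv_right⟩ }
  refine ⟨c, U, hcc, ?_⟩
  rw [← hw']
  refine ⟨hwT.1, hwn, F.elem_sq he heR w hwT, isConj_iff.2 ⟨k, by rw [hwdef]; group⟩,
    fun f hf => hf.1, fun hz => ?_, fun f hf => ?_, fun f hf => ?_⟩
  · have h1 : x * r ^ (2 * n) * x⁻¹ = r ^ (2 * n) := by rw [hz.2.eq, mul_inv_cancel_right]
    rw [hτz] at h1
    exact hwn (mul_eq_left.1 h1 ▸ F.cen_one)
  · have hfT : f ∈ T := (F.elem_mem he hf).2
    rcases hτ f hfT with h | h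
    · exact Or.inl ⟨hf, mul_inv_eq_iff_eq_mul.1 h⟩
    · refine Or.inr ⟨F.cen_mul hf F.cen_z, mul_inv_eq_iff_eq_mul.1 ?_⟩
      rw [show x * (f * r ^ (2 * n)) * x⁻¹ = x * f * x⁻¹ * (x * r ^ (2 * n) * x⁻¹) by group, h, hτz,
        hTc _ hzT _ hwT, mul_assoc, ← mul_assoc w, F.elem_sq he heR w hwT, one_mul]
  · have hfT : f ∈ T := (F.elem_mem he hf.1).2
    refine (isConj_iff.2 ⟨r ^ n * x, ?_⟩ : IsConj (f * r ^ (2 * n)) (w * f)).symm
    have h1 : x * (f * r ^ (2 * n)) * x⁻¹ = f * r ^ (2 * n) * w := by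
      rw [show x * (f * r ^ (2 * n)) * x⁻¹ = x * f * x⁻¹ * (x * r ^ (2 * n) * x⁻¹) by group, hτz, hf.2.eq,
        mul_inv_cancel_right, mul_assoc]
    calc r ^ n * x * (f * r ^ (2 * n)) * (r ^ n * x)⁻¹
        = r ^ n * (x * (f * r ^ (2 * n)) * x⁻¹) * (r ^ n)⁻¹ := by group
      _ = r ^ n * f * (r ^ n)⁻¹ * (r ^ n * r ^ (2 * n) * (r ^ n)⁻¹) * (r ^ n * w * (r ^ n)⁻¹) := by
          rw [h1]; group
      _ = f * r ^ (2 * n) * (w * r ^ (2 * n)) := by rw [(F.q_action he heR hf.1).1, hσz, hσw]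
      _ = w * f := by
          rw [hTc _ hwT _ hzT, mul_assoc f, ← mul_assoc (r ^ (2 * n)) (r ^ (2 * n)) w, F.h.z_sq, one_mul,
            hTc _ hfT _ hwT]

theorem normalizer_of_mem {s : G} (hs : s ∈ (S : Subgroup G)) :
    s ∈ Subgroup.normalizer ((S : Subgroup G) : Set G) := Subgroup.le_normalizer hs

/-- The normaliser of `S` permutes the data. -/
theorem fus_conj {m w : G} {U : Subgroup G} (hm : m ∈ Subgroup.normalizer ((S : Subgroup G) : Set G))
    (h : FusData S V r n w U) : FusData S V r n (m * w * m⁻¹) (cj U m) := by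
  have hmi := Subgroup.inv_mem _ hm
  refine ⟨Solv.conj_mem_of_mem_normalizer hm h.memS, fun hc => h.ncen ?_, ?_, ?_, ?_, fun hz => h.nz ?_,
    fun c hc => ?_, ?_⟩
  · have := F.cen_normalizer hmi hc
    rwa [show m⁻¹ * (m * w * m⁻¹) * m⁻¹⁻¹ = w by group] at this
  · rw [show m * w * m⁻¹ * (m * w * m⁻¹) = m * (w * w) * m⁻¹ by group, h.sq]; group
  · exact (isConj_iff.2 ⟨m, rfl⟩ : IsConj w (m * w * m⁻¹)).symm.trans h.conjz
  · rintro _ ⟨f, hf, rfl⟩
    exact F.cen_normalizer hm (h.cen f hf)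
  · have h1 := mem_cj.1 hz
    have h2 := F.normalizer_fix hmi
    rw [inv_inv] at h2
    rwa [h2] at h1
  · have h1 := F.cen_normalizer hmi hc
    rw [inv_inv] at h1
    have h2 := F.normalizer_fix hmi
    rw [inv_inv] at h2
    rcases h.cover _ h1 with h' | h'
    · exact Or.inl (mem_cj.2 h')
    · refine Or.inr (mem_cj.2 ?_)
      rwa [show m⁻¹ * (c * r ^ (2 * n)) * m = m⁻¹ * c * m * (m⁻¹ * r ^ (2 * n) * m) by group, h2]
  · rintro _ ⟨f, hf, rfl⟩
    show IsConj (m * w * m⁻¹ * (m * f * m⁻¹)) (m * f * m⁻¹ * r ^ (2 * n))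
    have h1 : IsConj (w * f) (m * w * m⁻¹ * (m * f * m⁻¹)) := isConj_iff.2 ⟨m, by group⟩
    have h2 : IsConj (f * r ^ (2 * n)) (m * f * m⁻¹ * r ^ (2 * n)) := isConj_iff.2 ⟨m, by
      rw [show m * (f * r ^ (2 * n)) * m⁻¹ = m * f * m⁻¹ * (m * r ^ (2 * n) * m⁻¹) by group,
        F.normalizer_fix hm]⟩
    exact h1.symm.trans ((h.trans f hf).trans h2)

theorem fus_cj_self {s w : G} {U : Subgroup G} (hs : s ∈ (S : Subgroup G))
    (h : FusData S V r n w U) : cj U s = U :=
  cj_eq_of_comm fun x hx => (F.cen_comm (h.cen x hx) hs).symm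

theorem flip {e c : G} (he : e ∈ D) (heR : e ∉ Subgroup.zpowers r) (hc : Cen V r n c) :
    IsConj (e * c) (e * c * r ^ (2 * n)) := isConj_iff.2 ⟨r ^ n, (F.q_action he heR hc).2⟩

/-- The subgroup of the data at a reflection is unique. -/
theorem fus_unique {e c c' : G} {U U' : Subgroup G} (he : e ∈ D) (heR : e ∉ Subgroup.zpowers r)
    (hc : Cen V r n c) (hc' : Cen V r n c') (h : FusData S V r n (e * c) U)
    (h' : FusData S V r n (e * c') U') : U' = U := by
  set k := c * c' with hkdef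
  have hkc : Cen V r n k := F.cen_mul hc hc'
  have hk' : e * c' = e * c * k := by
    rw [hkdef, mul_assoc e, ← mul_assoc c c, F.cen_sq hc, one_mul]
  have hw : e * c' = e * c ∨ e * c' = e * c * r ^ (2 * n) := by
    rcases h.cover k hkc with hk | hk
    · left
      have h1 := (h.trans k hk).symm.trans (hk' ▸ h'.conjz)
      have h2 := F.conj_z (F.cen_mul hkc F.cen_z) h1
      rw [hk', mul_eq_right.1 h2, mul_one]
    · right
      have h1 : IsConj (e * c * k) k := by
        have h2 := h.trans _ hk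
        rw [mul_assoc k, F.h.z_sq, mul_one, ← mul_assoc] at h2
        refine IsConj.trans ?_ h2
        rw [mul_assoc e]
        exact F.flip he heR (F.cen_mul hc hkc)
      rw [hk', F.conj_z hkc (h1.symm.trans (hk' ▸ h'.conjz))]
  have hle : U' ≤ U := by
    intro f hf
    by_contra hfU
    have hfc := h'.cen f hf
    have hfz := (h.cover f hfc).resolve_left hfU
    have h2 := h.trans _ hfz
    rw [mul_assoc f, F.h.z_sq, mul_one, ← mul_assoc] at h2
    have hfl : IsConj (e * c * f) (e * c * f * r ^ (2 * n)) := by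
      rw [mul_assoc e]
      exact F.flip he heR (F.cen_mul hc hfc)
    refine F.not_conj_mul_z hfc (((h'.trans f hf).symm.trans ?_).symm)
    rcases hw with e' | e' <;> rw [e']
    · exact hfl.trans h2
    · rw [mul_assoc (e * c), ← F.cen_comm hfc (F.leD F.h.z_mem), ← mul_assoc]
      exact h2
  refine le_antisymm hle fun f hf => ?_
  rcases h'.cover f (h.cen f hf) with h1 | h1
  · exact h1
  · exfalso
    have := U.mul_mem (U.inv_mem hf) (hle h1)
    rw [inv_mul_cancel_left] at this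
    exact h.nz this

theorem rot_mem_iff {a b : G} (ha : a ∈ D) (hb : b ∈ V) :
    a * b ∈ Subgroup.zpowers r ⊔ V ↔ a ∈ Subgroup.zpowers r := by
  refine ⟨fun h => ?_, fun h => Subgroup.mul_mem _ (Subgroup.mem_sup_left h) (Subgroup.mem_sup_right hb)⟩
  have hn : Subgroup.zpowers r ≤ Subgroup.normalizer (V : Set G) := fun x hx =>
    Fusion.mem_normalizer_of_cj_le fun y hy => by
      rw [mem_cj] at hy
      have := F.comm (F.h.zpowers_le hx) hy
      rwa [show y = x * (x⁻¹ * y * x) * x⁻¹ by group, this, mul_inv_cancel_right]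
  have h' : a * b ∈ ((Subgroup.zpowers r ⊔ V : Subgroup G) : Set G) := h
  rw [Subgroup.coe_mul_of_left_le_normalizer_right _ _ hn] at h'
  obtain ⟨x, hx, y, hy, h''⟩ := h'
  exact (F.eq_split (F.h.zpowers_le hx) hy ha hb h'').1 ▸ hx

theorem rot_relIndex : (Subgroup.zpowers r ⊔ V).relIndex (S : Subgroup G) = 2 := by
  obtain ⟨e, he, heR⟩ := F.h.ex
  rw [Subgroup.relIndex, Subgroup.index_eq_two_iff]
  refine ⟨⟨e, F.leD he⟩, fun w => ?_⟩
  obtain ⟨a, ha, b, hb, hw⟩ := F.split w.2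
  have h1 : (w : G) * e = a * e * b := by rw [hw, mul_assoc, ← F.comm he hb, mul_assoc]
  rw [Subgroup.mem_subgroupOf, Subgroup.mem_subgroupOf]
  show Xor ((w : G) * e ∈ _) ((w : G) ∈ _)
  rw [h1, hw, F.rot_mem_iff (D.mul_mem ha he) hb, F.rot_mem_iff ha hb]
  by_cases haR : a ∈ Subgroup.zpowers r
  · refine Or.inr ⟨haR, fun h => heR ?_⟩
    have := Subgroup.mul_mem _ (Subgroup.inv_mem _ haR) h
    rwa [inv_mul_cancel_left] at this
  · exact Or.inl ⟨F.h.mul_refl ha haR he heR, haR⟩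

/-- Every reflection carries fusion data. -/
theorem exists_data {e : G} (he : e ∈ D) (heR : e ∉ Subgroup.zpowers r) :
    ∃ c U, Cen V r n c ∧ FusData S V r n (e * c) U := by
  have hee := (F.h.refl e he heR).1
  have heM : e ∉ Subgroup.zpowers r ⊔ V := fun h => heR ((F.rot_mem_iff he V.one_mem).1 (by rwa [mul_one]))
  have hMS : Subgroup.zpowers r ⊔ V ≤ (S : Subgroup G) := sup_le (F.h.zpowers_le.trans F.leD) F.leV
  obtain ⟨v, hvM, hv⟩ := exists_conj_mem_index_two F.noTwo S hMS F.rot_relIndex hee (F.leD he) heM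
  refine F.exists_fus he heR V.one_mem (v := v) ?_ (by rwa [mul_one])
  obtain ⟨g, hg⟩ := isConj_iff.1 hv
  obtain ⟨a, ha, b, hb, rfl⟩ := F.split (hMS hvM)
  have h2 : a * b * (a * b) = 1 := by
    rw [← hg, show g * e * g⁻¹ * (g * e * g⁻¹) = g * (e * e) * g⁻¹ by group, hee]; group
  rw [F.sq_split ha hb] at h2
  exact ⟨a, F.h.rot_invol ((F.rot_mem_iff ha hb).1 hvM) h2, b, hb, rfl⟩

theorem fus_card {w : G} {U : Subgroup G} (h : FusData S V r n w U) : Nat.card U = 4 := by
  classical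
  let f : Bool × U → {c : G // Cen V r n c} := fun p => ⟨(if p.1 then r ^ (2 * n) else 1) * p.2, by
    obtain ⟨i, u⟩ := p
    cases i
    · simpa using h.cen _ u.2
    · simpa using F.cen_mul F.cen_z (h.cen _ u.2)⟩
  have hinj : Function.Injective f := by
    rintro ⟨i, a⟩ ⟨j, b⟩ e
    replace e := congrArg Subtype.val e
    simp only [f] at e
    cases i <;> cases j <;> simp only [one_mul, Bool.false_eq_true, ↓reduceIte] at e
    · rw [Subtype.ext e]
    · exact absurd (by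
        have := U.mul_mem a.2 (U.inv_mem b.2)
        rwa [e, mul_inv_cancel_right] at this) h.nz
    · exact absurd (by
        have := U.mul_mem b.2 (U.inv_mem a.2)
        rwa [← e, mul_inv_cancel_right] at this) h.nz
    · rw [Subtype.ext (mul_left_cancel e)]
  have hsurj : Function.Surjective f := by
    rintro ⟨c, hc⟩
    rcases h.cover c hc with h' | h'
    · exact ⟨(false, ⟨c, h'⟩), Subtype.ext (by simp [f])⟩
    · refine ⟨(true, ⟨_, h'⟩), Subtype.ext ?_⟩
      show r ^ (2 * n) * (c * r ^ (2 * n)) = c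
      rw [F.cen_comm hc (F.leD F.h.z_mem), ← mul_assoc, F.h.z_sq, one_mul]
  have h8 := Nat.card_congr (Equiv.ofBijective f ⟨hinj, hsurj⟩)
  rw [Nat.card_prod, F.cen_card] at h8
  simp only [Nat.card_eq_fintype_card, Fintype.card_bool] at h8 ⊢
  omega

/-- All the data share one subgroup. -/
theorem fus_same (hO : Cfsg.oddCore G = ⊥) {w w' : G} {U U' : Subgroup G} (h : FusData S V r n w U)
    (h' : FusData S V r n w' U') : U' = U := by
  classical
  haveI : Fact (Nat.Prime 2) := ⟨Nat.prime_two⟩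
  obtain ⟨e₀, he₀, he₀R⟩ := F.h.ex
  have he₁ := D.mul_mem he₀ F.h.mem
  have he₁R := F.h.refl_mul_rot he₀R (Subgroup.mem_zpowers r)
  obtain ⟨c₀, U₀, hc₀, h₀⟩ := F.exists_data he₀ he₀R
  obtain ⟨c₁, U₁, hc₁, h₁⟩ := F.exists_data he₁ he₁R
  have hany : ∀ {w : G} {U : Subgroup G}, FusData S V r n w U → U = U₀ ∨ U = U₁ := by
    intro w U h
    obtain ⟨e, he, heR, b, hb, hwe⟩ := F.refl_comp h.memS h.sq h.ncen
    have hbc : Cen V r n b := ⟨1, Or.inl rfl, b, hb, (one_mul b).symm⟩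
    rw [hwe] at h
    obtain ⟨j, hj⟩ := F.h.refl_class he₀ he₀R he heR
    have hsS : r ^ j ∈ (S : Subgroup G) := (S : Subgroup G).zpow_mem (F.leD F.h.mem) j
    have hmv : ∀ {x c : G} {U' : Subgroup G}, Cen V r n c → FusData S V r n (x * c) U' →
        FusData S V r n (r ^ j * x * (r ^ j)⁻¹ * c) U' := by
      intro x c U' hc hd
      have h1 := F.fus_conj (F.normalizer_of_mem hsS) hd
      rw [F.fus_cj_self hsS hd, show r ^ j * (x * c) * (r ^ j)⁻¹
        = r ^ j * x * (r ^ j)⁻¹ * (r ^ j * c * (r ^ j)⁻¹) by group, ← F.cen_comm hc hsS,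
        mul_inv_cancel_right] at h1
      exact h1
    rcases hj with hj | hj
    · exact Or.inl (F.fus_unique he heR hc₀ hbc (hj ▸ hmv hc₀ h₀) h)
    · exact Or.inr (F.fus_unique he heR hc₁ hbc (hj ▸ hmv hc₁ h₁) h)
  suffices hU : U₀ = U₁ by
    rcases hany h with e | e <;> rcases hany h' with e' | e' <;> rw [e, e'] <;> simp [hU]
  by_contra hne
  set L := U₀ ⊓ U₁ with hL
  have hL1 : L ≠ ⊥ := by
    intro hbot
    have hinj : Function.Injective fun p : U₀ × U₁ =>
        (⟨(p.1 : G) * p.2, F.cen_mul (h₀.cen _ p.1.2) (h₁.cen _ p.2.2)⟩ : {c : G // Cen V r n c}) := by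
      rintro ⟨a, b⟩ ⟨a', b'⟩ e
      replace e : (a : G) * b = a' * b' := congrArg Subtype.val e
      have h1 : (a' : G)⁻¹ * a ∈ L := by
        refine ⟨U₀.mul_mem (U₀.inv_mem a'.2) a.2, ?_⟩
        rw [show (a' : G)⁻¹ * a = b' * (b : G)⁻¹ by
          rw [eq_mul_inv_iff_mul_eq, mul_assoc, e, inv_mul_cancel_left]]
        exact U₁.mul_mem b'.2 (U₁.inv_mem b.2)
      rw [hbot, Subgroup.mem_bot, inv_mul_eq_one] at h1
      obtain rfl : a = a' := Subtype.ext h1.symm
      rw [Subtype.ext (mul_left_cancel e)]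
    have := Nat.card_le_card_of_injective _ hinj
    rw [Nat.card_prod, F.fus_card h₀, F.fus_card h₁, F.cen_card] at this
    omega
  have hL2 : Nat.card L = 2 := by
    have h1 : Nat.card L ∣ 4 := F.fus_card h₀ ▸ Subgroup.card_dvd_of_le inf_le_left
    have h2 : Nat.card L ≠ 4 := fun h4 => hne (by
      have e1 : L = U₀ := Subgroup.eq_of_le_of_card_ge inf_le_left (by rw [h4, F.fus_card h₀])
      have e2 : L = U₁ := Subgroup.eq_of_le_of_card_ge inf_le_right (by rw [h4, F.fus_card h₁])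
      exact e1.symm.trans e2)
    have h3 : Nat.card L ≠ 1 := fun h1' => hL1 (Subgroup.card_eq_one.1 h1')
    have h4 := Nat.le_of_dvd (by norm_num) h1
    have h5 : 0 < Nat.card L := Nat.card_pos
    interval_cases hc : Nat.card L <;> omega
  obtain ⟨u, hu1, huniq⟩ := (Nat.card_eq_two_iff' (1 : L)).1 hL2
  have hu1' : (u : G) ≠ 1 := fun e => hu1 (Subtype.ext e)
  have huC : Cen V r n (u : G) := h₀.cen _ u.2.1
  have hfix : ∀ m ∈ Subgroup.normalizer ((S : Subgroup G) : Set G), m * (u : G) * m⁻¹ = u := by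
    intro m hm
    have hcj : cj L m = L := by
      have hinj : ∀ {A B : Subgroup G}, cj A m = cj B m → A = B := fun {A B} e =>
        le_antisymm (Fusion.cj_le_cj.1 e.le) (Fusion.cj_le_cj.1 e.ge)
      rw [hL, Fusion.cj_inf]
      rcases hany (F.fus_conj hm h₀) with e | e <;> rcases hany (F.fus_conj hm h₁) with e' | e'
      · exact absurd (hinj (e.trans e'.symm)) hne
      · rw [e, e']
      · rw [e, e', inf_comm]
      · exact absurd (hinj (e.trans e'.symm)) hne
    have hmem : m * (u : G) * m⁻¹ ∈ L := hcj.le (Fusion.conj_mem_cj u.2)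
    have := huniq ⟨_, hmem⟩ (fun e => hu1' (conj_eq_one_iff.1 (congrArg Subtype.val e)))
    exact congrArg Subtype.val this
  have hu2 : (u : G) * u = 1 := F.cen_sq huC
  have hiso : ∀ g : G, g * (u : G) * g⁻¹ ∈ (S : Subgroup G) → g * (u : G) * g⁻¹ = u := by
    intro g hy
    set y := g * (u : G) * g⁻¹ with hydef
    have hy2 : y * y = 1 := by
      rw [hydef, show g * (u : G) * g⁻¹ * (g * u * g⁻¹) = g * (u * u) * g⁻¹ by group, hu2]; group
    have hyu : IsConj (u : G) y := isConj_iff.2 ⟨g, rfl⟩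
    by_cases hyc : Cen V r n y
    · obtain ⟨m, hm, he⟩ := F.cen_conj huC hyc hyu
      rw [← he, hfix m hm]
    exfalso
    obtain ⟨e, he, heR, b, hb, hye⟩ := F.refl_comp hy hy2 hyc
    have hbc : Cen V r n b := ⟨1, Or.inl rfl, b, hb, (one_mul b).symm⟩
    obtain ⟨c, U', hc, hd⟩ := F.exists_data he heR
    have huU : (u : G) ∈ U' := by
      rcases hany hd with e' | e' <;> rw [e']
      exacts [u.2.1, u.2.2]
    have hkc : Cen V r n (c * b) := F.cen_mul hc hbc
    have hyw : y = e * c * (c * b) := by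
      rw [hye, mul_assoc e, ← mul_assoc c c, F.cen_sq hc, one_mul]
    have hback : ∀ {v : G}, Cen V r n v → IsConj v (u : G) → v = u := by
      intro v hv hvu
      obtain ⟨m, hm, he⟩ := F.cen_conj huC hv hvu.symm
      rw [← he, hfix m hm]
    rcases hd.cover _ hkc with hk | hk
    · have h1 : c * b * r ^ (2 * n) = u :=
        hback (F.cen_mul hkc F.cen_z) ((hyu.trans (hyw ▸ hd.trans _ hk)).symm)
      have := U'.mul_mem (U'.inv_mem hk) huU
      rw [← h1, inv_mul_cancel_left] at this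
      exact hd.nz this
    · have h2 : IsConj (e * c * (c * b)) (c * b) := by
        have h3 := hd.trans _ hk
        rw [mul_assoc (c * b), F.h.z_sq, mul_one, ← mul_assoc] at h3
        refine IsConj.trans ?_ h3
        rw [mul_assoc e]
        exact F.flip he heR (F.cen_mul hc hkc)
      have h1 : c * b = u := hback hkc ((hyu.trans (hyw ▸ h2)).symm)
      rw [h1] at hk
      have := U'.mul_mem (U'.inv_mem huU) hk
      rw [inv_mul_cancel_left] at this
      exact hd.nz this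
  have hcent := Char.zStar_central (Char.oddInvol_of_isolated_sylow (invol_of_mul_self hu1' hu2)
    (F.cen_memS huC) hiso) hO
  have hSd : (S : Subgroup G) ≤ commutator G := by
    by_contra hle
    obtain ⟨M, hM, hi⟩ := Fusion.exists_index_p_of_not_le (Fusion.sylIn_top S) hle
    exact F.noTwo M hM hi
  have hd := mem_derived_of_central S (Subgroup.mem_center_iff.2 fun g => (hcent g).symm)
    (hSd (F.cen_memS huC)) (F.cen_memS huC)
  have hrot : (u : G) ∈ Subgroup.zpowers r := F.commutator_rot ⟨_, hd, rfl⟩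
  rcases F.h.rot_invol hrot hu2 with e | e
  · exact hu1' e
  · exact h₀.nz (e ▸ u.2.1)

end FFrame

end Cfsg.Agent.StrongProd
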