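import Cfsg.Agent.Lib.Fusion.Product.DihBasic

/-!
Fusion in a Sylow subgroup which is a product of two nonabelian dihedral groups.
-/

set_option autoImplicit false
set_option linter.style.haveILetI false
set_option linter.unusedSectionVars false

namespace Cfsg.Agent.StrongProd

open Cfsg.Agent.Fusion (cj mem_cj SylIn)

universe u

variable {G : Type u} [Group G] [Finite G]

/-- Two complements of a common direct factor are isomorphic. -/
theorem complement_equiv {S A A' B : Subgroup G} (h : Cfsg.IsInternalDirectProduct A B S)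
    (h' : Cfsg.IsInternalDirectProduct A' B S) : Nonempty (A' ≃* A) := by
  classical
  obtain ⟨hAS, hBS, hc, hd, hgen⟩ := h
  obtain ⟨hA'S, -, hc', hd', hgen'⟩ := h'
  have hn : A ≤ Subgroup.normalizer (B : Set G) := fun a ha =>
    Fusion.mem_normalizer_of_cj_le fun x hx => by
      rw [mem_cj] at hx
      have := hc a ha _ hx
      rwa [show x = a * (a⁻¹ * x * a) * a⁻¹ by group, this, mul_inv_cancel_right]
  have hn' : A' ≤ Subgroup.normalizer (B : Set G) := fun a ha =>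
    Fusion.mem_normalizer_of_cj_le fun x hx => by
      rw [mem_cj] at hx
      have := hc' a ha _ hx
      rwa [show x = a * (a⁻¹ * x * a) * a⁻¹ by group, this, mul_inv_cancel_right]
  have hex : ∀ x : A', ∃ a : A, ∃ b ∈ B, (x : G) = a * b := fun x => by
    have hx : (x : G) ∈ ((A ⊔ B : Subgroup G) : Set G) := hgen.symm ▸ hA'S x.2
    rw [Subgroup.coe_mul_of_left_le_normalizer_right A B hn] at hx
    obtain ⟨a, ha, b, hb, he⟩ := hx
    exact ⟨⟨a, ha⟩, b, hb, he.symm⟩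
  choose f g hg hfg using hex
  have huniq : ∀ (a a' : A) (b b' : G), b ∈ B → b' ∈ B → (a : G) * b = a' * b' → a = a' := by
    intro a a' b b' hb hb' e
    have h1 : (a' : G)⁻¹ * a ∈ A ⊓ B := by
      refine ⟨A.mul_mem (A.inv_mem a'.2) a.2, ?_⟩
      rw [show (a' : G)⁻¹ * a = b' * b⁻¹ by rw [eq_mul_inv_iff_mul_eq, mul_assoc, e, inv_mul_cancel_left]]
      exact B.mul_mem hb' (B.inv_mem hb)
    rw [hd, Subgroup.mem_bot, inv_mul_eq_one] at h1
    exact Subtype.ext h1.symm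
  let φ : A' →* A := MonoidHom.mk' f fun x y => by
    refine huniq _ _ _ (g x * g y) (hg (x * y)) (B.mul_mem (hg x) (hg y)) ?_
    rw [← hfg, Subgroup.coe_mul, hfg x, hfg y, Subgroup.coe_mul, mul_assoc, ← mul_assoc (g x),
      ← hc _ (f y).2 _ (hg x), mul_assoc, mul_assoc]
  refine ⟨MulEquiv.ofBijective φ ⟨(injective_iff_map_eq_one φ).2 fun x hx => ?_, fun a => ?_⟩⟩
  · have h1 : (x : G) ∈ A' ⊓ B := ⟨x.2, by
      rw [hfg x, show f x = 1 from hx, Subgroup.coe_one, one_mul]; exact hg x⟩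
    rw [hd', Subgroup.mem_bot] at h1
    exact Subtype.ext h1
  · have ha : (a : G) ∈ ((A' ⊔ B : Subgroup G) : Set G) := hgen'.symm ▸ hAS a.2
    rw [Subgroup.coe_mul_of_left_le_normalizer_right A' B hn'] at ha
    obtain ⟨x, hx, b, hb, he⟩ := ha
    refine ⟨⟨x, hx⟩, huniq _ _ (g ⟨x, hx⟩) b⁻¹ (hg _) (B.inv_mem hb) ?_⟩
    rw [show φ ⟨x, hx⟩ = f ⟨x, hx⟩ from rfl, ← hfg, ← he]
    simp

/-- A Sylow subgroup decomposed into two nonabelian dihedral groups. -/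
structure Frame (S : Sylow 2 G) (D₁ D₂ : Subgroup G) (r₁ r₂ : G) (n₁ n₂ : ℕ) : Prop where
  prod : Cfsg.IsInternalDirectProduct D₁ D₂ (S : Subgroup G)
  h₁ : Dih D₁ r₁ n₁
  h₂ : Dih D₂ r₂ n₂
  noTwo : ∀ N : Subgroup G, N.Normal → N.index ≠ 2

namespace Frame

variable {S : Sylow 2 G} {D₁ D₂ : Subgroup G} {r₁ r₂ : G} {n₁ n₂ : ℕ} (F : Frame S D₁ D₂ r₁ r₂ n₁ n₂)
include F

theorem swap : Frame S D₂ D₁ r₂ r₁ n₂ n₁ :=
  ⟨⟨F.prod.2.1, F.prod.1, fun a ha b hb => (F.prod.2.2.1 b hb a ha).symm,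
    by rw [inf_comm]; exact F.prod.2.2.2.1, by rw [sup_comm]; exact F.prod.2.2.2.2⟩, F.h₂, F.h₁, F.noTwo⟩

theorem le₁ : D₁ ≤ (S : Subgroup G) := F.prod.1

theorem le₂ : D₂ ≤ (S : Subgroup G) := F.prod.2.1

theorem comm {a b : G} (ha : a ∈ D₁) (hb : b ∈ D₂) : a * b = b * a := F.prod.2.2.1 a ha b hb

theorem mul_split {a b a' b' : G} (ha' : a' ∈ D₁) (hb : b ∈ D₂) :
    a * b * (a' * b') = a * a' * (b * b') := by
  rw [mul_assoc, ← mul_assoc b, ← F.comm ha' hb]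
  simp only [mul_assoc]

theorem eq_split {a b a' b' : G} (ha : a ∈ D₁) (hb : b ∈ D₂) (ha' : a' ∈ D₁) (hb' : b' ∈ D₂)
    (e : a * b = a' * b') : a = a' ∧ b = b' := by
  have h1 : a'⁻¹ * a ∈ D₁ ⊓ D₂ := by
    refine ⟨D₁.mul_mem (D₁.inv_mem ha') ha, ?_⟩
    rw [show a'⁻¹ * a = b' * b⁻¹ by rw [eq_mul_inv_iff_mul_eq, mul_assoc, e, inv_mul_cancel_left]]
    exact D₂.mul_mem hb' (D₂.inv_mem hb)
  rw [F.prod.2.2.2.1, Subgroup.mem_bot, inv_mul_eq_one] at h1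
  subst h1
  exact ⟨rfl, mul_left_cancel e⟩

theorem split {x : G} (hx : x ∈ (S : Subgroup G)) : ∃ a ∈ D₁, ∃ b ∈ D₂, x = a * b := by
  have hn : D₁ ≤ Subgroup.normalizer (D₂ : Set G) := fun a ha =>
    Fusion.mem_normalizer_of_cj_le fun x hx => by
      rw [mem_cj] at hx
      have := F.comm ha hx
      rwa [show x = a * (a⁻¹ * x * a) * a⁻¹ by group, this, mul_inv_cancel_right]
  have hx' : x ∈ ((D₁ ⊔ D₂ : Subgroup G) : Set G) := F.prod.2.2.2.2.symm ▸ hx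
  rw [Subgroup.coe_mul_of_left_le_normalizer_right D₁ D₂ hn] at hx'
  obtain ⟨a, ha, b, hb, rfl⟩ := hx'
  exact ⟨a, ha, b, hb, rfl⟩

theorem comm_split {a b a' b' : G} (ha : a ∈ D₁) (hb : b ∈ D₂) (ha' : a' ∈ D₁) (hb' : b' ∈ D₂)
    (e : a * b * (a' * b') = a' * b' * (a * b)) : a * a' = a' * a ∧ b * b' = b' * b := by
  rw [F.mul_split ha' hb, F.mul_split ha hb'] at e
  exact F.eq_split (D₁.mul_mem ha ha') (D₂.mul_mem hb hb') (D₁.mul_mem ha' ha) (D₂.mul_mem hb' hb) e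

theorem sq_split {a b : G} (ha : a ∈ D₁) (hb : b ∈ D₂) : a * b * (a * b) = a * a * (b * b) :=
  F.mul_split ha hb

theorem invol_split {a b : G} (ha : a ∈ D₁) (hb : b ∈ D₂) (e : a * b * (a * b) = 1) :
    a * a = 1 ∧ b * b = 1 := by
  rw [F.sq_split ha hb] at e
  exact F.eq_split (D₁.mul_mem ha ha) (D₂.mul_mem hb hb) D₁.one_mem D₂.one_mem (by rw [e, one_mul])

theorem z_ne_one : r₁ ^ (2 * n₁) * r₂ ^ (2 * n₂) ≠ 1 := fun e =>
  F.h₁.z_ne (F.eq_split F.h₁.z_mem F.h₂.z_mem D₁.one_mem D₂.one_mem (by rw [e, one_mul])).1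

theorem z_ne : r₁ ^ (2 * n₁) ≠ r₂ ^ (2 * n₂) := fun e =>
  F.h₁.z_ne (F.eq_split F.h₁.z_mem D₂.one_mem D₁.one_mem F.h₂.z_mem (by rw [mul_one, one_mul, e])).1

theorem z_ne_zz : r₁ ^ (2 * n₁) ≠ r₁ ^ (2 * n₁) * r₂ ^ (2 * n₂) := fun e => by
  nth_rewrite 1 [← mul_one (r₁ ^ (2 * n₁))] at e
  exact F.h₂.z_ne (mul_left_cancel e).symm

theorem z_central {s : G} (hs : s ∈ (S : Subgroup G)) : r₁ ^ (2 * n₁) * s = s * r₁ ^ (2 * n₁) := by
  obtain ⟨a, ha, b, hb, rfl⟩ := F.split hs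
  rw [← mul_assoc, ← F.h₁.z_cent ha, mul_assoc, F.comm F.h₁.z_mem hb, mul_assoc]

theorem zz_central {s : G} (hs : s ∈ (S : Subgroup G)) :
    r₁ ^ (2 * n₁) * r₂ ^ (2 * n₂) * s = s * (r₁ ^ (2 * n₁) * r₂ ^ (2 * n₂)) := by
  rw [mul_assoc, F.swap.z_central hs, ← mul_assoc, F.z_central hs, mul_assoc]

theorem sq_cases {s : G} (hs : s ∈ (S : Subgroup G)) (h2 : s * s * (s * s) = 1) (h1 : s * s ≠ 1) :
    s * s = r₁ ^ (2 * n₁) ∨ s * s = r₂ ^ (2 * n₂) ∨ s * s = r₁ ^ (2 * n₁) * r₂ ^ (2 * n₂) := by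
  obtain ⟨a, ha, b, hb, rfl⟩ := F.split hs
  rw [F.sq_split ha hb] at h2 h1 ⊢
  obtain ⟨ha2, hb2⟩ := F.invol_split (D₁.mul_mem ha ha) (D₂.mul_mem hb hb) h2
  rcases F.h₁.rot_invol (F.h₁.sq_mem ha) ha2 with e | e <;>
    rcases F.h₂.rot_invol (F.h₂.sq_mem hb) hb2 with e' | e' <;> rw [e, e'] at h1 ⊢
  · exact absurd (one_mul 1) h1
  · right; left; rw [one_mul]
  · left; rw [mul_one]
  · right; right; rfl

theorem normalizer_not_zz {m : G} (hm : m ∈ Subgroup.normalizer ((S : Subgroup G) : Set G)) :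
    m * r₁ ^ (2 * n₁) * m⁻¹ ≠ r₁ ^ (2 * n₁) * r₂ ^ (2 * n₂) := by
  intro hw
  obtain ⟨e, he, heR⟩ := F.h₂.ex
  have hq := F.h₁.q_mem
  have hee := (F.h₂.refl e he heR).1
  have himg : ∀ b ∈ D₂, b * b = 1 → ∃ a' ∈ Subgroup.zpowers r₁, ∃ b' ∈ Subgroup.zpowers r₂,
      m * (r₁ ^ n₁ * b) * m⁻¹ = a' * b' := by
    intro b hb hb2
    obtain ⟨a', ha', b', hb', he'⟩ :=
      F.split (Solv.conj_mem_of_mem_normalizer hm ((S : Subgroup G).mul_mem (F.le₁ hq) (F.le₂ hb)))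
    have hsq : a' * a' * (b' * b') = r₁ ^ (2 * n₁) * r₂ ^ (2 * n₂) := by
      rw [← F.sq_split ha' hb', ← he', ← hw,
        show m * (r₁ ^ n₁ * b) * m⁻¹ * (m * (r₁ ^ n₁ * b) * m⁻¹) = m * (r₁ ^ n₁ * b * (r₁ ^ n₁ * b)) * m⁻¹
          by group, F.sq_split hq hb, hb2, mul_one, F.h₁.q_sq]
    obtain ⟨h1, h2⟩ :=
      F.eq_split (D₁.mul_mem ha' ha') (D₂.mul_mem hb' hb') F.h₁.z_mem F.h₂.z_mem hsq
    refine ⟨a', ?_, b', ?_, he'⟩
    · by_contra hR; exact F.h₁.z_ne (h1.symm.trans (F.h₁.refl a' ha' hR).1)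
    · by_contra hR; exact F.h₂.z_ne (h2.symm.trans (F.h₂.refl b' hb' hR).1)
  set f := e * r₂ ^ n₂
  have hfR : f ∉ Subgroup.zpowers r₂ := F.h₂.refl_mul_rot heR F.h₂.q_rot
  have hf : f ∈ D₂ := D₂.mul_mem he F.h₂.q_mem
  obtain ⟨a, ha, b, hb, h1⟩ := himg e he hee
  obtain ⟨a', ha', b', hb', h2⟩ := himg f hf (F.h₂.refl f hf hfR).1
  have hc : a * b * (a' * b') = a' * b' * (a * b) := by
    rw [F.mul_split (F.h₁.zpowers_le ha') (F.h₂.zpowers_le hb),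
      F.mul_split (F.h₁.zpowers_le ha) (F.h₂.zpowers_le hb'), F.h₁.rot_comm ha ha', F.h₂.rot_comm hb hb']
  rw [← h1, ← h2] at hc
  simp only [mul_assoc, mul_right_inj, inv_mul_cancel_left] at hc
  simp only [← mul_assoc, mul_left_inj] at hc
  have hc' := (F.comm_split hq he hq hf (by simpa [mul_assoc] using hc)).2
  rcases F.h₂.cent_refl he heR hf hc' with e' | e' | e' | e'
  · exact hfR (e' ▸ Subgroup.one_mem _)
  · exact hfR (e' ▸ F.h₂.z_rot)
  · exact F.h₂.q_sq_ne (by rw [show r₂ ^ n₂ = 1 from mul_left_cancel (e'.trans (mul_one e).symm), one_mul])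
  · refine F.h₂.q_sq_ne ?_
    rw [show r₂ ^ n₂ = r₂ ^ (2 * n₂) from mul_left_cancel e', F.h₂.z_sq]

theorem normalizer_cases {m : G} (hm : m ∈ Subgroup.normalizer ((S : Subgroup G) : Set G)) :
    m * r₁ ^ (2 * n₁) * m⁻¹ = r₁ ^ (2 * n₁) ∨ m * r₁ ^ (2 * n₁) * m⁻¹ = r₂ ^ (2 * n₂) := by
  have e : m * r₁ ^ (2 * n₁) * m⁻¹ = m * r₁ ^ n₁ * m⁻¹ * (m * r₁ ^ n₁ * m⁻¹) := by
    rw [← F.h₁.q_sq]; group
  have hS := Solv.conj_mem_of_mem_normalizer hm (F.le₁ F.h₁.q_mem)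
  rcases F.sq_cases hS (by rw [← e, show m * r₁ ^ (2 * n₁) * m⁻¹ * (m * r₁ ^ (2 * n₁) * m⁻¹)
      = m * (r₁ ^ (2 * n₁) * r₁ ^ (2 * n₁)) * m⁻¹ by group, F.h₁.z_sq]; group)
    (by rw [← e]; exact fun h => F.h₁.z_ne (conj_eq_one_iff.1 h)) with h | h | h <;> rw [← e] at h
  · exact Or.inl h
  · exact Or.inr h
  · exact absurd h (F.normalizer_not_zz hm)

theorem normalizer_fix {m : G} (hm : m ∈ Subgroup.normalizer ((S : Subgroup G) : Set G)) :
    m * r₁ ^ (2 * n₁) * m⁻¹ = r₁ ^ (2 * n₁) := by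
  haveI : Fact (Nat.Prime 2) := ⟨Nat.prime_two⟩
  refine (F.normalizer_cases hm).resolve_right fun hsw => ?_
  set N := Subgroup.normalizer ((S : Subgroup G) : Set G)
  haveI : ((S : Subgroup G).subgroupOf N).Normal :=
    Subgroup.normal_subgroupOf_of_le_normalizer le_rfl
  have hback : m * r₂ ^ (2 * n₂) * m⁻¹ = r₁ ^ (2 * n₁) := by
    refine (F.swap.normalizer_cases hm).resolve_left fun e => F.z_ne ?_
    exact mul_left_cancel (mul_right_cancel (hsw.trans e.symm))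
  have key : ∀ l : ℕ, m ^ (2 * l + 1) * r₁ ^ (2 * n₁) * (m ^ (2 * l + 1))⁻¹ = r₂ ^ (2 * n₂) := by
    intro l
    induction l with
    | zero => simpa using hsw
    | succ l ih =>
      rw [show 2 * (l + 1) + 1 = 1 + (1 + (2 * l + 1)) by ring, pow_add, pow_add, pow_one]
      calc m * (m * m ^ (2 * l + 1)) * r₁ ^ (2 * n₁) * (m * (m * m ^ (2 * l + 1)))⁻¹
          = m * (m * (m ^ (2 * l + 1) * r₁ ^ (2 * n₁) * (m ^ (2 * l + 1))⁻¹) * m⁻¹) * m⁻¹ := by group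
        _ = r₂ ^ (2 * n₂) := by rw [ih, hback, hsw]
  set k := ((S : Subgroup G).subgroupOf N).index with hk
  have hodd : Odd k := Nat.not_even_iff_odd.1 fun h => S.not_dvd_index
    (h.two_dvd.trans (dvd_of_mul_right_eq N.index
      (Subgroup.relIndex_mul_index (Subgroup.le_normalizer : (S : Subgroup G) ≤ N))))
  obtain ⟨l, hl⟩ := hodd
  have hmem : m ^ k ∈ (S : Subgroup G) :=
    Subgroup.pow_index_mem ((S : Subgroup G).subgroupOf N) (⟨m, hm⟩ : N)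
  have := key l
  rw [← hl, ← F.z_central hmem, mul_inv_cancel_right] at this
  exact F.z_ne this

/-- The three central involutions are pairwise not conjugate. -/
theorem central_conj {x y : G}
    (hx : x = r₁ ^ (2 * n₁) ∨ x = r₂ ^ (2 * n₂) ∨ x = r₁ ^ (2 * n₁) * r₂ ^ (2 * n₂))
    (hy : ∀ s ∈ (S : Subgroup G), y * s = s * y) (hc : IsConj x y) : x = y := by
  haveI : Fact (Nat.Prime 2) := ⟨Nat.prime_two⟩
  obtain ⟨g, hg⟩ := isConj_iff.1 hc
  have hxc : ∀ s ∈ (S : Subgroup G), s * x = x * s := fun s hs => by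
    rcases hx with rfl | rfl | rfl
    · exact (F.z_central hs).symm
    · exact (F.swap.z_central hs).symm
    · exact (F.zz_central hs).symm
  obtain ⟨m, hm, he⟩ := S.conj_eq_normalizer_conj_of_mem_centralizer x g⁻¹
    (Subgroup.mem_centralizer_iff.2 fun s hs => hxc s hs)
    (by rw [inv_inv, hg]; exact Subgroup.mem_centralizer_iff.2 fun s hs => (hy s hs).symm)
  rw [inv_inv, hg] at he
  have hm' : m⁻¹ ∈ Subgroup.normalizer ((S : Subgroup G) : Set G) := Subgroup.inv_mem _ hm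
  have h1 := F.normalizer_fix hm'
  have h2 := F.swap.normalizer_fix hm'
  rw [inv_inv] at h1 h2
  rcases hx with rfl | rfl | rfl
  · rw [he, h1]
  · rw [he, h2]
  · rw [he, show m⁻¹ * (r₁ ^ (2 * n₁) * r₂ ^ (2 * n₂)) * m
      = m⁻¹ * r₁ ^ (2 * n₁) * m * (m⁻¹ * r₂ ^ (2 * n₂) * m) by group, h1, h2]

theorem fix_z₂ {g : G} (hg : g * r₂ ^ n₂ * g⁻¹ ∈ (S : Subgroup G)) :
    g * r₂ ^ (2 * n₂) * g⁻¹ = r₂ ^ (2 * n₂) := by
  set w := g * r₂ ^ (2 * n₂) * g⁻¹ with hw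
  have e : w = g * r₂ ^ n₂ * g⁻¹ * (g * r₂ ^ n₂ * g⁻¹) := by rw [hw, ← F.h₂.q_sq]; group
  have hcases := F.sq_cases hg (by rw [← e, hw, show g * r₂ ^ (2 * n₂) * g⁻¹ * (g * r₂ ^ (2 * n₂) * g⁻¹)
      = g * (r₂ ^ (2 * n₂) * r₂ ^ (2 * n₂)) * g⁻¹ by group, F.h₂.z_sq]; group)
    (by rw [← e]; exact fun h => F.h₂.z_ne (conj_eq_one_iff.1 h))
  rw [← e] at hcases
  have hwc : ∀ s ∈ (S : Subgroup G), w * s = s * w := fun s hs => by
    rcases hcases with h | h | h <;> rw [h]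
    · exact F.z_central hs
    · exact F.swap.z_central hs
    · exact F.zz_central hs
  exact (F.central_conj (Or.inr (Or.inl rfl)) hwc (isConj_iff.2 ⟨g, rfl⟩)).symm

theorem image_q₂ {g : G} (hg : g * r₂ ^ n₂ * g⁻¹ ∈ (S : Subgroup G)) :
    ∃ a ∈ D₁, ∃ b ∈ Subgroup.zpowers r₂, g * r₂ ^ n₂ * g⁻¹ = a * b ∧ b * b ≠ 1 := by
  obtain ⟨a, ha, b, hb, he⟩ := F.split hg
  have hsq : a * a * (b * b) = 1 * r₂ ^ (2 * n₂) := by
    rw [← F.sq_split ha hb, ← he, one_mul, show g * r₂ ^ n₂ * g⁻¹ * (g * r₂ ^ n₂ * g⁻¹)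
      = g * (r₂ ^ n₂ * r₂ ^ n₂) * g⁻¹ by group, F.h₂.q_sq, F.fix_z₂ hg]
  have hb2 := (F.eq_split (D₁.mul_mem ha ha) (D₂.mul_mem hb hb) D₁.one_mem F.h₂.z_mem hsq).2
  refine ⟨a, ha, b, ?_, he, hb2 ▸ F.h₂.z_ne⟩
  by_contra hR
  exact F.h₂.z_ne (hb2.symm.trans (F.h₂.refl b hb hR).1)

theorem second_rot {g u α β : G} (hα : α ∈ D₁) (hβ : β ∈ D₂) (hu : g * u * g⁻¹ = α * β)
    (hc : r₂ ^ n₂ * u = u * r₂ ^ n₂) (hg : g * r₂ ^ n₂ * g⁻¹ ∈ (S : Subgroup G)) :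
    β ∈ Subgroup.zpowers r₂ := by
  obtain ⟨a, ha, b, hb, he, hb2⟩ := F.image_q₂ hg
  have h1 : a * b * (α * β) = α * β * (a * b) := by
    rw [← he, ← hu, show g * r₂ ^ n₂ * g⁻¹ * (g * u * g⁻¹) = g * (r₂ ^ n₂ * u) * g⁻¹ by group, hc]
    group
  exact F.h₂.cent_rot hb hb2 hβ (F.comm_split ha (F.h₂.zpowers_le hb) hα hβ h1).2

theorem rot_index_two : (Subgroup.zpowers r₁ ⊔ D₂).relIndex (S : Subgroup G) = 2 := by
  obtain ⟨e, he, heR⟩ := F.h₁.ex
  have hmem : ∀ {a b : G}, a ∈ D₁ → b ∈ D₂ →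
      (a * b ∈ Subgroup.zpowers r₁ ⊔ D₂ ↔ a ∈ Subgroup.zpowers r₁) := by
    intro a b ha hb
    refine ⟨fun h => ?_, fun h => Subgroup.mul_mem _ (Subgroup.mem_sup_left h) (Subgroup.mem_sup_right hb)⟩
    have hn : Subgroup.zpowers r₁ ≤ Subgroup.normalizer (D₂ : Set G) := fun x hx =>
      Fusion.mem_normalizer_of_cj_le fun y hy => by
        rw [mem_cj] at hy
        have := F.comm (F.h₁.zpowers_le hx) hy
        rwa [show y = x * (x⁻¹ * y * x) * x⁻¹ by group, this, mul_inv_cancel_right]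
    have h' : a * b ∈ ((Subgroup.zpowers r₁ ⊔ D₂ : Subgroup G) : Set G) := h
    rw [Subgroup.coe_mul_of_left_le_normalizer_right _ _ hn] at h'
    obtain ⟨x, hx, y, hy, h''⟩ := h'
    exact (F.eq_split (F.h₁.zpowers_le hx) hy ha hb h'').1 ▸ hx
  rw [Subgroup.relIndex, Subgroup.index_eq_two_iff]
  refine ⟨⟨e, F.le₁ he⟩, fun w => ?_⟩
  obtain ⟨a, ha, b, hb, hw⟩ := F.split w.2
  have h1 : (w : G) * e = a * e * b := by rw [hw, mul_assoc, ← F.comm he hb, mul_assoc]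
  rw [Subgroup.mem_subgroupOf, Subgroup.mem_subgroupOf]
  show Xor ((w : G) * e ∈ _) ((w : G) ∈ _)
  rw [h1, hw, hmem (D₁.mul_mem ha he) hb, hmem ha hb]
  by_cases haR : a ∈ Subgroup.zpowers r₁
  · refine Or.inr ⟨haR, fun h => heR ?_⟩
    have := Subgroup.mul_mem _ (Subgroup.inv_mem _ haR) h
    rwa [inv_mul_cancel_left] at this
  · exact Or.inl ⟨F.h₁.mul_refl ha haR he heR, haR⟩

theorem isPGroup_zpowers {x : G} (hx : x ∈ (S : Subgroup G)) : IsPGroup 2 (Subgroup.zpowers x) :=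
  S.isPGroup'.to_le (Subgroup.zpowers_le.2 hx)

/-- A reflection of the first factor is fused to a central involution. -/
theorem refl_fused {e : G} (he : e ∈ D₁) (heR : e ∉ Subgroup.zpowers r₁) :
    ∃ g : G, g * r₂ ^ (2 * n₂) * g⁻¹ = r₂ ^ (2 * n₂) ∧
      (g * e * g⁻¹ = r₁ ^ (2 * n₁) ∨ g * e * g⁻¹ = r₁ ^ (2 * n₁) * r₂ ^ (2 * n₂)) := by
  have hee := (F.h₁.refl e he heR).1
  obtain ⟨v, g, hv, hvS, hfull, hmove⟩ := exists_full S e (F.isPGroup_zpowers (F.le₁ he))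
  have hgq := hmove _ (F.le₂ F.h₂.q_mem) (F.comm he F.h₂.q_mem).symm
  have hz := F.fix_z₂ hgq
  refine ⟨g, hz, ?_⟩
  obtain ⟨α, hα, β, hβ, hvs⟩ := F.split hvS
  have hv2 : α * β * (α * β) = 1 := by
    rw [← hvs, ← hv, show g * e * g⁻¹ * (g * e * g⁻¹) = g * (e * e) * g⁻¹ by group, hee]; group
  obtain ⟨hα2, hβ2⟩ := F.invol_split hα hβ hv2
  have hβR := F.second_rot hα hβ (hv.trans hvs) (F.comm he F.h₂.q_mem).symm hgq
  have hne : v ≠ 1 := fun h1 => heR (by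
    rw [← hv] at h1; rw [conj_eq_one_iff.1 h1]; exact Subgroup.one_mem _)
  have hne2 : v ≠ r₂ ^ (2 * n₂) := fun h1 => by
    rw [← hv, ← hz] at h1
    have h2 : e = r₂ ^ (2 * n₂) := mul_left_cancel (mul_right_cancel h1)
    exact heR ((F.eq_split he D₂.one_mem D₁.one_mem F.h₂.z_mem (by rw [mul_one, one_mul, h2])).1 ▸
      Subgroup.one_mem _)
  rcases F.h₁.invol_cases hα hα2 with ha | ha | ha
  · rcases F.h₂.rot_invol hβR hβ2 with hb | hb <;> rw [ha, hb] at hvs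
    · exact absurd (hvs.trans (one_mul 1)) hne
    · exact absurd (hvs.trans (one_mul _)) hne2
  · rcases F.h₂.rot_invol hβR hβ2 with hb | hb <;> rw [ha, hb] at hvs
    · left; rw [hv, hvs, mul_one]
    · right; rw [hv, hvs]
  exfalso
  -- transfer gives a conjugate of `e` commuting with `r₁ ^ n₁`
  have heM : e ∉ Subgroup.zpowers r₁ ⊔ D₂ := fun h => heR (by
    have hn : Subgroup.zpowers r₁ ≤ Subgroup.normalizer (D₂ : Set G) := fun x hx =>
      Fusion.mem_normalizer_of_cj_le fun y hy => by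
        rw [mem_cj] at hy
        have := F.comm (F.h₁.zpowers_le hx) hy
        rwa [show y = x * (x⁻¹ * y * x) * x⁻¹ by group, this, mul_inv_cancel_right]
    have h' : e ∈ ((Subgroup.zpowers r₁ ⊔ D₂ : Subgroup G) : Set G) := h
    rw [Subgroup.coe_mul_of_left_le_normalizer_right _ _ hn] at h'
    obtain ⟨x, hx, y, hy, h''⟩ := h'
    exact (F.eq_split (F.h₁.zpowers_le hx) hy he D₂.one_mem (by rw [mul_one]; exact h'')).1 ▸ hx)
  have hMS : Subgroup.zpowers r₁ ⊔ D₂ ≤ (S : Subgroup G) :=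
    sup_le (F.h₁.zpowers_le.trans F.le₁) F.le₂
  obtain ⟨w, hwM, hwc⟩ := exists_conj_mem_index_two F.noTwo S hMS F.rot_index_two hee (F.le₁ he) heM
  obtain ⟨g', hg', hmove'⟩ := exists_conj_full (hwc.symm.trans (isConj_iff.2 ⟨g, hv⟩)) hfull
  have hcq : r₁ ^ n₁ * w = w * r₁ ^ n₁ := by
    have hle : Subgroup.zpowers r₁ ⊔ D₂ ≤ Subgroup.centralizer ({r₁ ^ n₁} : Set G) :=
      sup_le (fun x hx => Subgroup.mem_centralizer_singleton_iff.2 (F.h₁.rot_comm hx F.h₁.q_rot))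
        fun x hx => Subgroup.mem_centralizer_singleton_iff.2 (F.comm F.h₁.q_mem hx).symm
    exact (Subgroup.mem_centralizer_singleton_iff.1 (hle hwM)).symm
  exact ha (F.swap.second_rot hβ hα (by rw [hg', hvs, F.comm hα hβ]) hcq (hmove' _ (F.le₁ F.h₁.q_mem) hcq))

theorem twist_exists : ∀ e ∈ D₁, e ∉ Subgroup.zpowers r₁ →
    ∃ c, (c = 1 ∨ c = r₂ ^ (2 * n₂)) ∧ IsConj (e * c) (r₁ ^ (2 * n₁)) := by
  intro e he heR
  obtain ⟨g, hz, h | h⟩ := F.refl_fused he heR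
  · exact ⟨1, Or.inl rfl, isConj_iff.2 ⟨g, by rw [mul_one]; exact h⟩⟩
  · refine ⟨r₂ ^ (2 * n₂), Or.inr rfl, isConj_iff.2 ⟨g, ?_⟩⟩
    rw [show g * (e * r₂ ^ (2 * n₂)) * g⁻¹ = g * e * g⁻¹ * (g * r₂ ^ (2 * n₂) * g⁻¹) by group, h, hz,
      mul_assoc, F.h₂.z_sq, mul_one]

end Frame

/-- Reflections of `D` are conjugate to the central involution. -/
def Normed (D : Subgroup G) (r : G) (n : ℕ) : Prop :=
  ∀ e ∈ D, e ∉ Subgroup.zpowers r → IsConj e (r ^ (2 * n))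

namespace Frame

variable {S : Sylow 2 G} {D₁ D₂ : Subgroup G} {r₁ r₂ : G} {n₁ n₂ : ℕ} (F : Frame S D₁ D₂ r₁ r₂ n₁ n₂)
include F

/-- Replace the first factor by one with fused reflections. -/
theorem exists_normed : ∃ (D : Subgroup G) (r : G),
    Frame S D D₂ r r₂ n₁ n₂ ∧ Normed D r n₁ ∧ Nonempty (D ≃* D₁) := by
  obtain ⟨e₀, he₀, he₀R⟩ := F.h₁.ex
  have he₁ := D₁.mul_mem he₀ F.h₁.mem
  have he₁R := F.h₁.refl_mul_rot he₀R (Subgroup.mem_zpowers r₁)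
  obtain ⟨c₀, hc₀, hk₀⟩ := F.twist_exists e₀ he₀ he₀R
  obtain ⟨c₁, hc₁, hk₁⟩ := F.twist_exists _ he₁ he₁R
  have hcD : ∀ {c : G}, (c = 1 ∨ c = r₂ ^ (2 * n₂)) → c ∈ D₂ := fun {c} hc => by
    rcases hc with rfl | rfl
    exacts [D₂.one_mem, F.h₂.z_mem]
  have hc2 : ∀ {c : G}, (c = 1 ∨ c = r₂ ^ (2 * n₂)) → c * c = 1 := fun {c} hc => by
    rcases hc with rfl | rfl
    exacts [one_mul 1, F.h₂.z_sq]
  set c := c₀ * c₁ with hcdef
  have hc : c = 1 ∨ c = r₂ ^ (2 * n₂) := by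
    rcases hc₀ with e | e <;> rcases hc₁ with e' | e' <;> rw [hcdef, e, e']
    · exact Or.inl (one_mul 1)
    · exact Or.inr (one_mul _)
    · exact Or.inr (mul_one _)
    · exact Or.inl F.h₂.z_sq
  have hcm := hcD hc
  set r := r₁ * c with hr
  set s := e₀ * c₀ with hs
  have hcr : Commute r₁ c := F.comm F.h₁.mem hcm
  have hrpow : ∀ i : ℤ, r ^ i = r₁ ^ i * c ^ i := fun i => hcr.mul_zpow i
  have hord : orderOf r = 4 * n₁ := by
    refine Nat.dvd_antisymm (orderOf_dvd_of_pow_eq_one ?_) ?_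
    · rw [hr, hcr.mul_pow, show 4 * n₁ = 2 * (2 * n₁) by ring, pow_mul c, pow_two, hc2 hc, one_pow, mul_one,
        show 2 * (2 * n₁) = orderOf r₁ by rw [F.h₁.ord]; ring, pow_orderOf_eq_one]
    · rw [← F.h₁.ord]
      refine orderOf_dvd_of_pow_eq_one ?_
      have h1 := hcr.mul_pow (orderOf r)
      rw [← hr, pow_orderOf_eq_one] at h1
      exact (F.eq_split D₁.one_mem D₂.one_mem (D₁.pow_mem F.h₁.mem _) (D₂.pow_mem hcm _)
        (by rw [one_mul]; exact h1)).1.symm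
  have hss : s * s = 1 := by
    rw [hs, F.sq_split he₀ (hcD hc₀), (F.h₁.refl e₀ he₀ he₀R).1, hc2 hc₀, one_mul]
  have hsinv : s⁻¹ = s := inv_eq_of_mul_eq_one_right hss
  have hsr : s * r * s⁻¹ = r⁻¹ := by
    have h1 : s * r = r⁻¹ * s := by
      have h2 := (F.h₁.refl e₀ he₀ he₀R).2
      rw [mul_inv_eq_iff_eq_mul] at h2
      have hci : c⁻¹ = c := inv_eq_of_mul_eq_one_right (hc2 hc)
      have hcc : c₀ * c = c * c₀ := by
        rw [hcdef]
        rcases hc₀ with e | e <;> rcases hc₁ with e' | e' <;> simp [e, e', mul_assoc, F.h₂.z_sq]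
      have hr' : r⁻¹ = r₁⁻¹ * c := by
        rw [hr, mul_inv_rev, hci, F.comm (D₁.inv_mem F.h₁.mem) hcm]
      rw [hr', hs, hr, F.mul_split F.h₁.mem (hcD hc₀), F.mul_split he₀ hcm, h2, hcc]
    rw [h1, mul_inv_cancel_right]
  have hnorm : Subgroup.zpowers s ≤ Subgroup.normalizer (Subgroup.zpowers r : Set G) := by
    rw [Subgroup.zpowers_le]
    refine Fusion.mem_normalizer_of_cj_le fun x hx => ?_
    obtain ⟨i, hi⟩ := mem_cj.1 hx
    refine ⟨-i, ?_⟩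
    simp only at hi ⊢
    calc r ^ (-i) = (s * r * s⁻¹) ^ i := by rw [hsr, inv_zpow, zpow_neg]
      _ = x := by rw [conj_zpow, hi]; group
  set D := Subgroup.zpowers r ⊔ Subgroup.zpowers s with hD
  have hsR : s ∉ Subgroup.zpowers r := by
    rintro ⟨i, hi⟩
    simp only [hrpow] at hi
    exact he₀R ⟨i, (F.eq_split (D₁.zpow_mem F.h₁.mem i) (D₂.zpow_mem hcm i) he₀ (hcD hc₀) hi).1⟩
  have hsmem : ∀ i : ℤ, s ^ i = 1 ∨ s ^ i = s := fun i => by
    have h2 : s ^ (2 : ℤ) = 1 := by rw [zpow_two]; exact hss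
    rcases Int.even_or_odd i with ⟨l, rfl⟩ | ⟨l, rfl⟩
    · left; rw [← two_mul, zpow_mul, h2, one_zpow]
    · right; rw [zpow_add, zpow_mul, h2, one_zpow, one_mul, zpow_one]
  have hform : ∀ x ∈ D, x ∈ Subgroup.zpowers r ∨ ∃ i : ℤ, x = r ^ i * s := by
    intro x hx
    have hx' : x ∈ ((Subgroup.zpowers r ⊔ Subgroup.zpowers s : Subgroup G) : Set G) := hx
    rw [Subgroup.coe_mul_of_right_le_normalizer_left _ _ hnorm] at hx'
    obtain ⟨a, ⟨i, rfl⟩, b, ⟨j, rfl⟩, rfl⟩ := hx'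
    simp only
    rcases hsmem j with e | e <;> rw [e]
    · left; rw [mul_one]; exact ⟨i, rfl⟩
    · right; exact ⟨i, rfl⟩
  have hdih : Dih D r n₁ := by
    refine ⟨Subgroup.mem_sup_left (Subgroup.mem_zpowers r), hord, F.h₁.two, fun x hx hxR => ?_,
      ⟨s, Subgroup.mem_sup_right (Subgroup.mem_zpowers s), hsR⟩⟩
    rcases hform x hx with h | ⟨i, rfl⟩
    · exact absurd h hxR
    have h1 : s * r ^ i * s⁻¹ = (r ^ i)⁻¹ := by
      rw [show s * r ^ i * s⁻¹ = (s * r * s⁻¹) ^ i from (conj_zpow).symm, hsr, inv_zpow]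
    constructor
    · rw [show r ^ i * s * (r ^ i * s) = r ^ i * (s * r ^ i * s⁻¹) * (s * s) by group, h1, hss]
      simp
    · rw [show r ^ i * s * r * (r ^ i * s)⁻¹ = r ^ i * (s * r * s⁻¹) * (r ^ i)⁻¹ by group, hsr]
      group
  have hrS : r ∈ (S : Subgroup G) := (S : Subgroup G).mul_mem (F.le₁ F.h₁.mem) (F.le₂ hcm)
  have hsS : s ∈ (S : Subgroup G) := (S : Subgroup G).mul_mem (F.le₁ he₀) (F.le₂ (hcD hc₀))
  have hDS : D ≤ (S : Subgroup G) := sup_le (Subgroup.zpowers_le.2 hrS) (Subgroup.zpowers_le.2 hsS)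
  have hDcomm : ∀ a ∈ D, ∀ b ∈ D₂, a * b = b * a := by
    intro a ha b hb
    have hle : D ≤ Subgroup.centralizer ({b} : Set G) := by
      refine sup_le (Subgroup.zpowers_le.2 ?_) (Subgroup.zpowers_le.2 ?_) <;>
        rw [Subgroup.mem_centralizer_singleton_iff]
      · have hcb : c * b = b * c := by
          rcases hc with e | e <;> rw [e]
          · simp
          · exact (F.h₂.z_cent hb).symm
        rw [hr, mul_assoc, hcb, ← mul_assoc, F.comm F.h₁.mem hb, mul_assoc]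
      · have hcb : c₀ * b = b * c₀ := by
          rcases hc₀ with e | e <;> rw [e]
          · simp
          · exact (F.h₂.z_cent hb).symm
        rw [hs, mul_assoc, hcb, ← mul_assoc, F.comm he₀ hb, mul_assoc]
    exact Subgroup.mem_centralizer_singleton_iff.1 (hle ha)
  have hdisj : D ⊓ D₂ = ⊥ := by
    rw [eq_bot_iff]
    intro x hx
    rw [Subgroup.mem_bot]
    rcases hform x hx.1 with ⟨i, hi⟩ | ⟨i, hi⟩
    · simp only at hi
      have hi' := hi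
      rw [hrpow] at hi
      have h1 := (F.eq_split (D₁.zpow_mem F.h₁.mem i) (D₂.zpow_mem hcm i) D₁.one_mem hx.2
        (by rw [one_mul]; exact hi)).1
      rw [F.h₁.pow_eq_one_iff] at h1
      rw [← hi', ← orderOf_dvd_iff_zpow_eq_one, hord]
      exact h1
    · exfalso
      rw [hrpow, hs, F.mul_split he₀ (D₂.zpow_mem hcm i)] at hi
      have h1 := (F.eq_split (D₁.mul_mem (D₁.zpow_mem F.h₁.mem i) he₀)
        (D₂.mul_mem (D₂.zpow_mem hcm i) (hcD hc₀)) D₁.one_mem hx.2 (by rw [one_mul]; exact hi.symm)).1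
      exact he₀R ((inv_eq_of_mul_eq_one_right h1) ▸
        Subgroup.inv_mem _ (⟨i, rfl⟩ : r₁ ^ i ∈ Subgroup.zpowers r₁))
  have hgen : D ⊔ D₂ = (S : Subgroup G) := by
    refine le_antisymm (sup_le hDS F.le₂) ?_
    rw [← F.prod.2.2.2.2]
    refine sup_le (F.h₁.le_of_refl fun e he heR => ?_) le_sup_right
    have h1 : r₁ ∈ D ⊔ D₂ := by
      have := (D ⊔ D₂).mul_mem (Subgroup.mem_sup_left (T := D₂) hdih.mem)
        (Subgroup.mem_sup_right (S := D) (D₂.inv_mem hcm))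
      rwa [hr, mul_inv_cancel_right] at this
    have h0 : e₀ ∈ D ⊔ D₂ := by
      have := (D ⊔ D₂).mul_mem (Subgroup.mem_sup_left (T := D₂)
        (Subgroup.mem_sup_right (Subgroup.mem_zpowers s) : s ∈ D))
        (Subgroup.mem_sup_right (S := D) (D₂.inv_mem (hcD hc₀)))
      rwa [hs, mul_inv_cancel_right] at this
    obtain ⟨j, hj | hj⟩ := F.h₁.refl_class he₀ he₀R he heR <;> rw [hj]
    · exact Subgroup.mul_mem _ (Subgroup.mul_mem _ (Subgroup.zpow_mem _ h1 j) h0)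
        (Subgroup.inv_mem _ (Subgroup.zpow_mem _ h1 j))
    · exact Subgroup.mul_mem _ (Subgroup.mul_mem _ (Subgroup.zpow_mem _ h1 j) (Subgroup.mul_mem _ h0 h1))
        (Subgroup.inv_mem _ (Subgroup.zpow_mem _ h1 j))
  have hprod : Cfsg.IsInternalDirectProduct D D₂ (S : Subgroup G) := ⟨hDS, F.le₂, hDcomm, hdisj, hgen⟩
  refine ⟨D, r, ⟨hprod, hdih, F.h₂, F.noTwo⟩, fun e he heR => ?_, complement_equiv F.prod hprod⟩
  have hz : r ^ (2 * n₁) = r₁ ^ (2 * n₁) := by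
    rw [hr, hcr.mul_pow, pow_mul c, pow_two, hc2 hc, one_pow, mul_one]
  rw [hz]
  have hsr' : s * r = e₀ * r₁ * c₁ := by
    rw [hs, hr, F.mul_split F.h₁.mem (hcD hc₀), hcdef, ← mul_assoc c₀, hc2 hc₀, one_mul]
  obtain ⟨j, hj | hj⟩ := hdih.refl_class (Subgroup.mem_sup_right (Subgroup.mem_zpowers s)) hsR he heR
  · exact (isConj_iff.2 ⟨r ^ j, hj.symm⟩ : IsConj s e).symm.trans hk₀
  · exact (isConj_iff.2 ⟨r ^ j, hj.symm⟩ : IsConj (s * r) e).symm.trans (hsr' ▸ hk₁)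

variable (N₁ : Normed D₁ r₁ n₁) (N₂ : Normed D₂ r₂ n₂)

include N₁ in
theorem move₁ {e : G} (he : e ∈ D₁) (heR : e ∉ Subgroup.zpowers r₁) :
    ∃ g : G, g * e * g⁻¹ = r₁ ^ (2 * n₁) ∧ g * r₂ ^ (2 * n₂) * g⁻¹ = r₂ ^ (2 * n₂) ∧
      ∀ y ∈ (S : Subgroup G), y * e = e * y → g * y * g⁻¹ ∈ (S : Subgroup G) := by
  obtain ⟨g, hg, hmove⟩ := exists_conj_full (N₁ e he heR) (full_of_central fun s hs => F.z_central hs)
  exact ⟨g, hg, F.fix_z₂ (hmove _ (F.le₂ F.h₂.q_mem) (F.comm he F.h₂.q_mem).symm), hmove⟩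

include N₂ in
theorem mixed₂ {f : G} (hf : f ∈ D₂) (hfR : f ∉ Subgroup.zpowers r₂) :
    IsConj (r₁ ^ (2 * n₁) * f) (r₁ ^ (2 * n₁) * r₂ ^ (2 * n₂)) := by
  obtain ⟨g, hg, hz, -⟩ := F.swap.move₁ N₂ hf hfR
  exact isConj_iff.2 ⟨g, by
    rw [show g * (r₁ ^ (2 * n₁) * f) * g⁻¹ = g * r₁ ^ (2 * n₁) * g⁻¹ * (g * f * g⁻¹) by group, hg, hz]⟩

include N₁ N₂ in
theorem double_aux {e f : G} (he : e ∈ D₁) (heR : e ∉ Subgroup.zpowers r₁) (hf : f ∈ D₂)
    (hfR : f ∉ Subgroup.zpowers r₂) :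
    IsConj (e * f) (r₁ ^ (2 * n₁) * r₂ ^ (2 * n₂)) ∨ IsConj (e * f) (r₂ ^ (2 * n₂)) := by
  obtain ⟨g, hg, hz, hmove⟩ := F.move₁ N₁ he heR
  obtain ⟨α, hα, β, hβ, hfs⟩ := F.split (hmove f (F.le₂ hf) (F.comm he hf).symm)
  have hgq := hmove _ (F.le₂ F.h₂.q_mem) (F.comm he F.h₂.q_mem).symm
  obtain ⟨a, ha, b, hb, hqs, hb2⟩ := F.image_q₂ hgq
  have hff := (F.h₂.refl f hf hfR).1
  have hinv : α * β * (a * b) * (α * β) = (a * b)⁻¹ := by
    rw [← hfs, ← hqs, show g * f * g⁻¹ * (g * r₂ ^ n₂ * g⁻¹) * (g * f * g⁻¹)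
      = g * (f * r₂ ^ n₂ * f) * g⁻¹ by group]
    conv_lhs => rw [show f * r₂ ^ n₂ * f = f * r₂ ^ n₂ * f⁻¹ by rw [F.h₂.refl_inv hf hfR],
      F.h₂.refl_conj hf hfR F.h₂.q_rot]
    group
  have hbD := F.h₂.zpowers_le hb
  have hinv' : β * b * β = b⁻¹ := by
    rw [F.mul_split ha hβ, F.mul_split hα (D₂.mul_mem hβ hbD), mul_inv_rev,
      ← F.comm (D₁.inv_mem ha) (D₂.inv_mem hbD)] at hinv
    exact (F.eq_split (D₁.mul_mem (D₁.mul_mem hα ha) hα) (D₂.mul_mem (D₂.mul_mem hβ hbD) hβ)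
      (D₁.inv_mem ha) (D₂.inv_mem hbD) hinv).2
  have hv2 : α * β * (α * β) = 1 := by
    rw [← hfs, show g * f * g⁻¹ * (g * f * g⁻¹) = g * (f * f) * g⁻¹ by group, hff]; group
  obtain ⟨hα2, hβ2⟩ := F.invol_split hα hβ hv2
  have hβR : β ∉ Subgroup.zpowers r₂ := fun hR => hb2 (by
    rw [F.h₂.rot_comm hR hb, mul_assoc, hβ2, mul_one] at hinv'
    nth_rewrite 1 [hinv']
    exact inv_mul_cancel b)
  have hfconj : IsConj (α * β) (r₂ ^ (2 * n₂)) := (isConj_iff.2 ⟨g, hfs⟩ : IsConj f (α * β)).symm.trans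
    (N₂ f hf hfR)
  have hef : IsConj (e * f) (r₁ ^ (2 * n₁) * α * β) := isConj_iff.2 ⟨g, by
    rw [show g * (e * f) * g⁻¹ = g * e * g⁻¹ * (g * f * g⁻¹) by group, hg, hfs, mul_assoc]⟩
  rcases F.h₁.invol_cases hα hα2 with ha' | ha' | ha'
  · left
    rw [ha', mul_one] at hef
    exact hef.trans (F.mixed₂ N₂ hβ hβR)
  · exfalso
    rw [ha'] at hfconj
    have h1 := F.central_conj (Or.inr (Or.inl rfl)) (fun s hs => F.zz_central hs)
      (hfconj.symm.trans (F.mixed₂ N₂ hβ hβR))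
    exact F.h₁.z_ne (mul_eq_right.1 h1.symm)
  · right
    have h1 : IsConj (α * β) (r₁ ^ (2 * n₁) * α * β) := isConj_iff.2 ⟨r₁ ^ n₁, by
      rw [← F.h₁.z_cent hα, ← F.h₁.q_conj hα ha']
      calc r₁ ^ n₁ * (α * β) * (r₁ ^ n₁)⁻¹ = r₁ ^ n₁ * α * (β * (r₁ ^ n₁)⁻¹) := by group
        _ = r₁ ^ n₁ * α * ((r₁ ^ n₁)⁻¹ * β) := by rw [F.comm (D₁.inv_mem F.h₁.q_mem) hβ]
        _ = r₁ ^ n₁ * α * (r₁ ^ n₁)⁻¹ * β := by group⟩
    exact hef.trans (h1.symm.trans hfconj)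

include N₁ N₂ in
theorem double {e f : G} (he : e ∈ D₁) (heR : e ∉ Subgroup.zpowers r₁) (hf : f ∈ D₂)
    (hfR : f ∉ Subgroup.zpowers r₂) : IsConj (e * f) (r₁ ^ (2 * n₁) * r₂ ^ (2 * n₂)) := by
  rcases F.double_aux N₁ N₂ he heR hf hfR with h | h
  · exact h
  exfalso
  rcases F.swap.double_aux N₂ N₁ hf hfR he heR with h' | h' <;> rw [← F.comm he hf] at h'
  · rw [← F.comm F.h₁.z_mem F.h₂.z_mem] at h'
    have h1 := F.central_conj (Or.inr (Or.inl rfl)) (fun s hs => F.zz_central hs) (h.symm.trans h')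
    exact F.h₁.z_ne (mul_eq_right.1 h1.symm)
  · exact F.z_ne (F.central_conj (Or.inr (Or.inl rfl)) (fun s hs => F.z_central hs) (h.symm.trans h')).symm

include N₁ N₂ in
/-- Involutions conjugate to the first centre lie in the first factor. -/
theorem invol_mem {x : G} (hx : x ∈ (S : Subgroup G)) (hx2 : x * x = 1)
    (hc : IsConj x (r₁ ^ (2 * n₁))) : x ∈ D₁ := by
  obtain ⟨a, ha, b, hb, rfl⟩ := F.split hx
  obtain ⟨ha2, hb2⟩ := F.invol_split ha hb hx2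
  have hzc : ∀ s ∈ (S : Subgroup G), r₁ ^ (2 * n₁) * s = s * r₁ ^ (2 * n₁) := fun s hs => F.z_central hs
  have hzz : ¬ IsConj (r₁ ^ (2 * n₁) * r₂ ^ (2 * n₂)) (r₁ ^ (2 * n₁)) := fun h =>
    F.z_ne_zz (F.central_conj (Or.inr (Or.inr rfl)) hzc h).symm
  rcases F.h₂.invol_cases hb hb2 with hb' | hb' | hb'
  · rw [hb', mul_one]; exact ha
  · exfalso
    rw [hb'] at hc
    rcases F.h₁.invol_cases ha ha2 with ha' | ha' | ha'
    · rw [ha', one_mul] at hc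
      exact F.z_ne (F.central_conj (Or.inr (Or.inl rfl)) hzc hc).symm
    · rw [ha'] at hc; exact hzz hc
    · have h1 := F.swap.mixed₂ N₁ ha ha'
      rw [← F.comm ha F.h₂.z_mem, ← F.comm F.h₁.z_mem F.h₂.z_mem] at h1
      exact hzz (h1.symm.trans hc)
  · exfalso
    rcases F.h₁.invol_cases ha ha2 with ha' | ha' | ha'
    · rw [ha', one_mul] at hc
      exact F.z_ne (F.central_conj (Or.inr (Or.inl rfl)) hzc ((N₂ b hb hb').symm.trans hc)).symm
    · rw [ha'] at hc; exact hzz ((F.mixed₂ N₂ hb hb').symm.trans hc)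
    · exact hzz ((F.double N₁ N₂ ha ha' hb hb').symm.trans hc)

include N₁ N₂ in
/-- The first factor is strongly closed. -/
theorem closed : Cfsg.IsStronglyClosed D₁ (S : Subgroup G) := by
  haveI : Fact (Nat.Prime 2) := ⟨Nat.prime_two⟩
  have key : ∀ (k : ℕ) (x g : G), x ∈ D₁ → orderOf x = k → g * x * g⁻¹ ∈ (S : Subgroup G) →
      g * x * g⁻¹ ∈ D₁ := by
    intro k
    induction k using Nat.strong_induction_on with
    | _ k ih =>
      intro x g hx hk hy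
      by_cases hx2 : x * x = 1
      · rcases F.h₁.invol_cases hx hx2 with e | e | e
        · simp [e]
        all_goals
          refine F.invol_mem N₁ N₂ hy ?_ ?_
          · rw [show g * x * g⁻¹ * (g * x * g⁻¹) = g * (x * x) * g⁻¹ by group, hx2]; group
        · exact ((isConj_iff.2 ⟨g, rfl⟩ : IsConj x (g * x * g⁻¹)).symm).trans (e ▸ IsConj.refl _)
        · exact ((isConj_iff.2 ⟨g, rfl⟩ : IsConj x (g * x * g⁻¹)).symm).trans (N₁ x hx e)
      have hxR : x ∈ Subgroup.zpowers r₁ := by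
        by_contra h; exact hx2 (F.h₁.refl x hx h).1
      have hlt : orderOf (x * x) < k := by
        have hev : 2 ∣ orderOf x := by
          obtain ⟨j, hj⟩ := IsPGroup.iff_orderOf.1 S.isPGroup' ⟨x, F.le₁ hx⟩
          rw [Subgroup.orderOf_mk] at hj
          rcases j with _ | j
          · have hx1 : x = 1 := orderOf_eq_one_iff.1 (by simpa using hj)
            exact absurd (by rw [hx1, one_mul]) hx2
          · exact hj ▸ dvd_pow_self 2 j.succ_ne_zero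
        rw [← pow_two, orderOf_pow_of_dvd two_ne_zero hev, ← hk]
        exact Nat.div_lt_self (orderOf_pos x) Nat.one_lt_two
      set y := g * x * g⁻¹ with hydef
      have hy2 : y * y ∈ D₁ := by
        have e : y * y = g * (x * x) * g⁻¹ := by rw [hydef]; group
        rw [e]
        exact ih _ hlt _ g (D₁.mul_mem hx hx) rfl (e ▸ (S : Subgroup G).mul_mem hy hy)
      obtain ⟨a, ha, b, hb, hys⟩ := F.split hy
      rw [hys, F.sq_split ha hb] at hy2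
      have hb2 : b * b = 1 := by
        refine (F.eq_split D₁.one_mem (D₂.mul_mem hb hb) (D₁.mul_mem (D₁.inv_mem (D₁.mul_mem ha ha)) hy2)
          D₂.one_mem ?_).2
        rw [one_mul, mul_one, inv_mul_cancel_left]
      have ha2 : a * a ≠ 1 := fun e => hx2 (by
        have h1 : y * y = 1 := by rw [hys, F.sq_split ha hb, e, hb2, one_mul]
        rw [hydef, show g * x * g⁻¹ * (g * x * g⁻¹) = g * (x * x) * g⁻¹ by group] at h1
        exact conj_eq_one_iff.1 h1)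
      have haR : a ∈ Subgroup.zpowers r₁ := by
        by_contra h; exact ha2 (F.h₁.refl a ha h).1
      -- the first factor normalises `⟨y⟩`
      have hDy : D₁ ≤ Subgroup.normalizer (Subgroup.zpowers y : Set G) := by
        refine F.h₁.le_of_refl fun e he heR => Fusion.mem_normalizer_of_cj_le fun w hw => ?_
        obtain ⟨i, hi⟩ := mem_cj.1 hw
        refine ⟨-i, ?_⟩
        simp only at hi ⊢
        have hbi : b⁻¹ = b := inv_eq_of_mul_eq_one_right hb2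
        have h1 : e * y * e⁻¹ = y⁻¹ := by
          rw [hys, mul_inv_rev, hbi, ← F.comm (D₁.inv_mem ha) hb, ← F.h₁.refl_conj he heR haR]
          calc e * (a * b) * e⁻¹ = e * a * (b * e⁻¹) := by group
            _ = e * a * (e⁻¹ * b) := by rw [F.comm (D₁.inv_mem he) hb]
            _ = e * a * e⁻¹ * b := by group
        calc y ^ (-i) = (e * y * e⁻¹) ^ i := by rw [h1, inv_zpow, zpow_neg]
          _ = w := by rw [conj_zpow, hi]; group
      set NX := Subgroup.normalizer (Subgroup.zpowers x : Set G)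
      have hxN : (S : Subgroup G) ≤ NX := by
        intro s hs
        obtain ⟨u, hu, v, hv, rfl⟩ := F.split hs
        refine Subgroup.mul_mem _ ?_ ?_
        · refine Fusion.mem_normalizer_of_cj_le fun w hw => ?_
          obtain ⟨i, hi⟩ := mem_cj.1 hw
          simp only at hi
          have hw' : w = u * x ^ i * u⁻¹ := by rw [hi]; group
          by_cases huR : u ∈ Subgroup.zpowers r₁
          · refine ⟨i, ?_⟩
            show x ^ i = w
            rw [hw', F.h₁.rot_comm huR (Subgroup.zpow_mem _ hxR i), mul_inv_cancel_right]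
          · refine ⟨-i, ?_⟩
            show x ^ (-i) = w
            rw [hw', F.h₁.refl_conj hu huR (Subgroup.zpow_mem _ hxR i), zpow_neg]
        · refine Subgroup.centralizer_le_normalizer _ (Subgroup.mem_centralizer_iff.2 ?_)
          rintro w ⟨i, rfl⟩
          exact F.comm (D₁.zpow_mem hx i) hv
      have hSN : SylIn 2 (S : Subgroup G) NX := (Fusion.sylIn_top S).mono hxN le_top
      have hP : cj D₁ g⁻¹ ≤ NX := by
        have hcj : cj (Subgroup.zpowers y) g⁻¹ = Subgroup.zpowers x := by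
          show (Subgroup.zpowers y).map (MulAut.conj g⁻¹).toMonoidHom = _
          rw [MonoidHom.map_zpowers]
          congr 1
          show g⁻¹ * y * g⁻¹⁻¹ = x
          rw [hydef]; group
        intro w hw
        have h1 : w ∈ cj (Subgroup.normalizer (Subgroup.zpowers y : Set G)) g⁻¹ := Fusion.cj_mono hDy g⁻¹ hw
        rwa [Fusion.cj_normalizer, hcj] at h1
      obtain ⟨m, hm, hle⟩ := hSN.conj_le (Fusion.isPGroup_cj (S.isPGroup'.to_le F.le₁) g⁻¹) hP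
      set k' := m * g⁻¹
      have hk'S : ∀ d ∈ D₁, k' * d * k'⁻¹ ∈ (S : Subgroup G) := fun d hd => by
        have := hle (Fusion.conj_mem_cj (Fusion.conj_mem_cj (g := g⁻¹) hd))
        rwa [show m * (g⁻¹ * d * g⁻¹⁻¹) * m⁻¹ = m * g⁻¹ * d * (m * g⁻¹)⁻¹ by group] at this
      have hk'D : D₁ ≤ cj D₁ k'⁻¹ := F.h₁.le_of_refl fun e he heR => by
        rw [mem_cj, inv_inv]
        refine F.invol_mem N₁ N₂ (hk'S e he) ?_ ?_
        · rw [show k' * e * k'⁻¹ * (k' * e * k'⁻¹) = k' * (e * e) * k'⁻¹ by group, (F.h₁.refl e he heR).1]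
          group
        · exact ((isConj_iff.2 ⟨k', rfl⟩ : IsConj e (k' * e * k'⁻¹)).symm).trans (N₁ e he heR)
      have hky : k' * y * k'⁻¹ ∈ D₁ := by
        have e : k' * y * k'⁻¹ = m * x * m⁻¹ := by rw [hydef]; simp only [k']; group
        rw [e]
        exact (Subgroup.zpowers_le.2 hx : Subgroup.zpowers x ≤ D₁)
          ((Subgroup.mem_normalizer_iff.1 hm x).1 (Subgroup.mem_zpowers x))
      have hkb : k' * b * k'⁻¹ ∈ D₁ := by
        have hka : k' * a * k'⁻¹ ∈ D₁ := by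
          have := mem_cj.1 (hk'D ha)
          rwa [inv_inv] at this
        have := D₁.mul_mem (D₁.inv_mem hka) hky
        rwa [hys, show (k' * a * k'⁻¹)⁻¹ * (k' * (a * b) * k'⁻¹) = k' * b * k'⁻¹ by group] at this
      have hkb2 : k' * b * k'⁻¹ * (k' * b * k'⁻¹) = 1 := by
        rw [show k' * b * k'⁻¹ * (k' * b * k'⁻¹) = k' * (b * b) * k'⁻¹ by group, hb2]; group
      rcases F.h₂.invol_cases hb hb2 with e | e | e
      · rw [hys, e, mul_one]; exact ha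
      all_goals
        exfalso
        have hconj : IsConj (k' * b * k'⁻¹) (r₂ ^ (2 * n₂)) := by
          refine (isConj_iff.2 ⟨k', rfl⟩ : IsConj b (k' * b * k'⁻¹)).symm.trans ?_
          first
            | exact e ▸ IsConj.refl _
            | exact N₂ b hb e
        have h3 : k' * b * k'⁻¹ ∈ D₁ ⊓ D₂ :=
          ⟨hkb, F.swap.invol_mem N₂ N₁ (F.le₁ hkb) hkb2 hconj⟩
        rw [F.prod.2.2.2.1, Subgroup.mem_bot, conj_eq_one_iff] at h3
      · exact F.h₂.z_ne (e.symm.trans h3)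
      · exact e (h3 ▸ Subgroup.one_mem _)
  exact ⟨F.le₁, fun x hx g hg => key _ x g hx rfl hg⟩

/-- Product fusion for two nonabelian dihedral factors. -/
theorem exists_closed : ∃ S₁ S₂ : Subgroup G, Cfsg.IsInternalDirectProduct S₁ S₂ (S : Subgroup G) ∧
    Nonempty (S₁ ≃* D₁) ∧ Nonempty (S₂ ≃* D₂) ∧
    Cfsg.IsStronglyClosed S₁ (S : Subgroup G) ∧ Cfsg.IsStronglyClosed S₂ (S : Subgroup G) := by
  obtain ⟨E₁, s₁, F₁, M₁, i₁⟩ := F.exists_normed
  obtain ⟨E₂, s₂, F₂, M₂, i₂⟩ := F₁.swap.exists_normed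
  exact ⟨E₁, E₂, F₂.swap.prod, i₁, i₂, F₂.swap.closed M₁ M₂, F₂.closed M₂ M₁⟩

end Frame

end Cfsg.Agent.StrongProd
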