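import Mathlib

/-!
A central subgroup inside the derived group and a Sylow subgroup lies in the Frattini subgroup of the latter.
-/

set_option autoImplicit false
set_option linter.style.haveILetI false

open scoped commutatorElement

namespace Cfsg.Agent.StrongProd

variable {G : Type*} [Group G] [Finite G] {q : ℕ} [Fact q.Prime]

theorem mem_derived_of_central (Q : Sylow q G) {z : G} (hz : z ∈ Subgroup.center G)
    (hzd : z ∈ commutator G) (hzQ : z ∈ (Q : Subgroup G)) :
    (⟨z, hzQ⟩ : (Q : Subgroup G)) ∈ commutator (Q : Subgroup G) := by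
  let ϕ : (Q : Subgroup G) →* Abelianization (Q : Subgroup G) := Abelianization.of
  have hker : commutator G ≤ (MonoidHom.transfer ϕ).ker := Abelianization.commutator_subset_ker _
  have hc := Subgroup.mem_center_iff.1 hz
  have key : ∀ (k : ℕ) (g₀ : G), g₀⁻¹ * z ^ k * g₀ ∈ (Q : Subgroup G) → g₀⁻¹ * z ^ k * g₀ = z ^ k := by
    intro k g₀ _
    rw [mul_assoc, ← (Subgroup.mem_center_iff.1 ((Subgroup.center G).pow_mem hz k)) g₀,
      inv_mul_cancel_left]
  have h1 : MonoidHom.transfer ϕ z = 1 := hker hzd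
  rw [MonoidHom.transfer_eq_pow ϕ z key] at h1
  have h2 : ϕ ⟨z, hzQ⟩ ^ (Q : Subgroup G).index = 1 := by
    rw [← map_pow]; exact h1
  obtain ⟨k, hk⟩ := Q.2 ⟨z, hzQ⟩
  have h3 : ϕ ⟨z, hzQ⟩ ^ (q ^ k) = 1 := by rw [← map_pow, hk, map_one]
  have hco : ((Q : Subgroup G).index).Coprime (q ^ k) :=
    ((Nat.Prime.coprime_iff_not_dvd Fact.out).2 Q.not_dvd_index).symm.pow_right k
  have h4 : ϕ ⟨z, hzQ⟩ = 1 := by
    have := pow_gcd_eq_one.2 ⟨h2, h3⟩
    rwa [hco.gcd_eq_one, pow_one] at this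
  have h5 : (⟨z, hzQ⟩ : (Q : Subgroup G)) ∈ ϕ.ker := h4
  rwa [Abelianization.ker_of] at h5

/-- A subgroup of a `q`-group covering the abelianisation is everything. -/
theorem eq_top_of_sup_commutator {P : Type*} [Group P] [Finite P] (hP : IsPGroup q P)
    {H : Subgroup P} (h : H ⊔ commutator P = ⊤) : H = ⊤ := by
  have := hP.isNilpotent
  by_contra hne
  obtain ⟨K, hK, hHK⟩ := (eq_top_or_exists_le_coatom H).resolve_left hne
  haveI : K.Normal := Subgroup.NormalizerCondition.normal_of_coatom K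
    Group.normalizerCondition_of_isNilpotent hK
  have hcyc : commutator P ≤ K := by
    obtain ⟨x, -, hx⟩ := SetLike.exists_of_lt (lt_top_iff_ne_top.2 hK.1)
    have htop : K ⊔ Subgroup.zpowers x = ⊤ :=
      hK.2 _ (lt_of_le_of_ne le_sup_left fun e => hx (e ▸ Subgroup.mem_sup_right (Subgroup.mem_zpowers x)))
    have hcyc : IsCyclic (P ⧸ K) := by
      refine ⟨⟨(x : P ⧸ K), fun y => ?_⟩⟩
      obtain ⟨y, rfl⟩ := QuotientGroup.mk_surjective y
      have hy : y ∈ K ⊔ Subgroup.zpowers x := htop ▸ Subgroup.mem_top y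
      rw [Subgroup.mem_sup_of_normal_left] at hy
      obtain ⟨k, hk, _, ⟨i, rfl⟩, rfl⟩ := hy
      exact ⟨i, by simp [(QuotientGroup.eq_one_iff k).2 hk]⟩
    rw [commutator_def, Subgroup.commutator_le]
    intro a _ b _
    rw [← QuotientGroup.eq_one_iff, ← QuotientGroup.mk'_apply, map_commutatorElement,
      commutatorElement_eq_one_iff_mul_comm]
    letI := hcyc.commGroup
    exact mul_comm _ _
  exact hK.1 (top_le_iff.1 (h ▸ sup_le hHK hcyc))

/-- If `V` is central, lies in the derived group and in the Sylow subgroup `Q`, then it can be omitted. -/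
theorem le_of_le_sup_central (Q : Sylow q G) (Z V : Subgroup G) (hZQ : Z ≤ (Q : Subgroup G))
    (hVQ : V ≤ (Q : Subgroup G)) (hVc : V ≤ Subgroup.center G) (hVd : V ≤ commutator G)
    (h : (Q : Subgroup G) ≤ Z ⊔ V) : (Q : Subgroup G) ≤ Z := by
  rw [← Subgroup.subgroupOf_eq_top]
  refine eq_top_of_sup_commutator (q := q) Q.2 ?_
  refine top_le_iff.1 ?_
  have h1 : (Z ⊔ V).subgroupOf (Q : Subgroup G) = ⊤ := Subgroup.subgroupOf_eq_top.2 h
  rw [Subgroup.subgroupOf_sup hZQ hVQ] at h1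
  rw [← h1]
  refine sup_le_sup le_rfl fun z hz => ?_
  exact mem_derived_of_central Q (hVc hz) (hVd hz) z.2

end Cfsg.Agent.StrongProd
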