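import Cfsg.Agent.Lib.Solv.Generation
import Cfsg.Agent.Lib.Fusion.Basic
import Cfsg.Agent.Lib.Fusion.Product.Frattini

/-!
Fixed points in groups generated by the values of a hyperplane family.
-/

set_option autoImplicit false
set_option linter.style.haveILetI false
set_option linter.unusedSectionVars false

open scoped commutatorElement

namespace Cfsg.Agent.StrongProd

open Cfsg.Agent.Solv (CycQuot)
open Cfsg.Agent.Fusion (cj mem_cj mem_normalizer_of_cj_le cj_eq_self)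

universe u

variable {G : Type u} [Group G]

/-- A family attached to the subgroups of an elementary abelian `2`-group `E`. -/
structure GenHyp (E : Subgroup G) (N : Subgroup G → Subgroup G) : Prop where
  comm : IsMulCommutative E
  sq : ∀ g ∈ E, g * g = 1
  anti : ∀ U Q : Subgroup G, U ≤ Q → Q ≤ E → N Q ≤ N U
  cent : ∀ U : Subgroup G, U ≤ E → N U ≤ Subgroup.centralizer (U : Set G)
  norm : ∀ U : Subgroup G, U ≤ E → Subgroup.centralizer (U : Set G) ≤ Subgroup.normalizer (N U : Set G)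
  zero : ∀ R ∈ CycQuot E, ∀ d ∈ N R, d ∈ Subgroup.centralizer (E : Set G) → d ∈ N E
  inverted : ∀ R ∈ CycQuot E, ∀ P ∈ CycQuot E, ∀ Q ∈ CycQuot E, P ⊓ Q ≤ R → ∀ d ∈ N (P ⊓ Q),
    d ∈ Subgroup.centralizer (R : Set G) → ∀ g ∈ E, g ∉ R → g * d * g⁻¹ = d⁻¹ → Odd (orderOf d) →
      d ∈ N R

theorem mem_of_sq_mem [Finite G] {H : Subgroup G} {d : G} (hodd : Odd (orderOf d)) (h : d * d ∈ H) :
    d ∈ H := by
  obtain ⟨k, hk⟩ := hodd
  have : d = (d * d) ^ (k + 1) := by
    rw [← pow_two, ← pow_mul, show 2 * (k + 1) = orderOf d + 1 by omega, pow_succ, pow_orderOf_eq_one,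
      one_mul]
  rw [this]
  exact H.pow_mem h _

theorem odd_orderOf_of_mem [Finite G] {Y : Subgroup G} (hY : Odd (Nat.card Y)) {d : G} (hd : d ∈ Y) :
    Odd (orderOf d) :=
  hY.of_dvd_nat (Subgroup.orderOf_dvd_natCard _ hd)

section Cyc

variable {E R : Subgroup G} {N : Subgroup G → Subgroup G}

theorem GenHyp.commute (h : GenHyp E N) {x y : G} (hx : x ∈ E) (hy : y ∈ E) : x * y = y * x :=
  congrArg Subtype.val (h.comm.is_comm.comm ⟨x, hx⟩ ⟨y, hy⟩)

theorem GenHyp.le_centralizer (h : GenHyp E N) {U : Subgroup G} (hU : U ≤ E) :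
    E ≤ Subgroup.centralizer (U : Set G) :=
  fun _ hx => Subgroup.mem_centralizer_iff.2 fun _ hy => h.commute (hU hy) hx

theorem GenHyp.invariant (h : GenHyp E N) {U : Subgroup G} (hU : U ≤ E) :
    E ≤ Subgroup.normalizer (N U : Set G) :=
  (h.le_centralizer hU).trans (h.norm U hU)

theorem cyc_top (E : Subgroup G) : E ∈ CycQuot E :=
  ⟨le_rfl, 1, E.one_mem, by simp⟩

theorem GenHyp.cyc_sup (h : GenHyp E N) {U : Subgroup G} (hR : R ∈ CycQuot E) (hU : U ≤ E) :
    R ⊔ U ∈ CycQuot E := by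
  obtain ⟨hRE, a, ha, hsup⟩ := hR
  refine ⟨sup_le hRE hU, a, ha, le_antisymm (sup_le (sup_le hRE hU) (Subgroup.zpowers_le.2 ha)) ?_⟩
  exact hsup.ge.trans (sup_le_sup le_sup_left le_rfl)

theorem GenHyp.cyc_max (h : GenHyp E N) (hR : R ∈ CycQuot E) {R' : Subgroup G} (hle : R ≤ R')
    (hR'E : R' ≤ E) : R' = R ∨ R' = E := by
  obtain ⟨hRE, a, ha, hsup⟩ := hR
  refine or_iff_not_imp_left.2 fun hne => le_antisymm hR'E ?_
  obtain ⟨x, hx, hxR⟩ := SetLike.exists_of_lt (lt_of_le_of_ne hle (Ne.symm hne))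
  have hn : Subgroup.zpowers a ≤ Subgroup.normalizer (R : Set G) :=
    Subgroup.zpowers_le.2 (Subgroup.centralizer_le_normalizer _ (h.le_centralizer hRE ha))
  have hx' : x ∈ ((R ⊔ Subgroup.zpowers a : Subgroup G) : Set G) := hsup.ge (hR'E hx)
  rw [Subgroup.coe_mul_of_right_le_normalizer_left R _ hn] at hx'
  obtain ⟨r, hr, _, ⟨i, rfl⟩, rfl⟩ := hx'
  simp only at hx hxR ⊢
  rcases Int.even_or_odd i with ⟨j, rfl⟩ | ⟨j, rfl⟩
  · refine absurd ?_ hxR
    rw [← two_mul, zpow_mul, zpow_two, h.sq a ha, one_zpow, mul_one]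
    exact hr
  · simp only [zpow_add, zpow_mul, zpow_two, zpow_one, h.sq a ha, one_zpow, one_mul] at hx
    have haR : a ∈ R' := by
      have := R'.mul_mem (R'.inv_mem (hle hr)) hx
      rwa [inv_mul_cancel_left] at this
    exact hsup.ge.trans (sup_le hle (Subgroup.zpowers_le.2 haR))

end Cyc

variable [Finite G] {E Y : Subgroup G} {N : Subgroup G → Subgroup G}

theorem GenHyp.coprime (h : GenHyp E N) {K : Subgroup G} (hK : Odd (Nat.card K)) :
    (Nat.card E).Coprime (Nat.card K) := by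
  have hE : IsPGroup 2 E := fun x => ⟨1, Subtype.ext (by
    rw [pow_one, Subgroup.coe_pow, pow_two]; exact h.sq x x.2)⟩
  haveI : Fact (Nat.Prime 2) := ⟨Nat.prime_two⟩
  obtain ⟨k, hk⟩ := IsPGroup.iff_card.1 hE
  rw [hk]
  exact (Nat.coprime_two_left.2 hK).pow_left _

theorem GenHyp.solvable (h : GenHyp E N) : Group.IsSolvable E :=
  Group.isSolvable_of_comm fun s t => h.comm.is_comm.comm s t

theorem odd_le {Y K : Subgroup G} (hY : Odd (Nat.card Y)) (h : K ≤ Y) : Odd (Nat.card K) :=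
  hY.of_dvd_nat (Subgroup.card_dvd_of_le h)

/-- `M` is a subgroup of `Y` normal in `Y` and invariant under `E`. -/
def Inv (E Y M : Subgroup G) : Prop :=
  M ≤ Y ∧ Y ≤ Subgroup.normalizer (M : Set G) ∧ E ≤ Subgroup.normalizer (M : Set G)

/-- Fixed points of `Y` are good modulo `M`. -/
def Covered (E Y : Subgroup G) (N : Subgroup G → Subgroup G) (M : Subgroup G) : Prop :=
  ∀ R ∈ CycQuot E, Y ⊓ Subgroup.centralizer (R : Set G) ≤ (Y ⊓ N R) ⊔ M

theorem normalizer_sup_le {A B : Subgroup G} {x : G} (hA : x ∈ Subgroup.normalizer (A : Set G))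
    (hB : x ∈ Subgroup.normalizer (B : Set G)) : x ∈ Subgroup.normalizer ((A ⊔ B : Subgroup G) : Set G) :=
  mem_normalizer_of_cj_le (by rw [Fusion.cj_sup, cj_eq_self hA, cj_eq_self hB])

theorem normalizer_inf_le {A B : Subgroup G} {x : G} (hA : x ∈ Subgroup.normalizer (A : Set G))
    (hB : x ∈ Subgroup.normalizer (B : Set G)) : x ∈ Subgroup.normalizer ((A ⊓ B : Subgroup G) : Set G) :=
  mem_normalizer_of_cj_le (by rw [Fusion.cj_inf, cj_eq_self hA, cj_eq_self hB])

/-- A subgroup between `⁅M, M⁆` and `M` is normalised by `M`. -/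
theorem le_normalizer_between {M J : Subgroup G} (h1 : J ≤ M) (h2 : ⁅M, M⁆ ≤ J) :
    M ≤ Subgroup.normalizer (J : Set G) := fun x hx =>
  mem_normalizer_of_cj_le fun y hy => by
    rw [mem_cj] at hy
    have h3 : ⁅x, x⁻¹ * y * x⁆ ∈ J := h2 (Subgroup.commutator_mem_commutator hx (h1 hy))
    have h4 := J.mul_mem h3 hy
    rwa [commutatorElement_def, show x * (x⁻¹ * y * x) * x⁻¹ * (x⁻¹ * y * x)⁻¹ * (x⁻¹ * y * x) = y by group] at h4

/-- Averaging over a subgroup of coprime order in an abelian section. -/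
theorem avg_mem {R M M0 J : Subgroup G} (hodd : Odd (Nat.card M)) (hR : (Nat.card R).Coprime (Nat.card M))
    (hRM : R ≤ Subgroup.normalizer (M : Set G)) (hR0 : R ≤ Subgroup.normalizer (M0 : Set G))
    (h0 : M0 ≤ M) (hab : ⁅M, M⁆ ≤ M0) (hJ : J ≤ M ⊓ Subgroup.centralizer (R : Set G))
    (hM : M ≤ (J ⊔ M0) ⊔ ⁅M, R⁆) {m : G} (hm : m ∈ M) (hmR : m ∈ Subgroup.centralizer (R : Set G)) :
    m ∈ J ⊔ M0 := by
  classical
  have := Fintype.ofFinite R
  set D := M0.subgroupOf M with hD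
  haveI : D.Normal := Subgroup.normal_subgroupOf_of_le_normalizer
    (le_normalizer_between h0 hab)
  letI : CommGroup (M ⧸ D) :=
    { (inferInstance : Group (M ⧸ D)) with
      mul_comm := fun a b => by
        obtain ⟨a, rfl⟩ := QuotientGroup.mk_surjective a
        obtain ⟨b, rfl⟩ := QuotientGroup.mk_surjective b
        rw [← QuotientGroup.mk_mul, ← QuotientGroup.mk_mul, QuotientGroup.eq]
        refine Subgroup.mem_subgroupOf.2 (hab ?_)
        have h := Subgroup.commutator_mem_commutator (inv_mem b.2) (inv_mem a.2) (H₁ := M) (H₂ := M)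
        convert h using 1
        simp [commutatorElement_def]
        group }
  let act : R → (M →* M) := fun r =>
    ((MulAut.conj (r : G)).toMonoidHom.comp M.subtype).codRestrict M fun k =>
      Solv.conj_mem_of_mem_normalizer (hRM r.2) k.2
  have hact : ∀ (r : R) (k : M), ((act r k : M) : G) = r * k * (r : G)⁻¹ := fun r k => rfl
  let π : M →* M ⧸ D := QuotientGroup.mk' D
  let φ : M →* M ⧸ D :=
    { toFun := fun k => ∏ r : R, π (act r k)
      map_one' := by simp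
      map_mul' := fun a b => by simp [Finset.prod_mul_distrib] }
  have hφ : ∀ k : M, φ k = ∏ r : R, π (act r k) := fun k => rfl
  have hinv : ∀ (s : R) (k : M), φ (act s k) = φ k := by
    intro s k
    rw [hφ, hφ]
    refine Fintype.prod_equiv (Equiv.mulRight s) _ _ fun r => ?_
    refine congrArg π (Subtype.ext ?_)
    simp only [Equiv.coe_mulRight, hact, Subgroup.coe_mul, mul_inv_rev, mul_assoc]
  have hfix : ∀ k : M, (k : G) ∈ Subgroup.centralizer (R : Set G) → φ k = π k ^ Fintype.card R := by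
    intro k hk
    rw [hφ]
    have : ∀ r : R, π (act r k) = π k := fun r => congrArg π (Subtype.ext (by
      rw [hact, Subgroup.mem_centralizer_iff.1 hk r r.2, mul_inv_cancel_right]))
    simp [this]
  have hker : ⁅M, R⁆ ≤ φ.ker.map M.subtype := by
    rw [Subgroup.commutator_le]
    intro k hk r hr
    let k' : M := ⟨k, hk⟩
    refine ⟨k' * act ⟨r, hr⟩ k'⁻¹, ?_, ?_⟩
    · show φ (k' * act ⟨r, hr⟩ k'⁻¹) = 1
      rw [map_mul, hinv, ← map_mul, mul_inv_cancel, map_one]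
    · show (k : G) * _ = _
      rw [hact]
      simp [k', commutatorElement_def, mul_assoc]
  have h0k : ∀ k : M, (k : G) ∈ M0 → φ k = 1 := fun k hk => by
    rw [hφ]
    refine Finset.prod_eq_one fun r _ => (QuotientGroup.eq_one_iff _).2 (Subgroup.mem_subgroupOf.2 ?_)
    rw [hact]
    exact Solv.conj_mem_of_mem_normalizer (hR0 r.2) hk
  have hJM : J ≤ M := hJ.trans inf_le_left
  have hn0 : M ≤ Subgroup.normalizer (M0 : Set G) := le_normalizer_between h0 hab
  have hMR : ⁅M, R⁆ ≤ M := (Solv.commutator_normal_in hRM).1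
  have hn : M ≤ Subgroup.normalizer ((J ⊔ M0 : Subgroup G) : Set G) :=
    le_normalizer_between (sup_le hJM h0) (hab.trans le_sup_right)
  have hm' : m ∈ (((J ⊔ M0) ⊔ ⁅M, R⁆ : Subgroup G) : Set G) := hM hm
  rw [Subgroup.coe_mul_of_right_le_normalizer_left _ _ (hMR.trans hn)] at hm'
  obtain ⟨j, hj, c, hc, hjc⟩ := hm'
  have hj' : j ∈ ((J ⊔ M0 : Subgroup G) : Set G) := hj
  rw [Subgroup.coe_mul_of_left_le_normalizer_right J M0 (hJM.trans hn0)] at hj'
  obtain ⟨y, hy, z, hz, hyz⟩ := hj'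
  simp only at hjc hyz
  obtain ⟨c', hc', hce⟩ := hker hc
  set m' : M := ⟨m, hm⟩ with hm'
  set y' : M := ⟨y, hJM hy⟩ with hy'
  have e : m' = y' * ⟨z, h0 hz⟩ * c' := Subtype.ext (by
    simp only [hm', hy', Subgroup.coe_mul]
    rw [show (c' : G) = c from hce, hyz, hjc])
  have e2 : π m' ^ Fintype.card R = π y' ^ Fintype.card R := by
    rw [← hfix m' hmR, ← hfix y' (hJ hy).2, e, map_mul, map_mul, h0k ⟨z, h0 hz⟩ hz, MonoidHom.mem_ker.1 hc',
      mul_one, mul_one]
  have hco : (Nat.card R).Coprime (Nat.card (M ⧸ D)) :=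
    hR.coprime_dvd_right (Subgroup.card_quotient_dvd_card D)
  have e3 : π m' = π y' := by
    rw [← Nat.card_eq_fintype_card] at e2
    exact (powCoprime hco.symm).injective e2
  have e4 : (y : G)⁻¹ * m ∈ M0 := Subgroup.mem_subgroupOf.1 (QuotientGroup.eq.1 e3.symm)
  have := Subgroup.mul_mem _ (Subgroup.mem_sup_left hy : y ∈ J ⊔ M0) (Subgroup.mem_sup_right e4)
  rwa [mul_inv_cancel_left] at this

variable (h : GenHyp E N)

include h in
/-- An abelian section generated by good elements is covered. -/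
theorem covered_step (hY : Odd (Nat.card Y)) {M0 M : Subgroup G} (hM0 : Inv E Y M0)
    (hM : Inv E Y M) (h0 : M0 ≤ M) (hab : ⁅M, M⁆ ≤ M0)
    (hgood : M ≤ M0 ⊔ ⨆ R ∈ CycQuot E, M ⊓ N R) (hcov : Covered E Y N M) : Covered E Y N M0 := by
  intro R hR x hx
  have hx' : x ∈ (((Y ⊓ N R) ⊔ M : Subgroup G) : Set G) := hcov R hR hx
  rw [Subgroup.coe_mul_of_left_le_normalizer_right _ _ (inf_le_left.trans hM.2.1)] at hx'
  obtain ⟨n, hn, m, hm, rfl⟩ := hx'
  have hmR : m ∈ Subgroup.centralizer (R : Set G) := by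
    have := Subgroup.mul_mem _ (Subgroup.inv_mem _ (h.cent R hR.1 hn.2)) hx.2
    simpa using this
  have hco := h.coprime (odd_le hY hM.1)
  have hMle : M ≤ ((M ⊓ N R) ⊔ M0) ⊔ ⁅M, R⁆ := by
    refine hgood.trans (sup_le (le_sup_right.trans le_sup_left) (iSup₂_le fun R' hR' => ?_))
    have hK : R ≤ Subgroup.normalizer ((M ⊓ N R' : Subgroup G) : Set G) := fun r hr =>
      normalizer_inf_le (hM.2.2 (hR.1 hr)) (h.invariant hR'.1 (hR.1 hr))
    refine (Solv.commutator_sup_fixed hK ((hco.coprime_dvd_left (Subgroup.card_dvd_of_le hR.1)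
      ).coprime_dvd_right (Subgroup.card_dvd_of_le inf_le_left))
      (Or.inl (Solv.isSolvable_of_le hR.1 h.solvable))).ge.trans ?_
    refine sup_le ((Subgroup.commutator_mono inf_le_left le_rfl).trans le_sup_right) fun c hc => ?_
    refine Subgroup.mem_sup_left (Subgroup.mem_sup_left ⟨hc.1.1, ?_⟩)
    rcases h.cyc_max hR (le_sup_left : R ≤ R ⊔ R') (sup_le hR.1 hR'.1) with e | e
    · rcases h.cyc_max hR' (e ▸ le_sup_right) hR.1 with e' | e'
      · rw [e']; exact hc.1.2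
      · rw [e']
        exact h.zero R' hR' c hc.1.2 (by rw [← e']; exact hc.2)
    · refine h.anti R E hR.1 le_rfl (h.zero R' hR' c hc.1.2 ?_)
      rw [← e, Subgroup.mem_centralizer_iff]
      have hle : R ⊔ R' ≤ Subgroup.centralizer ({c} : Set G) := sup_le
        (fun r hr => Subgroup.mem_centralizer_singleton_iff.2 (Subgroup.mem_centralizer_iff.1 hc.2 r hr))
        (fun r hr => Subgroup.mem_centralizer_singleton_iff.2
          (Subgroup.mem_centralizer_iff.1 (h.cent R' hR'.1 hc.1.2) r hr))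
      exact fun y hy => Subgroup.mem_centralizer_singleton_iff.1 (hle hy)
  have hmem := avg_mem (R := R) (odd_le hY hM.1) (hco.coprime_dvd_left (Subgroup.card_dvd_of_le hR.1))
    (hR.1.trans hM.2.2) (hR.1.trans hM0.2.2) h0 hab
    (inf_le_inf_left M (h.cent R hR.1)) hMle hm hmR
  refine Subgroup.mul_mem _ (Subgroup.mem_sup_left hn) ?_
  exact sup_le_sup (inf_le_inf_right _ hM.1) le_rfl hmem

/-- The good part of a section. -/
def goodPart (E : Subgroup G) (N : Subgroup G → Subgroup G) (M0 M : Subgroup G) : Subgroup G :=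
  M0 ⊔ ⨆ R ∈ CycQuot E, M ⊓ N R

include h in
/-- Commutators into an abelian section land in its good part. -/
theorem commutator_le_good (hY : Odd (Nat.card Y)) (hYgen : Y ≤ ⨆ R ∈ CycQuot E, Y ⊓ N R)
    {X M0 M : Subgroup G} (hX : Inv E Y X)
    (hM : Inv E Y M) (hM0 : Inv E Y M0) (h0 : M0 ≤ M) (hMX : M ≤ X) (hXY : ⁅X, Y⁆ ≤ M)
    (hXM : ⁅X, M⁆ ≤ M0) :
    Inv E Y (goodPart E N M0 M) ∧ ⁅X, Y⁆ ≤ goodPart E N M0 M := by
  set M1 := goodPart E N M0 M with hM1
  have hM1M : M1 ≤ M := sup_le h0 (iSup₂_le fun R _ => inf_le_left)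
  have h01 : M0 ≤ M1 := le_sup_left
  have hXn : X ≤ Subgroup.normalizer (M1 : Set G) := fun x hx =>
    mem_normalizer_of_cj_le fun y hy => by
      rw [mem_cj] at hy
      have h3 : ⁅x, x⁻¹ * y * x⁆ ∈ M1 :=
        h01 (hXM (Subgroup.commutator_mem_commutator hx (hM1M hy)))
      have h4 := M1.mul_mem h3 hy
      rwa [commutatorElement_def,
        show x * (x⁻¹ * y * x) * x⁻¹ * (x⁻¹ * y * x)⁻¹ * (x⁻¹ * y * x) = y by group] at h4
  have hEn : E ≤ Subgroup.normalizer (M1 : Set G) := fun g hg =>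
    normalizer_sup_le (hM0.2.2 hg) (Solv.normalizer_biSup_le _ _ fun R hR =>
      normalizer_inf_le (hM.2.2 hg) (h.invariant hR.1 hg))
  have hmem1 : ∀ R ∈ CycQuot E, ∀ d ∈ M, d ∈ N R → d ∈ M1 := fun R hR d hd hdN =>
    Subgroup.mem_sup_right (Subgroup.mem_iSup_of_mem R (Subgroup.mem_iSup_of_mem hR ⟨hd, hdN⟩))
  have hcoM := h.coprime (odd_le hY hM.1)
  have hcoX := h.coprime (odd_le hY hX.1)
  -- elements of `M ⊓ N U` are fixed by `E` modulo the good part
  have hfix : ∀ P ∈ CycQuot E, ∀ Q ∈ CycQuot E, ∀ k ∈ M ⊓ N (P ⊓ Q), ∀ g ∈ E,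
      g * k * g⁻¹ * k⁻¹ ∈ M1 := by
    intro P hP Q hQ k hk
    let F : Subgroup G :=
      { carrier := {k | k ∈ M ∧ ∀ g ∈ E, g * k * g⁻¹ * k⁻¹ ∈ M1}
        one_mem' := ⟨M.one_mem, fun g _ => by simp⟩
        mul_mem' := fun {a b} ha hb => ⟨M.mul_mem ha.1 hb.1, fun g hg => by
          have := M1.mul_mem (ha.2 g hg)
            (Solv.conj_mem_of_mem_normalizer (hXn (hMX ha.1)) (hb.2 g hg))
          rwa [show g * a * g⁻¹ * a⁻¹ * (a * (g * b * g⁻¹ * b⁻¹) * a⁻¹) = g * (a * b) * g⁻¹ * (a * b)⁻¹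
            by group] at this⟩
        inv_mem' := fun {a} ha => ⟨M.inv_mem ha.1, fun g hg => by
          have := Solv.conj_mem_of_mem_normalizer (hXn (hMX (M.inv_mem ha.1))) (M1.inv_mem (ha.2 g hg))
          rwa [show a⁻¹ * (g * a * g⁻¹ * a⁻¹)⁻¹ * a⁻¹⁻¹ = g * a⁻¹ * g⁻¹ * a⁻¹⁻¹ by group] at this⟩ }
    have hUE : P ⊓ Q ≤ E := inf_le_left.trans hP.1
    have hK : E ≤ Subgroup.normalizer ((M ⊓ N (P ⊓ Q) : Subgroup G) : Set G) := fun g hg =>
      normalizer_inf_le (hM.2.2 hg) (h.invariant hUE hg)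
    have hle : M ⊓ N (P ⊓ Q) ≤ F := by
      refine (Solv.gen_eq E _ h.comm hK (hcoM.coprime_dvd_right
        (Subgroup.card_dvd_of_le inf_le_left))).ge.trans (iSup₂_le fun B hB c hc => ?_)
      refine ⟨hc.1.1, fun g hg => ?_⟩
      have hR := h.cyc_sup hB hUE
      have hcR : B ⊔ (P ⊓ Q) ≤ Subgroup.centralizer ({c} : Set G) := sup_le
        (fun r hr => Subgroup.mem_centralizer_singleton_iff.2 (Subgroup.mem_centralizer_iff.1 hc.2 r hr))
        (fun r hr => Subgroup.mem_centralizer_singleton_iff.2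
          (Subgroup.mem_centralizer_iff.1 (h.cent _ hUE hc.1.2) r hr))
      by_cases hgR : g ∈ B ⊔ (P ⊓ Q)
      · rw [Subgroup.mem_centralizer_singleton_iff.1 (hcR hgR)]
        simp
      set e := g * c * g⁻¹ * c⁻¹ with he
      have heK : e ∈ M ⊓ N (P ⊓ Q) :=
        Subgroup.mul_mem _ (Solv.conj_mem_of_mem_normalizer (hK hg) hc.1) (Subgroup.inv_mem _ hc.1)
      refine hmem1 _ hR e heK.1 (h.inverted _ hR P hP Q hQ le_sup_right e heK.2 ?_ g hg hgR ?_
        (odd_orderOf_of_mem hY (hM.1 heK.1)))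
      · refine Subgroup.mem_centralizer_iff.2 fun r hr => ?_
        have h1 : r * c = c * r := Subgroup.mem_centralizer_singleton_iff.1 (hcR hr)
        have h2 : r * g = g * r := h.commute (hR.1 hr) hg
        have h3 : Commute r e := by
          rw [he]
          exact ((Commute.mul_right h2 h1).mul_right (Commute.inv_right h2)).mul_right (Commute.inv_right h1)
        exact h3.eq
      · have hgi : g⁻¹ = g := inv_eq_of_mul_eq_one_right (h.sq g hg)
        simp only [he, mul_inv_rev, inv_inv, hgi, mul_assoc]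
        rw [← mul_assoc g g, h.sq g hg, one_mul]
    exact (hle hk).2
  -- the case of a large intersection
  have hbig : ∀ P ∈ CycQuot E, ∀ Q ∈ CycQuot E, P ⊓ Q ∈ CycQuot E →
      ∀ x ∈ X ⊓ Subgroup.centralizer (P : Set G), ∀ t ∈ Y ⊓ N Q, ⁅x, t⁆ ∈ M1 := by
    intro P hP Q hQ hU x hx t ht
    have hUE : P ⊓ Q ≤ E := inf_le_left.trans hP.1
    set d := ⁅x, t⁆ with hd
    have hdK : d ∈ M ⊓ N (P ⊓ Q) := by
      refine ⟨hXY (Subgroup.commutator_mem_commutator hx.1 ht.1), ?_⟩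
      have htU : t ∈ N (P ⊓ Q) := h.anti _ Q inf_le_right hQ.1 ht.2
      have hxn := h.norm _ hUE (Subgroup.centralizer_le (SetLike.coe_subset_coe.2 inf_le_left) hx.2)
      rw [hd, commutatorElement_def]
      exact Subgroup.mul_mem _ (Solv.conj_mem_of_mem_normalizer hxn htU) (Subgroup.inv_mem _ htU)
    have hK : E ≤ Subgroup.normalizer ((M ⊓ N (P ⊓ Q) : Subgroup G) : Set G) := fun g hg =>
      normalizer_inf_le (hM.2.2 hg) (h.invariant hUE hg)
    obtain ⟨c, hc, hcd⟩ := Solv.exists_fixed_in_coset' E (M ⊓ N (P ⊓ Q)) (M1 ⊓ (M ⊓ N (P ⊓ Q))) hK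
      (hcoM.coprime_dvd_right (Subgroup.card_dvd_of_le inf_le_left)) (Or.inl h.solvable) inf_le_right
      (fun g hg => normalizer_inf_le (hEn hg) (hK hg)) hdK (fun g hg => ⟨by
        have := Solv.conj_mem_of_mem_normalizer (hXn (hMX (M.inv_mem hdK.1))) (hfix P hP Q hQ d hdK g hg)
        rwa [show d⁻¹ * (g * d * g⁻¹ * d⁻¹) * d⁻¹⁻¹ = d⁻¹ * (g * d * g⁻¹) by group] at this,
        Subgroup.mul_mem _ (Subgroup.inv_mem _ hdK)
          (Solv.conj_mem_of_mem_normalizer (hK hg) hdK)⟩)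
    have hc1 : c ∈ M1 := hmem1 E (cyc_top E) c hc.1.1 (h.zero _ hU c hc.1.2 hc.2)
    have h5 := M1.mul_mem hc1 (M1.inv_mem hcd.1)
    rwa [mul_inv_rev, inv_inv, mul_inv_cancel_left] at h5
  -- all commutators with generators
  have hone : ∀ Q ∈ CycQuot E, ∀ t ∈ Y ⊓ N Q, ∀ x ∈ X, ⁅x, t⁆ ∈ M1 := by
    intro Q hQ t ht
    let F : Subgroup G :=
      { carrier := {x | x ∈ X ∧ ⁅x, t⁆ ∈ M1}
        one_mem' := ⟨X.one_mem, by simp⟩
        mul_mem' := fun {a b} ha hb => ⟨X.mul_mem ha.1 hb.1, by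
          have := M1.mul_mem (Solv.conj_mem_of_mem_normalizer (hXn ha.1) hb.2) ha.2
          simp only [commutatorElement_def] at this ⊢
          rwa [show a * (b * t * b⁻¹ * t⁻¹) * a⁻¹ * (a * t * a⁻¹ * t⁻¹) =
            a * b * t * (a * b)⁻¹ * t⁻¹ by group] at this⟩
        inv_mem' := fun {a} ha => ⟨X.inv_mem ha.1, by
          have := Solv.conj_mem_of_mem_normalizer (hXn (X.inv_mem ha.1)) (M1.inv_mem ha.2)
          simp only [commutatorElement_def] at this ⊢
          rwa [show a⁻¹ * (a * t * a⁻¹ * t⁻¹)⁻¹ * a⁻¹⁻¹ = a⁻¹ * t * a⁻¹⁻¹ * t⁻¹ by group] at this⟩ }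
    suffices X ≤ F from fun x hx => (this hx).2
    refine (Solv.gen_eq E X h.comm hX.2.2 hcoX).ge.trans (iSup₂_le fun P hP => ?_)
    by_cases hU : P ⊓ Q ∈ CycQuot E
    · exact fun x hx => ⟨hx.1, hbig P hP Q hQ hU x hx t ht⟩
    have hQP : ¬ Q ≤ P := fun hle => hU (by rwa [inf_eq_right.2 hle])
    obtain ⟨g, hgQ, hgP⟩ := SetLike.not_le_iff_exists.1 hQP
    have hgE : g ∈ E := hQ.1 hgQ
    have hPE : P ⊔ Subgroup.zpowers g = E :=
      (h.cyc_max hP le_sup_left (sup_le hP.1 (Subgroup.zpowers_le.2 hgE))).resolve_left fun e =>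
        hgP (e ▸ Subgroup.mem_sup_right (Subgroup.mem_zpowers g))
    have hK : Subgroup.zpowers g ≤
        Subgroup.normalizer ((X ⊓ Subgroup.centralizer (P : Set G) : Subgroup G) : Set G) := by
      refine Subgroup.zpowers_le.2 (normalizer_inf_le (hX.2.2 hgE) ?_)
      exact Subgroup.le_normalizer (h.le_centralizer hP.1 hgE)
    refine (Solv.commutator_sup_fixed hK ((hcoX.coprime_dvd_left
      (Subgroup.card_dvd_of_le (Subgroup.zpowers_le.2 hgE))).coprime_dvd_right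
        (Subgroup.card_dvd_of_le inf_le_left))
      (Or.inl (Solv.isSolvable_of_le (Subgroup.zpowers_le.2 hgE) h.solvable))).ge.trans
      (sup_le (Subgroup.commutator_le.2 fun k hk a ha => ?_) fun c hc => ⟨hc.1.1, ?_⟩)
    · obtain ⟨i, rfl⟩ := ha
      simp only
      rcases Int.even_or_odd i with ⟨j, rfl⟩ | ⟨j, rfl⟩
      · rw [← two_mul, zpow_mul, zpow_two, h.sq g hgE, one_zpow, commutatorElement_one_right]
        exact F.one_mem
      simp only [zpow_add, zpow_mul, zpow_two, zpow_one, h.sq g hgE, one_zpow, one_mul]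
      set x := ⁅k, g⁆ with hx
      have hgi : g⁻¹ = g := inv_eq_of_mul_eq_one_right (h.sq g hgE)
      have hxi : g * x * g⁻¹ = x⁻¹ := by
        simp only [hx, commutatorElement_def, mul_inv_rev, inv_inv, hgi, mul_assoc]
        rw [h.sq g hgE, mul_one]
      have hxC : x ∈ X ⊓ Subgroup.centralizer (P : Set G) := by
        rw [hx, commutatorElement_def]
        have h1 := Solv.conj_mem_of_mem_normalizer (hK (Subgroup.mem_zpowers g)) (Subgroup.inv_mem _ hk)
        have h2 := Subgroup.mul_mem _ hk h1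
        rwa [show k * (g * k⁻¹ * g⁻¹) = k * g * k⁻¹ * g⁻¹ by group] at h2
      refine ⟨hxC.1, ?_⟩
      set d := ⁅x, t⁆ with hd
      have hdK : d ∈ M ⊓ N (P ⊓ Q) := by
        refine ⟨hXY (Subgroup.commutator_mem_commutator hxC.1 ht.1), ?_⟩
        have htU : t ∈ N (P ⊓ Q) := h.anti _ Q inf_le_right hQ.1 ht.2
        have hxn := h.norm (P ⊓ Q) (inf_le_left.trans hP.1)
          (Subgroup.centralizer_le (SetLike.coe_subset_coe.2 inf_le_left) hxC.2)
        rw [hd, commutatorElement_def]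
        exact Subgroup.mul_mem _ (Solv.conj_mem_of_mem_normalizer hxn htU) (Subgroup.inv_mem _ htU)
      have hgt : g * t * g⁻¹ = t := by
        rw [Subgroup.mem_centralizer_iff.1 (h.cent Q hQ.1 ht.2) g hgQ, mul_inv_cancel_right]
      have h1 : g * d * g⁻¹ = x⁻¹ * d⁻¹ * x := by
        calc g * d * g⁻¹ = ⁅g * x * g⁻¹, g * t * g⁻¹⁆ := by
              simp only [hd, commutatorElement_def]; group
          _ = x⁻¹ * d⁻¹ * x := by
              rw [hxi, hgt]; simp only [hd, commutatorElement_def]; group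
      have h2 := hfix P hP Q hQ d hdK g hgE
      rw [h1] at h2
      have h3 : ⁅x⁻¹, d⁻¹⁆ ∈ M1 :=
        h01 (hXM (Subgroup.commutator_mem_commutator (X.inv_mem hxC.1) (M.inv_mem hdK.1)))
      have h4 := M1.mul_mem (M1.inv_mem h2) h3
      refine mem_of_sq_mem (odd_orderOf_of_mem hY (hM.1 hdK.1)) ?_
      rwa [commutatorElement_def, show (x⁻¹ * d⁻¹ * x * d⁻¹)⁻¹ * (x⁻¹ * d⁻¹ * x⁻¹⁻¹ * d⁻¹⁻¹) = d * d
        by group] at h4
    · refine hbig E (cyc_top E) Q hQ (by rwa [inf_eq_right.2 hQ.1]) c ⟨hc.1.1, ?_⟩ t ht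
      show c ∈ Subgroup.centralizer (E : Set G)
      rw [Subgroup.mem_centralizer_iff]
      have hle : E ≤ Subgroup.centralizer ({c} : Set G) := hPE ▸ sup_le
        (fun r hr => Subgroup.mem_centralizer_singleton_iff.2 (Subgroup.mem_centralizer_iff.1 hc.1.2 r hr))
        (Subgroup.zpowers_le.2 (Subgroup.mem_centralizer_singleton_iff.2
          (Subgroup.mem_centralizer_iff.1 hc.2 g (Subgroup.mem_zpowers g))))
      exact fun y hy => Subgroup.mem_centralizer_singleton_iff.1 (hle hy)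
  -- extension to `Y`
  let T : Subgroup G :=
    { carrier := {t | t ∈ Subgroup.normalizer (M1 : Set G) ∧ ∀ x ∈ X, ⁅x, t⁆ ∈ M1}
      one_mem' := ⟨Subgroup.one_mem _, fun x _ => by simp⟩
      mul_mem' := fun {a b} ha hb => ⟨Subgroup.mul_mem _ ha.1 hb.1, fun x hx => by
        have := M1.mul_mem (ha.2 x hx) (Solv.conj_mem_of_mem_normalizer ha.1 (hb.2 x hx))
        simp only [commutatorElement_def] at this ⊢
        rwa [show x * a * x⁻¹ * a⁻¹ * (a * (x * b * x⁻¹ * b⁻¹) * a⁻¹) =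
          x * (a * b) * x⁻¹ * (a * b)⁻¹ by group] at this⟩
      inv_mem' := fun {a} ha => ⟨Subgroup.inv_mem _ ha.1, fun x hx => by
        have := Solv.conj_mem_of_mem_normalizer (Subgroup.inv_mem _ ha.1) (M1.inv_mem (ha.2 x hx))
        simp only [commutatorElement_def] at this ⊢
        rwa [show a⁻¹ * (x * a * x⁻¹ * a⁻¹)⁻¹ * a⁻¹⁻¹ = x * a⁻¹ * x⁻¹ * a⁻¹⁻¹ by group] at this⟩ }
  have hT : Y ≤ T := hYgen.trans (iSup₂_le fun Q hQ t ht => ⟨by
    refine mem_normalizer_of_cj_le fun y hy => ?_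
    rw [mem_cj] at hy
    have h1 := hone Q hQ t ht _ (hMX (hM1M (M1.inv_mem hy)))
    have h2 := M1.mul_mem hy h1
    rwa [commutatorElement_def, show t⁻¹ * y * t * ((t⁻¹ * y * t)⁻¹ * t * (t⁻¹ * y * t)⁻¹⁻¹ * t⁻¹) = y
      by group] at h2, hone Q hQ t ht⟩)
  exact ⟨⟨hM1M.trans hM.1, fun t ht => (hT ht).1, hEn⟩,
    Subgroup.commutator_le.2 fun x hx t ht => (hT ht).2 x hx⟩

end Cfsg.Agent.StrongProd
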