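import Cfsg.Prelude.Def_Local
import Cfsg.Prelude.Def_TwoFusion
import Cfsg.Prelude.Def_CaseTheorems
import Cfsg.Agent.Lib.Solv.Coprime
import Cfsg.Agent.Lib.Fusion.LocalBalance
import Cfsg.Agent.Lib.Fusion.Involutions
import Cfsg.Agent.Lib.Fusion.Product.Gen

/-!
Local consequences of the product theorem in proper subgroups.
-/

set_option autoImplicit false
set_option linter.style.haveILetI false
set_option linter.unusedSectionVars false

open scoped commutatorElement

namespace Cfsg.Agent.StrongProd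

open Cfsg.Agent.Fusion (cj mem_cj mem_normalizer_of_cj_le cj_eq_self)

universe u

/-- The product theorem for one group. -/
def ProdThm (G : Type u) [Group G] : Prop :=
  ∀ (S : Sylow 2 G) (A B : Subgroup G), Cfsg.IsStronglyClosed A (S : Subgroup G) →
    Cfsg.IsStronglyClosed B (S : Subgroup G) → A ⊓ B = ⊥ →
    ⁅Subgroup.normalClosure (A : Set G), Subgroup.normalClosure (B : Set G)⁆ ≤ Cfsg.oddCore G

section Abstract

variable {X : Type u} [Group X] [Finite X]

theorem oddCore_normal (X : Type u) [Group X] : (Cfsg.oddCore X).Normal := Solv.pPrimeCore_normal 2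

theorem oddCore_odd (X : Type u) [Group X] [Finite X] : Odd (Nat.card (Cfsg.oddCore X)) :=
  Nat.coprime_two_right.1 (Fusion.card_pPrimeCore_coprime 2 X)

theorem zpowers_commute {x y a : X} (hx : x ∈ Subgroup.zpowers a) (hy : y ∈ Subgroup.zpowers a) :
    x * y = y * x := by
  obtain ⟨i, rfl⟩ := hx
  obtain ⟨j, rfl⟩ := hy
  exact ((Commute.refl a).zpow_zpow i j).eq

theorem isPGroup_pair {a b : X} (ha : a * a = 1) (hb : b * b = 1) (hab : a * b = b * a) :
    IsPGroup 2 (Subgroup.closure ({a, b} : Set X)) := by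
  have key : Subgroup.closure ({a, b} : Set X) ≤ Subgroup.centralizer ({a, b} : Set X) := by
    rw [Subgroup.closure_le]
    rintro x (rfl | rfl) <;> rw [SetLike.mem_coe, Subgroup.mem_centralizer_iff] <;>
      rintro y (rfl | rfl) <;> simp [hab]
  rintro ⟨w, hw⟩
  refine ⟨1, Subtype.ext ?_⟩
  show w ^ 2 ^ 1 = 1
  rw [pow_one]
  induction hw using Subgroup.closure_induction with
  | mem x hx => rcases hx with rfl | rfl <;> rw [pow_two] <;> assumption
  | one => exact one_pow _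
  | mul x y hx hy ihx ihy =>
    have h1 : Commute x y := by
      have h2 := key hy
      clear ihx
      induction hx using Subgroup.closure_induction with
      | mem x hx => exact (Subgroup.mem_centralizer_iff.1 h2 x hx)
      | one => exact Commute.one_left _
      | mul x z _ _ i j => exact i.mul_left j
      | inv x _ i => exact i.inv_left
    rw [h1.mul_pow, ihx, ihy, one_mul]
  | inv x _ ih => rw [inv_pow, ih, inv_one]

theorem invol_of_mul_self {a : X} (h1 : a ≠ 1) (h : a * a = 1) : orderOf a = 2 :=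
  orderOf_eq_prime (by rw [pow_two]; exact h) h1

/-- An odd subgroup normalised by the centraliser of an involution meets a normal subgroup
centralised by it modulo the core inside the core. -/
theorem core_meet {a : X} (ha : a * a = 1) {K D : Subgroup X} [K.Normal]
    (hK : ∀ k ∈ K, ⁅a, k⁆ ∈ Cfsg.oddCore X) (hD : Odd (Nat.card D))
    (hDn : Subgroup.centralizer ({a} : Set X) ≤ Subgroup.normalizer (D : Set X)) :
    K ⊓ D ≤ Cfsg.oddCore X := by
  haveI := oddCore_normal X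
  set O := Cfsg.oddCore X
  set Z := (K ⊓ D) ⊔ O with hZ
  have hA : IsPGroup 2 (Subgroup.zpowers a) := by
    rintro ⟨_, i, rfl⟩
    refine ⟨1, Subtype.ext ?_⟩
    show (a ^ i) ^ 2 ^ 1 = 1
    rw [pow_one, ← zpow_natCast, ← zpow_mul, mul_comm, zpow_mul, zpow_natCast, pow_two, ha, one_zpow]
  haveI : Fact (Nat.Prime 2) := ⟨Nat.prime_two⟩
  have hco : (Nat.card (Subgroup.zpowers a)).Coprime (Nat.card O) := by
    obtain ⟨k, hk⟩ := IsPGroup.iff_card.1 hA
    rw [hk]
    exact (Nat.coprime_two_left.2 (oddCore_odd X)).pow_left _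
  have hKZ : K ≤ Subgroup.normalizer (Z : Set X) := by
    intro k hk
    obtain ⟨o, ho, hn⟩ := Solv.exists_fixed_in_coset (Subgroup.zpowers a) O
      (by rw [Subgroup.normalizer_eq_top]; exact le_top) hco
      (Or.inl (Group.isSolvable_of_comm fun s t => Subtype.ext (zpowers_commute s.2 t.2))) (x := k) (fun b hb => by
        obtain ⟨i, rfl⟩ := hb
        simp only
        rcases Int.even_or_odd i with ⟨j, rfl⟩ | ⟨j, rfl⟩
        · rw [← two_mul, zpow_mul, zpow_two, ha, one_zpow]; simp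
        simp only [zpow_add, zpow_mul, zpow_two, zpow_one, ha, one_zpow, one_mul]
        have h1 := (oddCore_normal X).conj_mem _ (hK k hk) k⁻¹
        rwa [commutatorElement_def, inv_inv, show k⁻¹ * (a * k * a⁻¹ * k⁻¹) * k = k⁻¹ * (a * k * a⁻¹)
          by group] at h1)
    have hc : k * o ∈ Subgroup.centralizer ({a} : Set X) := by
      rw [Subgroup.mem_centralizer_singleton_iff]
      obtain ⟨i, hi⟩ := (Subgroup.mem_normalizer_iff.1 hn a).1 (Subgroup.mem_zpowers a)
      simp only at hi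
      rcases Int.even_or_odd i with ⟨j, rfl⟩ | ⟨j, rfl⟩
      · rw [← two_mul, zpow_mul, zpow_two, ha, one_zpow] at hi
        have ha1 : a = 1 := by
          have := conj_eq_one_iff.1 hi.symm
          exact this
        rw [ha1]; simp
      simp only [zpow_add, zpow_mul, zpow_two, zpow_one, ha, one_zpow, one_mul] at hi
      calc k * o * a = k * o * a * (k * o)⁻¹ * (k * o) := by group
        _ = a * (k * o) := by rw [← hi]
    have hoZ : o ∈ Subgroup.normalizer (Z : Set X) := Subgroup.le_normalizer (Subgroup.mem_sup_right ho)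
    have hcZ : k * o ∈ Subgroup.normalizer (Z : Set X) := by
      refine mem_normalizer_of_cj_le ?_
      rw [hZ, Fusion.cj_sup, Fusion.cj_inf, Fusion.cj_of_normal K, cj_eq_self (hDn hc), Fusion.cj_of_normal O]
    have := Subgroup.mul_mem _ hcZ (Subgroup.inv_mem _ hoZ)
    rwa [mul_inv_cancel_right] at this
  have hZodd : Odd (Nat.card Z) := by
    have h1 : Odd (Nat.card O * Nat.card (K ⊓ D : Subgroup X)) :=
      (oddCore_odd X).mul (hD.of_dvd_nat (Subgroup.card_dvd_of_le inf_le_right))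
    refine h1.of_dvd_nat ?_
    rw [hZ, mul_comm (Nat.card O)]
    exact Fusion.card_sup_dvd O (K ⊓ D)
  set ZK := Z ⊓ K
  haveI : (ZK.subgroupOf K).Normal := Subgroup.normal_subgroupOf_of_le_normalizer fun k hk =>
    normalizer_inf_le (hKZ hk) (Subgroup.le_normalizer hk)
  have hle : ZK ≤ (Cfsg.pPrimeCore 2 K).map K.subtype := by
    rw [← Subgroup.map_subgroupOf_eq_of_le (show ZK ≤ K from inf_le_right)]
    refine Subgroup.map_mono (Fusion.le_pPrimeCore (Nat.coprime_two_right.2 ?_))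
    rw [← Solv.card_map_subtype, Subgroup.map_subgroupOf_eq_of_le inf_le_right]
    exact hZodd.of_dvd_nat (Subgroup.card_dvd_of_le inf_le_left)
  have hmapn : ((Cfsg.pPrimeCore 2 K).map K.subtype).Normal := by
    rw [← Subgroup.normalizer_eq_top_iff]
    refine top_le_iff.1 (le_trans ?_ (LocBal.normalizer_le_map_core K))
    rw [Subgroup.normalizer_eq_top]
  refine le_trans ?_ (hle.trans (Fusion.le_pPrimeCore (by
    rw [Solv.card_map_subtype]; exact Fusion.card_pPrimeCore_coprime 2 _)))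
  exact le_inf le_sup_left inf_le_left

variable {a b : X} {P Q : Subgroup X} [P.Normal] [Q.Normal]
  (hPQ : ∀ p ∈ P, ∀ q ∈ Q, ⁅p, q⁆ ∈ Cfsg.oddCore X)

include hPQ in
theorem comm_swap : ∀ q ∈ Q, ∀ p ∈ P, ⁅q, p⁆ ∈ Cfsg.oddCore X := fun q hq p hp => by
  rw [← commutatorElement_inv]; exact Subgroup.inv_mem _ (hPQ p hp q hq)

theorem mem_of_inverted {b d : X} {Q : Subgroup X} [hQ : Q.Normal] (hb : b ∈ Q)
    (hd : b * d * b⁻¹ = d⁻¹) (hodd : Odd (orderOf d)) : d ∈ Q := by
  refine mem_of_sq_mem hodd ?_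
  have h1 := Q.mul_mem hb (hQ.conj_mem _ (Q.inv_mem hb) d)
  have h2 : b * (d * b⁻¹ * d⁻¹) = d⁻¹ * d⁻¹ := by
    calc b * (d * b⁻¹ * d⁻¹) = (b * d * b⁻¹) * d⁻¹ := by group
      _ = d⁻¹ * d⁻¹ := by rw [hd]
  rw [h2] at h1
  have h3 := Q.inv_mem h1
  have e : (d⁻¹ * d⁻¹)⁻¹ = d * d := by rw [mul_inv_rev, inv_inv]
  rwa [e] at h3

include hPQ in
theorem core_of_inverted (ha : a ∈ P) (hb : b ∈ Q) {d : X} (hda : a * d * a⁻¹ = d⁻¹)
    (hdb : b * d * b⁻¹ = d⁻¹) (hodd : Odd (orderOf d)) : d ∈ Cfsg.oddCore X := by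
  have hd := mem_of_inverted hb hdb hodd
  refine mem_of_sq_mem hodd ?_
  have h1 := Subgroup.inv_mem _ (hPQ a ha d hd)
  rw [commutatorElement_def, hda] at h1
  have e : (d⁻¹ * d⁻¹)⁻¹ = d * d := by rw [mul_inv_rev, inv_inv]
  rwa [e] at h1

include hPQ in
theorem core_of_inverted_meet (ha : a ∈ P) (ha2 : a * a = 1) (hb : b ∈ Q) {D : Subgroup X}
    (hD : Odd (Nat.card D))
    (hDn : Subgroup.centralizer ({a} : Set X) ≤ Subgroup.normalizer (D : Set X))
    {d : X} (hd : d ∈ D) (hdb : b * d * b⁻¹ = d⁻¹) : d ∈ Cfsg.oddCore X :=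
  core_meet ha2 (fun q hq => hPQ a ha q hq) hD hDn
    ⟨mem_of_inverted hb hdb (hD.of_dvd_nat (Subgroup.orderOf_dvd_natCard _ hd)), hd⟩

omit [Finite X] in
theorem comm_mul_right {x y z : X} {O : Subgroup X} [hO : O.Normal] (h1 : ⁅x, y⁆ ∈ O) (h2 : ⁅x, z⁆ ∈ O) :
    ⁅x, y * z⁆ ∈ O := by
  have := O.mul_mem h1 (hO.conj_mem _ h2 y)
  simp only [commutatorElement_def] at this ⊢
  rwa [show x * y * x⁻¹ * y⁻¹ * (y * (x * z * x⁻¹ * z⁻¹) * y⁻¹) = x * (y * z) * x⁻¹ * (y * z)⁻¹ by group]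
    at this

theorem commutes_mod {b : X} (hb2 : b * b = 1) (P : Subgroup X) [P.Normal]
    (hbP : ∀ p ∈ P, ⁅b, p⁆ ∈ Cfsg.oddCore X) {D : Subgroup X} (hD : Odd (Nat.card D))
    (hDn : Subgroup.centralizer ({b} : Set X) ≤ Subgroup.normalizer (D : Set X))
    {d : X} (hd : d ∈ D) : ∀ p ∈ P, ⁅d, p⁆ ∈ Cfsg.oddCore X := by
  haveI := oddCore_normal X
  set O := Cfsg.oddCore X with hO
  intro p hp
  set P' := P ⊔ O with hP'
  have hbP' : ∀ k ∈ P', ⁅b, k⁆ ∈ O := by
    intro k hk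
    rw [hP', Subgroup.mem_sup_of_normal_right] at hk
    obtain ⟨y, hy, z, hz, rfl⟩ := hk
    refine comm_mul_right (hbP y hy) ?_
    rw [commutatorElement_def]
    exact O.mul_mem ((oddCore_normal X).conj_mem _ hz b) (O.inv_mem hz)
  haveI : Fact (Nat.Prime 2) := ⟨Nat.prime_two⟩
  have hA : IsPGroup 2 (Subgroup.zpowers b) := by
    rintro ⟨_, i, rfl⟩
    refine ⟨1, Subtype.ext ?_⟩
    show (b ^ i) ^ 2 ^ 1 = 1
    rw [pow_one, ← zpow_natCast, ← zpow_mul, mul_comm, zpow_mul, zpow_natCast, pow_two, hb2, one_zpow]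
  have hco : (Nat.card (Subgroup.zpowers b)).Coprime (Nat.card O) := by
    obtain ⟨k, hk⟩ := IsPGroup.iff_card.1 hA
    rw [hk]
    exact (Nat.coprime_two_left.2 (oddCore_odd X)).pow_left _
  obtain ⟨o, ho, hn⟩ := Solv.exists_fixed_in_coset (Subgroup.zpowers b) O
    (by rw [Subgroup.normalizer_eq_top]; exact le_top) hco
    (Or.inl (Group.isSolvable_of_comm fun s t => Subtype.ext (zpowers_commute s.2 t.2))) (x := p) (fun c hc => by
      obtain ⟨i, rfl⟩ := hc
      simp only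
      rcases Int.even_or_odd i with ⟨j, rfl⟩ | ⟨j, rfl⟩
      · rw [← two_mul, zpow_mul, zpow_two, hb2, one_zpow]; simp
      simp only [zpow_add, zpow_mul, zpow_two, zpow_one, hb2, one_zpow, one_mul]
      have h1 := (oddCore_normal X).conj_mem _ (hbP p hp) p⁻¹
      rwa [commutatorElement_def, inv_inv, show p⁻¹ * (b * p * b⁻¹ * p⁻¹) * p = p⁻¹ * (b * p * b⁻¹)
        by group] at h1)
  have hc : p * o ∈ Subgroup.centralizer ({b} : Set X) := by
    rw [Subgroup.mem_centralizer_singleton_iff]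
    obtain ⟨i, hi⟩ := (Subgroup.mem_normalizer_iff.1 hn b).1 (Subgroup.mem_zpowers b)
    simp only at hi
    rcases Int.even_or_odd i with ⟨j, rfl⟩ | ⟨j, rfl⟩
    · rw [← two_mul, zpow_mul, zpow_two, hb2, one_zpow] at hi
      rw [conj_eq_one_iff.1 hi.symm]; simp
    simp only [zpow_add, zpow_mul, zpow_two, zpow_one, hb2, one_zpow, one_mul] at hi
    calc p * o * b = p * o * b * (p * o)⁻¹ * (p * o) := by group
      _ = b * (p * o) := by rw [← hi]
  have hcP : p * o ∈ P' := Subgroup.mul_mem _ (Subgroup.mem_sup_left hp) (Subgroup.mem_sup_right ho)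
  have h1 : ⁅d, p * o⁆ ∈ O := by
    refine core_meet hb2 hbP' hD hDn ⟨?_, ?_⟩ (K := P')
    · rw [commutatorElement_def]
      exact Subgroup.mul_mem _ ((inferInstance : P'.Normal).conj_mem _ hcP d) (Subgroup.inv_mem _ hcP)
    · rw [commutatorElement_def]
      have h2 := Subgroup.mul_mem _ hd
        (Solv.conj_mem_of_mem_normalizer (hDn hc) (D.inv_mem hd))
      rwa [show d * (p * o * d⁻¹ * (p * o)⁻¹) = d * (p * o) * d⁻¹ * (p * o)⁻¹ by group] at h2
  have h2 : ⁅d, o⁻¹⁆ ∈ O := by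
    rw [commutatorElement_def, inv_inv]
    exact O.mul_mem ((oddCore_normal X).conj_mem _ (O.inv_mem ho) d) ho
  have := comm_mul_right h1 h2
  rwa [mul_inv_cancel_right] at this

include hPQ in
theorem core_of_both (ha : a ∈ P) (ha2 : a * a = 1) (hb : b ∈ Q) (hb2 : b * b = 1)
    {Da Db : Subgroup X} (hDa : Odd (Nat.card Da)) (hDb : Odd (Nat.card Db))
    (hna : Subgroup.centralizer ({a} : Set X) ≤ Subgroup.normalizer (Da : Set X))
    (hnb : Subgroup.centralizer ({b} : Set X) ≤ Subgroup.normalizer (Db : Set X))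
    {d : X} (hda : d ∈ Da) (hdb : d ∈ Db) : d ∈ Cfsg.oddCore X := by
  haveI := oddCore_normal X
  have hdP := commutes_mod hb2 P (fun p hp => comm_swap hPQ b hb p hp) hDb hnb hdb
  have hdQ := commutes_mod ha2 Q (fun q hq => hPQ a ha q hq) hDa hna hda
  set π := QuotientGroup.mk' (Cfsg.oddCore X) with hπ
  have hc : ∀ x y : X, ⁅x, y⁆ ∈ Cfsg.oddCore X ↔ π x * π y = π y * π x := fun x y => by
    rw [← commutatorElement_eq_one_iff_mul_comm, ← map_commutatorElement]
    exact (QuotientGroup.eq_one_iff _).symm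
  haveI : ((P ⊔ Q).map π).Normal :=
    (inferInstance : (P ⊔ Q).Normal).map π (QuotientGroup.mk'_surjective _)
  set K := (Subgroup.centralizer (((P ⊔ Q).map π : Subgroup _) : Set _)).comap π with hK
  have hdK : d ∈ K := by
    rw [hK, Subgroup.mem_comap]
    have hle : (P ⊔ Q).map π ≤ Subgroup.centralizer ({π d} : Set _) := by
      rw [Subgroup.map_le_iff_le_comap, sup_le_iff]
      constructor <;> intro x hx <;> rw [Subgroup.mem_comap, Subgroup.mem_centralizer_singleton_iff]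
      · exact ((hc d x).1 (hdP x hx)).symm
      · exact ((hc d x).1 (hdQ x hx)).symm
    rw [Subgroup.mem_centralizer_iff]
    exact fun y hy => Subgroup.mem_centralizer_singleton_iff.1 (hle hy)
  refine core_meet hb2 (K := K) (fun k hk => (hc b k).2 ?_) hDb hnb ⟨hdK, hdb⟩
  exact Subgroup.mem_centralizer_iff.1 hk _ ⟨b, Subgroup.mem_sup_right hb, rfl⟩

end Abstract

variable (G : Type u) [Group G]

/-- A minimal simple configuration. -/
structure Ctx [Finite G] where
  S : Sylow 2 G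
  A : Subgroup G
  B : Subgroup G
  scA : Cfsg.IsStronglyClosed A (S : Subgroup G)
  scB : Cfsg.IsStronglyClosed B (S : Subgroup G)
  disj : A ⊓ B = ⊥
  simple : IsSimpleGroup G
  noncomm : ¬ IsMulCommutative G
  below : ∀ H : Subgroup G, H ≠ ⊤ → ProdThm H

variable {G} [Finite G]

namespace Ctx

/-- The symmetric configuration. -/
def swap (c : Ctx G) : Ctx G :=
  ⟨c.S, c.B, c.A, c.scB, c.scA, by rw [inf_comm]; exact c.disj, c.simple, c.noncomm, c.below⟩

variable (c : Ctx G)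

/-- Conjugate to an element of `A`. -/
def IsA (x : G) : Prop := ∃ g : G, g * x * g⁻¹ ∈ c.A

/-- Conjugate to an element of `B`. -/
def IsB (x : G) : Prop := ∃ g : G, g * x * g⁻¹ ∈ c.B

theorem mem_cj_A {x g : G} (hx : c.IsA x) (hg : x ∈ cj (c.S : Subgroup G) g) : x ∈ cj c.A g := by
  obtain ⟨h, hh⟩ := hx
  rw [mem_cj] at hg ⊢
  have := c.scA.2 _ hh (g⁻¹ * h⁻¹) (by
    rwa [show g⁻¹ * h⁻¹ * (h * x * h⁻¹) * (g⁻¹ * h⁻¹)⁻¹ = g⁻¹ * x * g by group])
  rwa [show g⁻¹ * h⁻¹ * (h * x * h⁻¹) * (g⁻¹ * h⁻¹)⁻¹ = g⁻¹ * x * g by group] at this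

theorem mem_cj_B {x g : G} (hx : c.IsB x) (hg : x ∈ cj (c.S : Subgroup G) g) : x ∈ cj c.B g :=
  c.swap.mem_cj_A hx hg

theorem eq_one_of_both {x : G} (hA : c.IsA x) (hB : c.IsB x) : x = 1 := by
  obtain ⟨h, hh⟩ := hA
  obtain ⟨g, hg⟩ := hB
  have h1 : h * x * h⁻¹ ∈ c.B := by
    have := c.scB.2 _ hg (h * g⁻¹) (by
      rw [show h * g⁻¹ * (g * x * g⁻¹) * (h * g⁻¹)⁻¹ = h * x * h⁻¹ by group]; exact c.scA.1 hh)
    rwa [show h * g⁻¹ * (g * x * g⁻¹) * (h * g⁻¹)⁻¹ = h * x * h⁻¹ by group] at this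
  have h2 : h * x * h⁻¹ ∈ c.A ⊓ c.B := ⟨hh, h1⟩
  rw [c.disj, Subgroup.mem_bot] at h2
  exact conj_eq_one_iff.1 h2

include c in
theorem centralizer_ne_top {w : G} (hw : w ≠ 1) : Subgroup.centralizer ({w} : Set G) ≠ ⊤ := by
  intro h
  haveI := c.simple
  have hz : w ∈ Subgroup.center G := Subgroup.mem_center_iff.2 fun g =>
    Subgroup.mem_centralizer_singleton_iff.1 (h.symm ▸ Subgroup.mem_top g)
  rcases (inferInstance : (Subgroup.center G).Normal).eq_bot_or_eq_top with h1 | h1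
  · exact hw (Subgroup.mem_bot.1 (h1 ▸ hz))
  · exact c.noncomm ⟨⟨fun x y => (Subgroup.mem_center_iff.1 (h1 ▸ Subgroup.mem_top x) y).symm⟩⟩

/-- The odd core of the centraliser. -/
abbrev O (x : G) : Subgroup G := Cfsg.centralizerPPrimeCore 2 x

/-- The product theorem in the centraliser of `w`. -/
theorem local_pair {w a b : G} (hw : w ≠ 1) (ha : c.IsA a) (hb : c.IsB b)
    (haw : a * w = w * a) (hbw : b * w = w * b) (hab : a * b = b * a)
    (ha2 : a * a = 1) (hb2 : b * b = 1) :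
    ∃ (P Q : Subgroup (Subgroup.centralizer ({w} : Set G))), P.Normal ∧ Q.Normal ∧
      (⟨a, Subgroup.mem_centralizer_singleton_iff.2 haw⟩ : Subgroup.centralizer ({w} : Set G)) ∈ P ∧
      (⟨b, Subgroup.mem_centralizer_singleton_iff.2 hbw⟩ : Subgroup.centralizer ({w} : Set G)) ∈ Q ∧
      ∀ p ∈ P, ∀ q ∈ Q, ⁅p, q⁆ ∈ Cfsg.oddCore (Subgroup.centralizer ({w} : Set G)) := by
  haveI : Fact (Nat.Prime 2) := ⟨Nat.prime_two⟩
  set X := Subgroup.centralizer ({w} : Set G) with hX
  set a' : X := ⟨a, Subgroup.mem_centralizer_singleton_iff.2 haw⟩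
  set b' : X := ⟨b, Subgroup.mem_centralizer_singleton_iff.2 hbw⟩
  set F : Subgroup X := Subgroup.closure {a', b'} with hFdef
  have hF : IsPGroup 2 F := by
    rw [hFdef]
    exact isPGroup_pair (Subtype.ext ha2) (Subtype.ext hb2) (Subtype.ext hab)
  obtain ⟨R, hR⟩ := hF.exists_le_sylow
  obtain ⟨T, hT⟩ := (R.2.map X.subtype).exists_le_sylow
  obtain ⟨g, hg⟩ := MulAction.exists_smul_eq G c.S T
  have hTg : (T : Subgroup G) = cj (c.S : Subgroup G) g := by rw [← hg]; rfl
  set A' := (cj c.A g).subgroupOf X ⊓ (R : Subgroup X)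
  set B' := (cj c.B g).subgroupOf X ⊓ (R : Subgroup X)
  have hsc : ∀ D : Subgroup G, Cfsg.IsStronglyClosed D (c.S : Subgroup G) →
      Cfsg.IsStronglyClosed ((cj D g).subgroupOf X ⊓ (R : Subgroup X)) (R : Subgroup X) := by
    refine fun D hD => ⟨inf_le_right, fun x hx h hh => ⟨?_, hh⟩⟩
    show ((h * x * h⁻¹ : X) : G) ∈ cj D g
    rw [mem_cj]
    have h1 : g⁻¹ * (x : G) * g ∈ D := mem_cj.1 hx.1
    have h2 : ((h * x * h⁻¹ : X) : G) ∈ (T : Subgroup G) := hT ⟨_, hh, rfl⟩
    rw [hTg, mem_cj] at h2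
    have h3 := hD.2 _ h1 (g⁻¹ * (h : G) * g)
    rw [show g⁻¹ * (h : G) * g * (g⁻¹ * (x : G) * g) * (g⁻¹ * (h : G) * g)⁻¹ =
      g⁻¹ * ((h * x * h⁻¹ : X) : G) * g by simp [mul_assoc]] at h3
    exact h3 h2
  have hdisj : A' ⊓ B' = ⊥ := by
    rw [eq_bot_iff]
    intro x hx
    have h1 : g⁻¹ * (x : G) * g ∈ c.A ⊓ c.B := ⟨mem_cj.1 hx.1.1, mem_cj.1 hx.2.1⟩
    rw [c.disj, Subgroup.mem_bot] at h1
    rw [Subgroup.mem_bot]
    refine Subtype.ext ?_
    calc (x : G) = g * (g⁻¹ * (x : G) * g) * g⁻¹ := by group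
      _ = 1 := by rw [h1]; group
  have hinT : ∀ x : X, x ∈ F → (x : G) ∈ cj (c.S : Subgroup G) g := fun x hx =>
    hTg ▸ hT ⟨x, hR hx, rfl⟩
  have hprod := c.below X (c.centralizer_ne_top hw) R A' B' (hsc _ c.scA) (hsc _ c.scB) hdisj
  refine ⟨Subgroup.normalClosure (A' : Set X), Subgroup.normalClosure (B' : Set X),
    Subgroup.normalClosure_normal, Subgroup.normalClosure_normal, ?_, ?_, fun p hp q hq =>
    hprod (Subgroup.commutator_mem_commutator hp hq)⟩
  · have hF' : a' ∈ F := Subgroup.subset_closure (Or.inl rfl)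
    exact Subgroup.subset_normalClosure ⟨c.mem_cj_A ha (hinT a' hF'), hR hF'⟩
  · have hF' : b' ∈ F := Subgroup.subset_closure (Or.inr rfl)
    exact Subgroup.subset_normalClosure ⟨c.mem_cj_B hb (hinT b' hF'), hR hF'⟩

theorem O_le (x : G) : O x ≤ Subgroup.centralizer ({x} : Set G) := LocBal.core_le_centralizer x

theorem O_odd (x : G) : Odd (Nat.card (O x)) := Nat.coprime_two_right.1 (LocBal.core_coprime (p := 2) x)

theorem O_normalized (x : G) : Subgroup.centralizer ({x} : Set G) ≤ Subgroup.normalizer (O x : Set G) :=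
  LocBal.centralizer_le_normalizer_core x

theorem O_subgroupOf_normalized (x : G) (X : Subgroup G) (x' : X) (hx' : (x' : G) = x) :
    Subgroup.centralizer ({x'} : Set X) ≤ Subgroup.normalizer (((O x).subgroupOf X : Subgroup X) : Set X) := by
  intro y hy
  refine mem_normalizer_of_cj_le fun z hz => ?_
  rw [mem_cj, Subgroup.mem_subgroupOf] at hz
  rw [Subgroup.mem_subgroupOf]
  have hy' : (y : G) ∈ Subgroup.centralizer ({x} : Set G) := by
    rw [Subgroup.mem_centralizer_singleton_iff] at hy ⊢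
    rw [← hx']
    exact congrArg Subtype.val hy
  have := Solv.conj_mem_of_mem_normalizer (O_normalized x hy') hz
  simpa [mul_assoc] using this

theorem O_subgroupOf_odd (x : G) (X : Subgroup G) : Odd (Nat.card ((O x).subgroupOf X)) := by
  refine (O_odd x).of_dvd_nat ?_
  rw [← Solv.card_map_subtype]
  exact Subgroup.card_dvd_of_le (Subgroup.map_comap_le _ _)

/-- Odd elements inverted by both lie in the core. -/
theorem local_inverted {w a b d : G} (hw : w ≠ 1) (ha : c.IsA a) (hb : c.IsB b)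
    (haw : a * w = w * a) (hbw : b * w = w * b) (hab : a * b = b * a)
    (ha2 : a * a = 1) (hb2 : b * b = 1) (hdw : d * w = w * d)
    (hda : a * d * a⁻¹ = d⁻¹) (hdb : b * d * b⁻¹ = d⁻¹) (hodd : Odd (orderOf d)) : d ∈ O w := by
  obtain ⟨P, Q, _, _, haP, hbQ, hPQ⟩ := c.local_pair hw ha hb haw hbw hab ha2 hb2
  let d' : Subgroup.centralizer ({w} : Set G) := ⟨d, Subgroup.mem_centralizer_singleton_iff.2 hdw⟩
  exact ⟨d', core_of_inverted hPQ haP hbQ (d := d') (Subtype.ext hda) (Subtype.ext hdb)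
    (by rwa [← Subgroup.orderOf_coe]), rfl⟩

/-- Elements of the core of `a` inverted by `b` lie in the core. -/
theorem local_inverted_B {w a b d : G} (hw : w ≠ 1) (ha : c.IsA a) (hb : c.IsB b)
    (haw : a * w = w * a) (hbw : b * w = w * b) (hab : a * b = b * a)
    (ha2 : a * a = 1) (hb2 : b * b = 1) (hdw : d * w = w * d)
    (hda : d ∈ O a) (hdb : b * d * b⁻¹ = d⁻¹) : d ∈ O w := by
  obtain ⟨P, Q, _, _, haP, hbQ, hPQ⟩ := c.local_pair hw ha hb haw hbw hab ha2 hb2
  let d' : Subgroup.centralizer ({w} : Set G) := ⟨d, Subgroup.mem_centralizer_singleton_iff.2 hdw⟩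
  exact ⟨d', core_of_inverted_meet hPQ haP (Subtype.ext ha2) hbQ (O_subgroupOf_odd a _)
    (O_subgroupOf_normalized a _ _ rfl) (d := d') hda (Subtype.ext hdb), rfl⟩

/-- The symmetric statement. -/
theorem local_inverted_A {w a b d : G} (hw : w ≠ 1) (ha : c.IsA a) (hb : c.IsB b)
    (haw : a * w = w * a) (hbw : b * w = w * b) (hab : a * b = b * a)
    (ha2 : a * a = 1) (hb2 : b * b = 1) (hdw : d * w = w * d)
    (hdb : d ∈ O b) (hda : a * d * a⁻¹ = d⁻¹) : d ∈ O w :=
  c.swap.local_inverted_B hw hb ha hbw haw hab.symm hb2 ha2 hdw hdb hda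

/-- Elements in both cores lie in the core. -/
theorem local_both {w a b d : G} (hw : w ≠ 1) (ha : c.IsA a) (hb : c.IsB b)
    (haw : a * w = w * a) (hbw : b * w = w * b) (hab : a * b = b * a)
    (ha2 : a * a = 1) (hb2 : b * b = 1) (hdw : d * w = w * d)
    (hda : d ∈ O a) (hdb : d ∈ O b) : d ∈ O w := by
  obtain ⟨P, Q, _, _, haP, hbQ, hPQ⟩ := c.local_pair hw ha hb haw hbw hab ha2 hb2
  let d' : Subgroup.centralizer ({w} : Set G) := ⟨d, Subgroup.mem_centralizer_singleton_iff.2 hdw⟩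
  exact ⟨d', core_of_both hPQ haP (Subtype.ext ha2) hbQ (Subtype.ext hb2) (O_subgroupOf_odd a _)
    (O_subgroupOf_odd b _) (O_subgroupOf_normalized a _ _ rfl) (O_subgroupOf_normalized b _ _ rfl)
    (d := d') hda hdb, rfl⟩

end Ctx

end Cfsg.Agent.StrongProd
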