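import Cfsg.Agent.Lib.Fusion.Product.Simple
import Cfsg.Agent.Lib.Fusion.Cores
import Mathlib.GroupTheory.Transfer
import Mathlib.GroupTheory.Perm.Cycle.Type

/-!
The product theorem for two strongly closed subgroups meeting trivially.
-/

set_option autoImplicit false
set_option linter.style.haveILetI false
set_option linter.unusedSectionVars false

open scoped commutatorElement

namespace Cfsg.Agent.StrongProd

open Cfsg.Agent.Fusion (cj mem_cj mem_normalizer_of_cj_le cj_eq_self SylIn)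

universe u

variable {G : Type u} [Group G] [Finite G]

/-- A conjugate into `S` of a `2`-element of `S M`. -/
theorem exists_conj_mem_sylow (S : Sylow 2 G) (M : Subgroup G) [M.Normal] {y : G}
    (hy : IsPGroup 2 (Subgroup.zpowers y)) (h : y ∈ (S : Subgroup G) ⊔ M) :
    ∃ m ∈ M, m * y * m⁻¹ ∈ (S : Subgroup G) := by
  haveI : Fact (Nat.Prime 2) := ⟨Nat.prime_two⟩
  have hS : SylIn 2 (S : Subgroup G) ((S : Subgroup G) ⊔ M) := (Fusion.sylIn_top S).mono le_sup_left le_top
  obtain ⟨x, hx, hxle⟩ := hS.conj_le hy (Subgroup.zpowers_le.2 h)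
  rw [Subgroup.mem_sup_of_normal_right] at hx
  obtain ⟨s, hs, m, hm, rfl⟩ := hx
  refine ⟨m, hm, ?_⟩
  have h1 := hxle (Fusion.conj_mem_cj (Subgroup.mem_zpowers y))
  have h2 := (S : Subgroup G).mul_mem ((S : Subgroup G).mul_mem ((S : Subgroup G).inv_mem hs) h1) hs
  rwa [show s⁻¹ * (s * m * y * (s * m)⁻¹) * s = m * y * m⁻¹ by group] at h2

theorem isPGroup_zpowers_conj {H : Subgroup G} (hH : IsPGroup 2 H) {a : G} (ha : a ∈ H) (g : G) :
    IsPGroup 2 (Subgroup.zpowers (g * a * g⁻¹)) :=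
  (Fusion.isPGroup_cj hH g).to_le (Subgroup.zpowers_le.2 (Fusion.conj_mem_cj ha))

/-- Strong closure passes to quotients. -/
theorem sc_map {A : Subgroup G} {S : Sylow 2 G} (h : Cfsg.IsStronglyClosed A (S : Subgroup G))
    (M : Subgroup G) [M.Normal] :
    Cfsg.IsStronglyClosed (A.map (QuotientGroup.mk' M))
      ((S.mapSurjective (QuotientGroup.mk'_surjective M) : Sylow 2 (G ⧸ M)) : Subgroup (G ⧸ M)) := by
  rw [Sylow.coe_mapSurjective]
  refine ⟨Subgroup.map_mono h.1, ?_⟩
  rintro _ ⟨a, ha, rfl⟩ gbar hg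
  obtain ⟨g, rfl⟩ := QuotientGroup.mk'_surjective M gbar
  rw [← map_inv, ← map_mul, ← map_mul] at hg ⊢
  have hmem : g * a * g⁻¹ ∈ (S : Subgroup G) ⊔ M := by
    rw [← Subgroup.mem_comap, Subgroup.comap_map_eq, QuotientGroup.ker_mk'] at hg
    exact hg
  obtain ⟨m, hm, hm'⟩ := exists_conj_mem_sylow S M (isPGroup_zpowers_conj S.isPGroup' (h.1 ha) g) hmem
  have h1 : m * g * a * (m * g)⁻¹ ∈ A := h.2 a ha (m * g) (by
    rwa [show m * g * a * (m * g)⁻¹ = m * (g * a * g⁻¹) * m⁻¹ by group])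
  have hm1 : QuotientGroup.mk' M m = 1 := (QuotientGroup.eq_one_iff m).2 hm
  refine ⟨_, h1, ?_⟩
  simp [map_mul, map_inv, hm1]

/-- Commutators of conjugates control the commutator of the normal closures. -/
theorem comm_normalClosure_le {A B M : Subgroup G} [M.Normal]
    (h : ∀ a ∈ A, ∀ g : G, ∀ b ∈ B, ⁅a, g * b * g⁻¹⁆ ∈ M) :
    ⁅Subgroup.normalClosure (A : Set G), Subgroup.normalClosure (B : Set G)⁆ ≤ M := by
  set π := QuotientGroup.mk' M with hπ
  have hiff : ∀ x y : G, ⁅x, y⁆ ∈ M ↔ π x * π y = π y * π x := fun x y => by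
    rw [← commutatorElement_eq_one_iff_mul_comm, ← map_commutatorElement]
    exact (QuotientGroup.eq_one_iff _).symm
  set N2 := Subgroup.normalClosure (B : Set G)
  haveI : N2.Normal := Subgroup.normalClosure_normal
  haveI : (N2.map π).Normal := (inferInstance : N2.Normal).map π (QuotientGroup.mk'_surjective M)
  have h2 : ∀ a ∈ A, ∀ x ∈ N2, π a * π x = π x * π a := by
    intro a ha
    have hle : N2 ≤ (Subgroup.centralizer ({π a} : Set (G ⧸ M))).comap π := by
      show Subgroup.closure _ ≤ _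
      rw [Subgroup.closure_le]
      intro x hx
      obtain ⟨b, hb, hbx⟩ := Group.mem_conjugatesOfSet_iff.1 hx
      obtain ⟨g, rfl⟩ := isConj_iff.1 hbx
      exact Subgroup.mem_centralizer_singleton_iff.2 ((hiff _ _).1 (h a ha g b hb)).symm
    exact fun x hx => (Subgroup.mem_centralizer_singleton_iff.1 (hle hx)).symm
  have h1 : Subgroup.normalClosure (A : Set G) ≤
      (Subgroup.centralizer ((N2.map π : Subgroup _) : Set (G ⧸ M))).comap π := by
    refine Subgroup.normalClosure_le_normal fun a ha => ?_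
    rw [SetLike.mem_coe, Subgroup.mem_comap, Subgroup.mem_centralizer_iff]
    rintro _ ⟨x, hx, rfl⟩
    exact (h2 a ha x hx).symm
  refine Subgroup.commutator_le.2 fun x hx y hy => (hiff x y).2 ?_
  exact (Subgroup.mem_centralizer_iff.1 (h1 hx) _ ⟨y, hy, rfl⟩).symm

theorem exists_pow_odd (M : Subgroup G) [M.Normal] :
    ∃ n : ℕ, Odd n ∧ ∀ x : G, (x : G ⧸ M) ∈ Cfsg.oddCore (G ⧸ M) → x ^ n ∈ M :=
  ⟨Nat.card (Cfsg.oddCore (G ⧸ M)), oddCore_odd _, fun x hx => by
    rw [← QuotientGroup.eq_one_iff, QuotientGroup.mk_pow]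
    exact congrArg Subtype.val (pow_card_eq_one' (x := (⟨(x : G ⧸ M), hx⟩ : Cfsg.oddCore (G ⧸ M))))⟩

theorem odd_card_of_pow {H : Type*} [Group H] [Finite H] {n : ℕ} (hn : Odd n)
    (h : ∀ x : H, x ^ n = 1) : Odd (Nat.card H) := by
  rw [← Nat.not_even_iff_odd, even_iff_two_dvd]
  intro hd
  haveI : Fact (Nat.Prime 2) := ⟨Nat.prime_two⟩
  obtain ⟨x, hx⟩ := exists_prime_orderOf_dvd_card' 2 hd
  exact hn.not_two_dvd_nat (hx ▸ orderOf_dvd_of_pow_eq_one (h x))

/-- Without odd normal subgroups, a normal subgroup with odd image modulo a normal subgroup central in it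
lies in that subgroup. -/
theorem le_of_central_odd (hO : Cfsg.oddCore G = ⊥) {L K : Subgroup G} [L.Normal] [K.Normal]
    {n : ℕ} (hn : Odd n) (hpow : ∀ x ∈ L, x ^ n ∈ K)
    (hcent : ∀ k ∈ L, k ∈ K → ∀ x ∈ L, k * x = x * k) : L ≤ K := by
  have hker : ∀ {m : ℕ}, Odd m → (∀ x ∈ L, ∀ y ∈ L, (x * y) ^ m = x ^ m * y ^ m) →
      ∀ x ∈ L, x ^ m = 1 → x = 1 := by
    intro m hm hmul x hx hxm
    let D : Subgroup G :=
      { carrier := {y | y ∈ L ∧ y ^ m = 1}
        one_mem' := ⟨L.one_mem, one_pow _⟩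
        mul_mem' := fun {y z} hy hz => ⟨L.mul_mem hy.1 hz.1, by
          rw [hmul y hy.1 z hz.1, hy.2, hz.2, one_mul]⟩
        inv_mem' := fun {y} hy => ⟨L.inv_mem hy.1, by rw [inv_pow, hy.2, inv_one]⟩ }
    haveI : D.Normal := ⟨fun y hy g => ⟨(inferInstance : L.Normal).conj_mem _ hy.1 g, by
      rw [conj_pow, hy.2, mul_one, mul_inv_cancel]⟩⟩
    have hD : D ≤ Cfsg.oddCore G := Fusion.le_pPrimeCore (Nat.coprime_two_right.2
      (odd_card_of_pow hm fun y => Subtype.ext (by simpa using y.2.2)))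
    rw [hO] at hD
    exact Subgroup.mem_bot.1 (hD ⟨hx, hxm⟩)
  set K' := K.subgroupOf L
  have hK'c : K' ≤ Subgroup.center L := fun k hk => Subgroup.mem_center_iff.2 fun x =>
    Subtype.ext (hcent k k.2 hk x x.2).symm
  have hodd : Odd (Subgroup.center L).index := by
    have h1 : Odd K'.index := by
      rw [Subgroup.index_eq_card]
      refine odd_card_of_pow hn fun q => ?_
      obtain ⟨q, rfl⟩ := QuotientGroup.mk_surjective q
      rw [← QuotientGroup.mk_pow, QuotientGroup.eq_one_iff]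
      exact hpow q q.2
    exact h1.of_dvd_nat (Subgroup.index_dvd_of_le hK'c)
  set φ := MonoidHom.transferCenterPow (G := L) with hφ
  have hφv : ∀ x : L, ((φ x : L) : G) = (x : G) ^ (Subgroup.center L).index := fun x => by
    rw [hφ, MonoidHom.transferCenterPow_apply]; rfl
  have hmul1 : ∀ x ∈ L, ∀ y ∈ L, (x * y) ^ (Subgroup.center L).index =
      x ^ (Subgroup.center L).index * y ^ (Subgroup.center L).index := by
    intro x hx y hy
    have := congrArg (fun w : Subgroup.center L => ((w : L) : G)) (map_mul φ ⟨x, hx⟩ ⟨y, hy⟩)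
    simpa [hφv] using this
  have hinj : Function.Injective φ := by
    refine (injective_iff_map_eq_one φ).2 fun x hx => Subtype.ext (hker hodd hmul1 x x.2 ?_)
    rw [← hφv, hx]; rfl
  have hab : ∀ x ∈ L, ∀ y ∈ L, x * y = y * x := fun x hx y hy => by
    have : φ (⟨x, hx⟩ * ⟨y, hy⟩) = φ (⟨y, hy⟩ * ⟨x, hx⟩) := by
      rw [map_mul, map_mul]
      exact Subtype.ext ((Subgroup.mem_center_iff.1 (φ ⟨y, hy⟩).2) _)
    exact congrArg Subtype.val (hinj this)
  have hmul2 : ∀ x ∈ L, ∀ y ∈ L, (x * y) ^ n = x ^ n * y ^ n := fun x hx y hy =>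
    Commute.mul_pow (hab x hx y hy) n
  have hinj2 : Function.Injective fun x : L => x ^ n := fun x y he => by
    have he' : (x : G) ^ n = (y : G) ^ n := congrArg Subtype.val he
    have h1 := hker hn hmul2 ((x : G) * (y : G)⁻¹) (L.mul_mem x.2 (L.inv_mem y.2))
      (by rw [hmul2 _ x.2 _ (L.inv_mem y.2), inv_pow, he', mul_inv_cancel])
    exact Subtype.ext (mul_inv_eq_one.1 h1)
  intro x hx
  obtain ⟨y, hy⟩ := Finite.surjective_of_injective hinj2 ⟨x, hx⟩
  have : (y : G) ^ n = x := congrArg Subtype.val hy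
  exact this ▸ hpow y y.2

/-- Without normal odd subgroups and normal `2`-subgroups there are no abelian normal subgroups. -/
theorem eq_bot_of_comm_normal (hO : Cfsg.oddCore G = ⊥)
    (h2 : ∀ K : Subgroup G, K.Normal → IsPGroup 2 K → K = ⊥) {L : Subgroup G} [L.Normal]
    (hab : ∀ x ∈ L, ∀ y ∈ L, x * y = y * x) : L = ⊥ := by
  by_contra hne
  have hcard : Nat.card L ≠ 1 := fun h => hne (Subgroup.card_eq_one.1 h)
  obtain ⟨q, hq, hdvd⟩ := Nat.exists_prime_and_dvd hcard
  haveI : Fact q.Prime := ⟨hq⟩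
  let D : Subgroup G :=
    { carrier := {y | y ∈ L ∧ y ^ q = 1}
      one_mem' := ⟨L.one_mem, one_pow _⟩
      mul_mem' := fun {y z} hy hz => ⟨L.mul_mem hy.1 hz.1, by
        rw [Commute.mul_pow (hab y hy.1 z hz.1), hy.2, hz.2, one_mul]⟩
      inv_mem' := fun {y} hy => ⟨L.inv_mem hy.1, by rw [inv_pow, hy.2, inv_one]⟩ }
  haveI : D.Normal := ⟨fun y hy g => ⟨(inferInstance : L.Normal).conj_mem _ hy.1 g, by
    rw [conj_pow, hy.2, mul_one, mul_inv_cancel]⟩⟩
  obtain ⟨x, hx⟩ := exists_prime_orderOf_dvd_card' q hdvd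
  have hxD : (x : G) ∈ D := ⟨x.2, by
    have := pow_orderOf_eq_one (x : G)
    rwa [Subgroup.orderOf_coe, hx] at this⟩
  have hx1 : (x : G) ≠ 1 := fun e => hq.ne_one (by rw [← hx, (Subtype.ext e : x = 1), orderOf_one])
  have hDp : IsPGroup q D := fun y => ⟨1, Subtype.ext (by simpa using y.2.2)⟩
  rcases eq_or_ne q 2 with rfl | hq2
  · exact hx1 (Subgroup.mem_bot.1 (h2 D inferInstance hDp ▸ hxD))
  have hD : D ≤ Cfsg.oddCore G := Fusion.le_pPrimeCore (by
    obtain ⟨k, hk⟩ := IsPGroup.iff_card.1 hDp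
    rw [hk]
    exact ((Nat.coprime_primes hq Nat.prime_two).2 hq2).pow_left _)
  exact hx1 (Subgroup.mem_bot.1 (hO ▸ hD hxD))

/-- A commutator in a normal `2`-subgroup avoiding `B` vanishes. -/
theorem commute_of_comm_mem {S : Sylow 2 G} {A B K : Subgroup G} [K.Normal]
    (hA : A ≤ (S : Subgroup G)) (hB : Cfsg.IsStronglyClosed B (S : Subgroup G)) (hK : IsPGroup 2 K)
    (hKB : K ⊓ B = ⊥)
    (h : ⁅Subgroup.normalClosure (A : Set G), Subgroup.normalClosure (B : Set G)⁆ ≤ K) :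
    ⁅Subgroup.normalClosure (A : Set G), Subgroup.normalClosure (B : Set G)⁆ = ⊥ := by
  haveI : Fact (Nat.Prime 2) := ⟨Nat.prime_two⟩
  refine eq_bot_iff.2 (comm_normalClosure_le fun a ha g b hb => ?_)
  set b' := g * b * g⁻¹
  haveI := Subgroup.normalClosure_normal (s := (B : Set G))
  have hk : ⁅a, b'⁆ ∈ K := h (Subgroup.commutator_mem_commutator (Subgroup.subset_normalClosure ha)
    ((inferInstance : (Subgroup.normalClosure (B : Set G)).Normal).conj_mem _
      (Subgroup.subset_normalClosure hb) g))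
  have hb' : g⁻¹ * b' * g = b := by simp only [b']; group
  set k := g⁻¹ * ⁅a, b'⁆ * g
  have hkK : k ∈ K := by
    have := (inferInstance : K.Normal).conj_mem _ hk g⁻¹
    rwa [inv_inv] at this
  have hkS : k ∈ (S : Subgroup G) := Fusion.pCore_le_sylow S (Fusion.le_pCore hK hkK)
  have hkb : k * b = g⁻¹ * a * g * b * (g⁻¹ * a * g)⁻¹ := by
    simp only [k, b', commutatorElement_def]; group
  have h1 : g⁻¹ * a * g * b * (g⁻¹ * a * g)⁻¹ ∈ B :=
    hB.2 b hb _ (hkb ▸ (S : Subgroup G).mul_mem hkS (hB.1 hb))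
  rw [← hkb] at h1
  have h2 : k ∈ K ⊓ B := ⟨hkK, by simpa using B.mul_mem h1 (B.inv_mem hb)⟩
  rw [hKB, Subgroup.mem_bot] at h2
  rw [Subgroup.mem_bot]
  calc ⁅a, b'⁆ = g * k * g⁻¹ := by simp only [k]; group
    _ = 1 := by rw [h2]; group

theorem commute_pair {S : Sylow 2 G} {A B : Subgroup G} (hA : Cfsg.IsStronglyClosed A (S : Subgroup G))
    (hB : Cfsg.IsStronglyClosed B (S : Subgroup G)) (hd : A ⊓ B = ⊥) :
    ∀ a ∈ A, ∀ b ∈ B, a * b = b * a := by
  intro a ha b hb
  have h1 : a * b * a⁻¹ ∈ B := hB.2 b hb a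
    ((S : Subgroup G).mul_mem ((S : Subgroup G).mul_mem (hA.1 ha) (hB.1 hb)) ((S : Subgroup G).inv_mem (hA.1 ha)))
  have h2 : b * a⁻¹ * b⁻¹ ∈ A := hA.2 a⁻¹ (A.inv_mem ha) b
    ((S : Subgroup G).mul_mem ((S : Subgroup G).mul_mem (hB.1 hb) ((S : Subgroup G).inv_mem (hA.1 ha)))
      ((S : Subgroup G).inv_mem (hB.1 hb)))
  have h3 : a * b * a⁻¹ * b⁻¹ ∈ A ⊓ B := ⟨by
    have := A.mul_mem ha h2
    rwa [show a * (b * a⁻¹ * b⁻¹) = a * b * a⁻¹ * b⁻¹ by group] at this, B.mul_mem h1 (B.inv_mem hb)⟩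
  rw [hd, Subgroup.mem_bot] at h3
  calc a * b = a * b * a⁻¹ * b⁻¹ * (b * a) := by group
    _ = b * a := by rw [h3, one_mul]

/-- The statement for smaller groups. -/
def Below (G : Type u) [Group G] : Prop :=
  ∀ (H : Type u) [Group H] [Finite H], Nat.card H < Nat.card G → ProdThm H

theorem Below.subgroup (h : Below G) (H : Subgroup G) (hH : H ≠ ⊤) : ProdThm H :=
  h H (lt_of_le_of_ne (Subgroup.card_le_card_group H) fun e => hH (Subgroup.eq_top_of_card_eq H e))

theorem Below.quot (h : Below G) {S : Sylow 2 G} {A B : Subgroup G}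
    (hA : Cfsg.IsStronglyClosed A (S : Subgroup G)) (hB : Cfsg.IsStronglyClosed B (S : Subgroup G))
    (M : Subgroup G) [M.Normal] (hM : M ≠ ⊥)
    (hd : ∀ a ∈ A, ∀ b ∈ B, b⁻¹ * a ∈ M → a ∈ M) :
    ∀ x ∈ ⁅Subgroup.normalClosure (A : Set G), Subgroup.normalClosure (B : Set G)⁆,
      (x : G ⧸ M) ∈ Cfsg.oddCore (G ⧸ M) := by
  set π := QuotientGroup.mk' M
  have hlt : Nat.card (G ⧸ M) < Nat.card G := by
    rw [Subgroup.card_eq_card_quotient_mul_card_subgroup M]
    exact lt_mul_of_one_lt_right Nat.card_pos (by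
      rw [Subgroup.one_lt_card_iff_ne_bot]; exact hM)
  have hdis : A.map π ⊓ B.map π = ⊥ := by
    rw [eq_bot_iff]
    rintro _ ⟨⟨a, ha, rfl⟩, ⟨b, hb, he⟩⟩
    rw [Subgroup.mem_bot]
    exact (QuotientGroup.eq_one_iff a).2 (hd a ha b hb (QuotientGroup.eq.1 he))
  have hprod := h (G ⧸ M) hlt (S.mapSurjective (QuotientGroup.mk'_surjective M)) _ _ (sc_map hA M)
    (sc_map hB M) hdis
  intro x hx
  refine hprod ?_
  have hmap : ∀ D : Subgroup G, (Subgroup.normalClosure (D : Set G)).map π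
      = Subgroup.normalClosure ((D.map π : Subgroup (G ⧸ M)) : Set (G ⧸ M)) := fun D => by
    rw [Subgroup.map_normalClosure _ π (QuotientGroup.mk'_surjective M), Subgroup.coe_map]
  rw [← hmap A, ← hmap B, ← Subgroup.map_commutator]
  exact ⟨x, hx, rfl⟩

/-- Descent to a normal subgroup containing both. -/
theorem Below.descend (h : Below G) (hO : Cfsg.oddCore G = ⊥) {S : Sylow 2 G} {A B : Subgroup G}
    (hA : Cfsg.IsStronglyClosed A (S : Subgroup G)) (hB : Cfsg.IsStronglyClosed B (S : Subgroup G))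
    (hd : A ⊓ B = ⊥) (M : Subgroup G) [M.Normal] (hM : M ≠ ⊤) (hAM : A ≤ M) (hBM : B ≤ M) :
    ⁅Subgroup.normalClosure (A : Set G), Subgroup.normalClosure (B : Set G)⁆ = ⊥ := by
  haveI : Fact (Nat.Prime 2) := ⟨Nat.prime_two⟩
  have hT : SylIn 2 ((S : Subgroup G) ⊓ M) M :=
    (Fusion.sylIn_top S).inf_normal le_top (by rw [Subgroup.normalizer_eq_top])
  obtain ⟨T, hTe⟩ := hT.exists_sylow_subgroupOf
  have hsc : ∀ D : Subgroup G, D ≤ M → Cfsg.IsStronglyClosed D (S : Subgroup G) →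
      Cfsg.IsStronglyClosed (D.subgroupOf M) (T : Subgroup M) := fun D hDM hD => by
    rw [hTe]
    refine ⟨fun x hx => ⟨hD.1 hx, x.2⟩, fun x hx g hg => ?_⟩
    exact hD.2 _ hx g hg.1
  have hprod := h.subgroup M hM T _ _ (hsc A hAM hA) (hsc B hBM hB) (by
    rw [eq_bot_iff]
    intro x hx
    have h1 : (x : G) ∈ A ⊓ B := hx
    rw [hd, Subgroup.mem_bot] at h1
    exact Subgroup.mem_bot.2 (Subtype.ext h1))
  have hOM : Cfsg.oddCore M = ⊥ := by
    haveI := oddCore_normal M
    haveI : ((Cfsg.oddCore M).map M.subtype).Normal := by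
      rw [← Subgroup.normalizer_eq_top_iff, eq_top_iff]
      refine le_trans ?_ (LocBal.normalizer_le_map_core M)
      rw [Subgroup.normalizer_eq_top]
    have : (Cfsg.oddCore M).map M.subtype ≤ Cfsg.oddCore G := Fusion.le_pPrimeCore (by
      rw [Solv.card_map_subtype]; exact Fusion.card_pPrimeCore_coprime 2 _)
    rw [hO, le_bot_iff, Subgroup.map_eq_bot_iff_of_injective _ M.subtype_injective] at this
    exact this
  refine eq_bot_iff.2 (comm_normalClosure_le fun a ha g b hb => ?_)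
  obtain ⟨m, hm, hn⟩ := Fusion.frattini_conj hT (le_of_eq (Subgroup.normalizer_eq_top (H := M)).symm)
    (Subgroup.mem_top g)
  have hb' : (m * g) * b * (m * g)⁻¹ ∈ B :=
    hB.2 b hb _ (Solv.conj_mem_of_mem_normalizer hn (⟨hB.1 hb, hBM hb⟩ : b ∈ (S : Subgroup G) ⊓ M)).1
  set b₀ := (m * g) * b * (m * g)⁻¹
  have hmem := hprod (Subgroup.commutator_mem_commutator
    (Subgroup.subset_normalClosure (show (⟨a, hAM ha⟩ : M) ∈ A.subgroupOf M from ha))
    (Subgroup.normalClosure_normal.conj_mem _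
      (Subgroup.subset_normalClosure (show (⟨b₀, hBM hb'⟩ : M) ∈ B.subgroupOf M from hb'))
      (⟨m, hm⟩ : M)⁻¹))
  rw [hOM, Subgroup.mem_bot] at hmem
  rw [Subgroup.mem_bot]
  have h2 := congrArg Subtype.val hmem
  simp only [commutatorElement_def, Subgroup.coe_mul, Subgroup.coe_inv, inv_inv, Subgroup.coe_one, b₀] at h2
  rw [commutatorElement_def, ← h2]
  group

theorem commutator_comm' (A B : Subgroup G) :
    ⁅Subgroup.normalClosure (A : Set G), Subgroup.normalClosure (B : Set G)⁆ =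
      ⁅Subgroup.normalClosure (B : Set G), Subgroup.normalClosure (A : Set G)⁆ :=
  Subgroup.commutator_comm _ _

/-- A normal subgroup inside `A`. -/
theorem case_normal_le (h : Below G) (hO : Cfsg.oddCore G = ⊥) {S : Sylow 2 G} {A B : Subgroup G}
    (hA : Cfsg.IsStronglyClosed A (S : Subgroup G)) (hB : Cfsg.IsStronglyClosed B (S : Subgroup G))
    (hd : A ⊓ B = ⊥) (K : Subgroup G) [K.Normal] (hKA : K ≤ A) (hK : K ≠ ⊥) :
    ⁅Subgroup.normalClosure (A : Set G), Subgroup.normalClosure (B : Set G)⁆ = ⊥ := by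
  have hKB : K ⊓ B = ⊥ := le_bot_iff.1 (hd ▸ inf_le_inf_right B hKA)
  have hq := h.quot hA hB K hK fun a ha b hb hab => by
    have h1 : b⁻¹ ∈ A := by simpa using A.mul_mem (hKA hab) (A.inv_mem ha)
    have h2 : b⁻¹ ∈ A ⊓ B := ⟨h1, B.inv_mem hb⟩
    rw [hd, Subgroup.mem_bot] at h2
    rwa [h2, one_mul] at hab
  set N1 := Subgroup.normalClosure (A : Set G)
  set N2 := Subgroup.normalClosure (B : Set G)
  haveI : N1.Normal := Subgroup.normalClosure_normal
  haveI : N2.Normal := Subgroup.normalClosure_normal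
  obtain ⟨n, hn, hpow⟩ := exists_pow_odd K
  haveI : ⁅N1, N2⁆.Normal := Subgroup.commutator_normal _ _
  have hN2K : N2 ≤ Subgroup.centralizer (K : Set G) :=
    Subgroup.normalClosure_le_normal fun b hb => Subgroup.mem_centralizer_iff.2 fun k hk =>
      commute_pair hA hB hd k (hKA hk) b hb
  have hle : ⁅N1, N2⁆ ≤ K := le_of_central_odd hO hn (fun x hx => hpow x (hq x hx))
    fun k _ hkK x hx => Subgroup.mem_centralizer_iff.1 (hN2K (Subgroup.commutator_le_right N1 N2 hx)) k hkK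
  exact commute_of_comm_mem hA.1 hB (S.isPGroup'.to_le (hKA.trans hA.1)) hKB hle

/-- Strongly closed subgroups meet a normal `2`-subgroup in a normal subgroup. -/
theorem inf_normal_of_pGroup {S : Sylow 2 G} {A : Subgroup G}
    (hA : Cfsg.IsStronglyClosed A (S : Subgroup G)) (K : Subgroup G) [K.Normal] (hK : IsPGroup 2 K) :
    (K ⊓ A).Normal := by
  haveI : Fact (Nat.Prime 2) := ⟨Nat.prime_two⟩
  exact ⟨fun x hx g => ⟨(inferInstance : K.Normal).conj_mem _ hx.1 g, hA.2 x hx.2 g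
    (Fusion.pCore_le_sylow S (Fusion.le_pCore hK ((inferInstance : K.Normal).conj_mem _ hx.1 g)))⟩⟩

/-- A normal `2`-subgroup. -/
theorem case_pGroup (h : Below G) (hO : Cfsg.oddCore G = ⊥) {S : Sylow 2 G} {A B : Subgroup G}
    (hA : Cfsg.IsStronglyClosed A (S : Subgroup G)) (hB : Cfsg.IsStronglyClosed B (S : Subgroup G))
    (hd : A ⊓ B = ⊥) (K₀ : Subgroup G) [K₀.Normal] (hK₀ : IsPGroup 2 K₀) (hne : K₀ ≠ ⊥) :
    ⁅Subgroup.normalClosure (A : Set G), Subgroup.normalClosure (B : Set G)⁆ = ⊥ := by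
  haveI : Fact (Nat.Prime 2) := ⟨Nat.prime_two⟩
  have caseA : ∀ {K : Subgroup G}, K.Normal → IsPGroup 2 K → K ⊓ A ≠ ⊥ →
      ⁅Subgroup.normalClosure (A : Set G), Subgroup.normalClosure (B : Set G)⁆ = ⊥ := fun {K} hKn hKp hKA => by
    haveI := hKn
    haveI := inf_normal_of_pGroup hA K hKp
    exact case_normal_le h hO hA hB hd (K ⊓ A) inf_le_right hKA
  have caseB : ∀ {K : Subgroup G}, K.Normal → IsPGroup 2 K → K ⊓ B ≠ ⊥ →
      ⁅Subgroup.normalClosure (A : Set G), Subgroup.normalClosure (B : Set G)⁆ = ⊥ := fun {K} hKn hKp hKB => by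
    haveI := hKn
    haveI := inf_normal_of_pGroup hB K hKp
    rw [commutator_comm']
    exact case_normal_le h hO hB hA (by rw [inf_comm]; exact hd) (K ⊓ B) inf_le_right hKB
  by_cases hKA : K₀ ⊓ A = ⊥
  swap
  · exact caseA inferInstance hK₀ hKA
  by_cases hKB : K₀ ⊓ B = ⊥
  swap
  · exact caseB inferInstance hK₀ hKB
  have hKS : K₀ ≤ (S : Subgroup G) := fun x hx => Fusion.pCore_le_sylow S (Fusion.le_pCore hK₀ hx)
  set C := Subgroup.centralizer (K₀ : Set G) with hC
  have hle : ∀ D : Subgroup G, Cfsg.IsStronglyClosed D (S : Subgroup G) → K₀ ⊓ D = ⊥ → D ≤ C := by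
    intro D hD hKD d hd
    rw [hC, Subgroup.mem_centralizer_iff]
    intro k hk
    have h1 : k * d * k⁻¹ ∈ D := hD.2 d hd k ((S : Subgroup G).mul_mem
      ((S : Subgroup G).mul_mem (hKS hk) (hD.1 hd)) ((S : Subgroup G).inv_mem (hKS hk)))
    have h2 : k * d * k⁻¹ * d⁻¹ ∈ K₀ ⊓ D := by
      refine ⟨?_, D.mul_mem h1 (D.inv_mem hd)⟩
      have := K₀.mul_mem hk ((inferInstance : K₀.Normal).conj_mem _ (K₀.inv_mem hk) d)
      rwa [show k * (d * k⁻¹ * d⁻¹) = k * d * k⁻¹ * d⁻¹ by group] at this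
    rw [hKD, Subgroup.mem_bot, mul_inv_eq_one, mul_inv_eq_iff_eq_mul] at h2
    exact h2
  have hAC := hle A hA hKA
  have hBC := hle B hB hKB
  haveI : C.Normal := hC ▸ inferInstance
  by_cases hCtop : C ≠ ⊤
  · exact h.descend hO hA hB hd C hCtop hAC hBC
  rw [not_not] at hCtop
  obtain ⟨⟨k, hkK⟩, hk⟩ := exists_prime_orderOf_dvd_card' 2 (show 2 ∣ Nat.card K₀ by
    obtain ⟨j, hj⟩ := IsPGroup.iff_card.1 hK₀
    rcases j with _ | j
    · exact absurd (Subgroup.card_eq_one.1 (by simpa using hj)) hne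
    · exact hj ▸ dvd_pow_self 2 j.succ_ne_zero)
  rw [← Subgroup.orderOf_coe] at hk
  simp only at hk
  have hkc : k ∈ Subgroup.center G := Subgroup.mem_center_iff.2 fun g =>
    (Subgroup.mem_centralizer_iff.1 (hCtop.symm ▸ Subgroup.mem_top g : g ∈ C) k hkK).symm
  have hk1 : k ≠ 1 := fun e => by simp [e] at hk
  have hk2 : k * k = 1 := by rw [← pow_two, ← hk, pow_orderOf_eq_one]
  set Z := Subgroup.zpowers k
  haveI : Z.Normal := ⟨fun x hx g => by
    obtain ⟨i, rfl⟩ := hx
    rw [Subgroup.mem_center_iff.1 ((Subgroup.center G).zpow_mem hkc i) g, mul_inv_cancel_right]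
    exact ⟨i, rfl⟩⟩
  have hZK : Z ≤ K₀ := Subgroup.zpowers_le.2 hkK
  have hZ : IsPGroup 2 Z := hK₀.to_le hZK
  have hZmem : ∀ {x : G}, x ∈ Z → x = 1 ∨ x = k := by
    rintro _ ⟨i, rfl⟩
    rcases Int.even_or_odd i with ⟨j, rfl⟩ | ⟨j, rfl⟩
    · left; show k ^ (j + j) = 1; rw [← two_mul, zpow_mul, zpow_two, hk2, one_zpow]
    · right; show k ^ (2 * j + 1) = k; rw [zpow_add, zpow_mul, zpow_two, hk2, one_zpow, one_mul, zpow_one]
  by_cases hab : ∃ a ∈ A, ∃ b ∈ B, b⁻¹ * a = k
  · obtain ⟨a, ha, b, hb, he⟩ := hab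
    have ha1 : a ≠ 1 := fun e => by
      rw [e, mul_one] at he
      have : k ∈ K₀ ⊓ B := ⟨hkK, he ▸ B.inv_mem hb⟩
      rw [hKB] at this
      exact hk1 (Subgroup.mem_bot.1 this)
    have ha2 : a * a = 1 := by
      have hc := commute_pair hA hB hd a ha b hb
      have hc' : Commute a b⁻¹ := (Commute.inv_right hc)
      have h1 : a * a = b * b := by
        have h2 : (b⁻¹ * a) * (b⁻¹ * a) = b⁻¹ * b⁻¹ * (a * a) := hc'.mul_mul_mul_comm b⁻¹ a
        rw [he, hk2] at h2
        calc a * a = b * b * (b⁻¹ * b⁻¹ * (a * a)) := by group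
          _ = b * b := by rw [← h2, mul_one]
      have h3 : a * a ∈ A ⊓ B := ⟨A.mul_mem ha ha, h1 ▸ B.mul_mem hb hb⟩
      rwa [hd, Subgroup.mem_bot] at h3
    have hiso : ∀ g : G, g * a * g⁻¹ ∈ (S : Subgroup G) → g * a * g⁻¹ = a := by
      intro g hg
      have h1 : g * a * g⁻¹ ∈ A := hA.2 a ha g hg
      have hba : a = b * k := by rw [← he, mul_inv_cancel_left]
      have h2 : g * b * g⁻¹ = g * a * g⁻¹ * k⁻¹ := by
        rw [hba, show g * (b * k) * g⁻¹ = g * b * g⁻¹ * (g * k * g⁻¹) by group,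
          Subgroup.mem_center_iff.1 hkc g, mul_inv_cancel_right, mul_inv_cancel_right]
      have h3 : g * b * g⁻¹ ∈ B := hB.2 b hb g (h2 ▸ (S : Subgroup G).mul_mem hg
        ((S : Subgroup G).inv_mem (hKS hkK)))
      have h4 : g * a * g⁻¹ * a⁻¹ ∈ A ⊓ B := by
        refine ⟨A.mul_mem h1 (A.inv_mem ha), ?_⟩
        have h5 : g * a * g⁻¹ * a⁻¹ = g * b * g⁻¹ * b⁻¹ := by
          rw [h2, hba, mul_inv_rev, mul_assoc _ k⁻¹]
        rw [h5]; exact B.mul_mem h3 (B.inv_mem hb)
      rw [hd, Subgroup.mem_bot, mul_inv_eq_one] at h4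
      exact h4
    have hc := Char.zStar_central (Char.oddInvol_of_isolated_sylow (invol_of_mul_self ha1 ha2) (hA.1 ha) hiso) hO
    refine caseA (K := Subgroup.zpowers a) ⟨fun x hx g => ?_⟩
      (S.isPGroup'.to_le (Subgroup.zpowers_le.2 (hA.1 ha)))
      fun e => ha1 (Subgroup.mem_bot.1 (e ▸ ⟨Subgroup.mem_zpowers a, ha⟩))
    obtain ⟨i, rfl⟩ := hx
    have : Commute g (a ^ i) := (show Commute a g from hc g).symm.zpow_right i
    rw [this.eq, mul_inv_cancel_right]
    exact ⟨i, rfl⟩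
  push Not at hab
  have hq := h.quot hA hB Z (fun e => hk1 (Subgroup.mem_bot.1 (e ▸ Subgroup.mem_zpowers k)))
    fun a ha b hb hm => by
      rcases hZmem hm with h1 | h1
      · have h2 : a ∈ A ⊓ B := ⟨ha, (inv_mul_eq_one.1 h1) ▸ hb⟩
        rw [hd, Subgroup.mem_bot] at h2
        rw [h2]; exact Z.one_mem
      · exact absurd h1 (hab a ha b hb)
  set N1 := Subgroup.normalClosure (A : Set G)
  set N2 := Subgroup.normalClosure (B : Set G)
  haveI : N1.Normal := Subgroup.normalClosure_normal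
  haveI : N2.Normal := Subgroup.normalClosure_normal
  obtain ⟨n, hn, hpow⟩ := exists_pow_odd Z
  haveI : ⁅N1, N2⁆.Normal := Subgroup.commutator_normal _ _
  have hle' : ⁅N1, N2⁆ ≤ Z := le_of_central_odd hO hn (fun x hx => hpow x (hq x hx))
    fun z _ hz x _ => (Subgroup.mem_center_iff.1 (Subgroup.zpowers_le.2 hkc hz) x).symm
  exact commute_of_comm_mem hA.1 hB hZ (le_bot_iff.1 (hKB ▸ inf_le_inf_right B hZK)) hle'

/-- A strongly closed subgroup avoiding a minimal normal subgroup centralises it. -/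
theorem le_centralizer_of_disjoint (hO : Cfsg.oddCore G = ⊥)
    (h2 : ∀ K : Subgroup G, K.Normal → IsPGroup 2 K → K = ⊥) {S : Sylow 2 G} {D : Subgroup G}
    (hD : Cfsg.IsStronglyClosed D (S : Subgroup G)) (K : Subgroup G) [K.Normal] (hKD : K ⊓ D = ⊥) :
    D ≤ Subgroup.centralizer (K : Set G) := by
  haveI : Fact (Nat.Prime 2) := ⟨Nat.prime_two⟩
  set C := Subgroup.centralizer (K : Set G) with hC
  haveI : C.Normal := hC ▸ inferInstance
  have hKC : K ⊓ C = ⊥ := eq_bot_of_comm_normal hO h2 fun x hx y hy => Subgroup.mem_centralizer_iff.1 hy.2 x hx.1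
  have key : ∀ (n : ℕ) (a : G), a ∈ D → orderOf a = n → a ∈ C := by
    intro n
    induction n using Nat.strong_induction_on with
    | _ n ih =>
      intro a ha hn
      by_cases ha1 : a = 1
      · rw [ha1]; exact C.one_mem
      obtain ⟨j, hj⟩ := IsPGroup.iff_orderOf.1 S.isPGroup' ⟨a, hD.1 ha⟩
      rw [Subgroup.orderOf_mk] at hj
      have hj0 : j ≠ 0 := fun e => ha1 (orderOf_eq_one_iff.1 (by rw [hj, e, pow_zero]))
      have hsq : a * a ∈ C := by
        refine ih (orderOf (a * a)) ?_ _ (D.mul_mem ha ha) rfl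
        have hev : 2 ∣ orderOf a := hj ▸ dvd_pow_self 2 hj0
        rw [← pow_two, orderOf_pow_of_dvd two_ne_zero hev, ← hn]
        exact Nat.div_lt_self (orderOf_pos a) Nat.one_lt_two
      -- the group generated by `K` and `a`
      set X := K ⊔ Subgroup.zpowers a with hX
      set T := (S : Subgroup G) ⊓ K
      have hT : SylIn 2 T K := (Fusion.sylIn_top S).inf_normal le_top (by rw [Subgroup.normalizer_eq_top])
      set T' := T ⊔ Subgroup.zpowers a with hT'
      have hT'S : T' ≤ (S : Subgroup G) := sup_le inf_le_left (Subgroup.zpowers_le.2 (hD.1 ha))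
      have hT'X : T' ≤ X := sup_le_sup_right inf_le_right _
      have hsyl : SylIn 2 T' X := by
        obtain ⟨R, hR, hle⟩ := Fusion.exists_sylIn_ge (p := 2) (S.isPGroup'.to_le hT'S) hT'X
        suffices hRT : R ≤ T' by
          rwa [le_antisymm hle hRT]
        intro r hr
        have hr' : r ∈ K ⊔ Subgroup.zpowers a := hR.le hr
        rw [Subgroup.mem_sup_of_normal_left] at hr'
        obtain ⟨k, hk, w, hw, rfl⟩ := hr'
        have hwR : w ∈ R := hle (Subgroup.mem_sup_right hw)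
        have hkR : k ∈ R := by simpa using R.mul_mem hr (R.inv_mem hwR)
        have hTR : T ≤ R ⊓ K := le_inf (le_sup_left.trans hle) inf_le_right
        have hkT : k ∈ T := hT.eq_of_le hR.isPGroup.to_inf_left hTR inf_le_right ▸ ⟨hkR, hk⟩
        exact T'.mul_mem (Subgroup.mem_sup_left hkT) (Subgroup.mem_sup_right hw)
      set a' : X := ⟨a, Subgroup.mem_sup_right (Subgroup.mem_zpowers a)⟩
      set C' := C.subgroupOf X
      haveI : C'.Normal := Subgroup.Normal.subgroupOf inferInstance X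
      obtain ⟨R, hR⟩ := hsyl.exists_sylow_subgroupOf
      set π := QuotientGroup.mk' C'
      by_cases haC : a ∈ C
      · exact haC
      set Rbar := R.mapSurjective (QuotientGroup.mk'_surjective C') with hRbar
      have ha'R : a' ∈ (R : Subgroup X) := hR ▸ Subgroup.mem_sup_right (Subgroup.mem_zpowers a)
      have hord : orderOf (π a') = 2 := invol_of_mul_self
        (fun e => haC ((QuotientGroup.eq_one_iff a').1 e))
        (by rw [← map_mul]; exact (QuotientGroup.eq_one_iff _).2 hsq)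
      have hiso : ∀ xbar : X ⧸ C', xbar * π a' * xbar⁻¹ ∈ (Rbar : Subgroup (X ⧸ C')) →
          xbar * π a' * xbar⁻¹ = π a' := by
        intro xbar hx
        obtain ⟨x, rfl⟩ := QuotientGroup.mk'_surjective C' xbar
        rw [hRbar, Sylow.coe_mapSurjective, ← map_inv, ← map_mul, ← map_mul] at hx
        rw [← Subgroup.mem_comap, Subgroup.comap_map_eq, QuotientGroup.ker_mk'] at hx
        obtain ⟨m, hm, hm'⟩ := exists_conj_mem_sylow R C' (isPGroup_zpowers_conj R.isPGroup' ha'R x) hx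
        rw [hR] at hm'
        have h1 : (m : G) * ((x : G) * a * (x : G)⁻¹) * (m : G)⁻¹ ∈ T' := by
          have := Subgroup.mem_subgroupOf.1 hm'
          simpa [a'] using this
        have h2 : (m : G) * (x : G) * a * ((m : G) * (x : G))⁻¹ ∈ D :=
          hD.2 a ha _ (by
            rw [show (m : G) * (x : G) * a * ((m : G) * (x : G))⁻¹
              = (m : G) * ((x : G) * a * (x : G)⁻¹) * (m : G)⁻¹ by group]
            exact hT'S h1)
        rw [show (m : G) * (x : G) * a * ((m : G) * (x : G))⁻¹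
          = (m : G) * ((x : G) * a * (x : G)⁻¹) * (m : G)⁻¹ by group] at h2
        have hn' : Subgroup.zpowers a ≤ Subgroup.normalizer (T : Set G) := Subgroup.zpowers_le.2
          (normalizer_inf_le (Subgroup.le_normalizer (hD.1 ha))
            (by rw [Subgroup.normalizer_eq_top]; exact Subgroup.mem_top a))
        have h1' : (m : G) * ((x : G) * a * (x : G)⁻¹) * (m : G)⁻¹ ∈ ((T' : Subgroup G) : Set G) := h1
        rw [hT', Subgroup.coe_mul_of_right_le_normalizer_left T _ hn'] at h1'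
        obtain ⟨t, ht, w, hw, he⟩ := h1'
        simp only at he
        obtain ⟨i, rfl⟩ := hw
        have htD : t ∈ K ⊓ D := by
          refine ⟨ht.2, ?_⟩
          have := D.mul_mem h2 (D.inv_mem (D.zpow_mem ha i))
          rwa [← he, mul_inv_cancel_right] at this
        rw [hKD, Subgroup.mem_bot] at htD
        rw [htD, one_mul] at he
        have he' : m * (x * a' * x⁻¹) * m⁻¹ = a' ^ i := Subtype.ext (by simpa [a'] using he.symm)
        have hm1 : π m = 1 := (QuotientGroup.eq_one_iff m).2 hm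
        have h4 := congrArg π he'
        simp only [map_mul, map_inv, map_zpow, hm1, one_mul, inv_one, mul_one] at h4
        have haa : π a' ^ (2 : ℤ) = 1 := by
          rw [zpow_two, ← pow_two, ← hord, pow_orderOf_eq_one]
        rw [h4]
        rcases Int.even_or_odd i with ⟨l, rfl⟩ | ⟨l, rfl⟩
        · exfalso
          rw [← two_mul, zpow_mul, haa, one_zpow] at h4
          have := conj_eq_one_iff.1 h4
          rw [this, orderOf_one] at hord
          omega
        · rw [zpow_add, zpow_mul, haa, one_zpow, one_mul, zpow_one]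
      have hstar := Char.zStar (Char.oddInvol_of_isolated_sylow hord
        (show π a' ∈ Rbar by
          show π a' ∈ (Rbar : Subgroup (X ⧸ C'))
          rw [hRbar, Sylow.coe_mapSurjective]; exact ⟨a', ha'R, rfl⟩) hiso)
      -- the odd normal subgroup of `K`
      set L := (K.subgroupOf X) ⊓ (Cfsg.oddCore (X ⧸ C')).comap π
      haveI := oddCore_normal (X ⧸ C')
      haveI : L.Normal := by
        haveI : (K.subgroupOf X).Normal := Subgroup.Normal.subgroupOf inferInstance X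
        infer_instance
      have hLodd : Odd (Nat.card L) := by
        have hinj : Function.Injective fun x : L => (⟨π x, x.2.2⟩ : Cfsg.oddCore (X ⧸ C')) := by
          intro x y e
          have h1 : (x : X)⁻¹ * (y : X) ∈ C' := QuotientGroup.eq.1 (congrArg Subtype.val e)
          have h2 : (((x : X)⁻¹ * (y : X) : X) : G) ∈ K ⊓ C :=
            ⟨show ((x : X)⁻¹ * (y : X)) ∈ K.subgroupOf X from Subgroup.mul_mem _ (Subgroup.inv_mem _ x.2.1) y.2.1, h1⟩
          rw [hKC, Subgroup.mem_bot] at h2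
          exact Subtype.ext (inv_mul_eq_one.1 (Subtype.ext h2))
        let f : L →* Cfsg.oddCore (X ⧸ C') :=
          { toFun := fun x => ⟨π x, x.2.2⟩
            map_one' := Subtype.ext (by simp)
            map_mul' := fun x y => Subtype.ext (by simp) }
        exact (oddCore_odd _).of_dvd_nat (Subgroup.card_dvd_of_injective f hinj)
      have hLK : (L.map X.subtype) ≤ (Cfsg.pPrimeCore 2 K).map K.subtype := by
        have hle : L.map X.subtype ≤ K := by
          rintro _ ⟨x, hx, rfl⟩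
          exact hx.1
        have hKn : K ≤ Subgroup.normalizer ((L.map X.subtype : Subgroup G) : Set G) := by
          refine fun g hg => mem_normalizer_of_cj_le ?_
          rintro _ ⟨_, ⟨x, hx, rfl⟩, rfl⟩
          exact ⟨⟨g, Subgroup.mem_sup_left hg⟩ * x * (⟨g, Subgroup.mem_sup_left hg⟩ : X)⁻¹,
            (inferInstance : L.Normal).conj_mem _ hx _, by simp⟩
        haveI : ((L.map X.subtype).subgroupOf K).Normal := Subgroup.normal_subgroupOf_of_le_normalizer hKn
        rw [← Subgroup.map_subgroupOf_eq_of_le hle]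
        refine Subgroup.map_mono (Fusion.le_pPrimeCore (Nat.coprime_two_right.2 ?_))
        rw [← Solv.card_map_subtype, Subgroup.map_subgroupOf_eq_of_le hle, Solv.card_map_subtype]
        exact hLodd
      haveI : ((Cfsg.pPrimeCore 2 K).map K.subtype).Normal := by
        rw [← Subgroup.normalizer_eq_top_iff, eq_top_iff]
        refine le_trans ?_ (LocBal.normalizer_le_map_core K)
        rw [Subgroup.normalizer_eq_top]
      have hK0 : (Cfsg.pPrimeCore 2 K).map K.subtype = ⊥ := le_bot_iff.1 (hO ▸ Fusion.le_pPrimeCore (by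
        rw [Solv.card_map_subtype]; exact Fusion.card_pPrimeCore_coprime 2 _))
      rw [hC, Subgroup.mem_centralizer_iff]
      intro k hk
      set k' : X := ⟨k, Subgroup.mem_sup_left hk⟩
      have hmem : a' * k' * a'⁻¹ * k'⁻¹ ∈ L := by
        refine ⟨?_, ?_⟩
        · show a * k * a⁻¹ * k⁻¹ ∈ K
          exact K.mul_mem ((inferInstance : K.Normal).conj_mem _ hk a) (K.inv_mem hk)
        · show π (a' * k' * a'⁻¹ * k'⁻¹) ∈ Cfsg.oddCore (X ⧸ C')
          simpa only [map_mul, map_inv] using hstar (π k')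
      have h3 : a * k * a⁻¹ * k⁻¹ ∈ (⊥ : Subgroup G) := hK0 ▸ hLK ⟨_, hmem, rfl⟩
      rw [Subgroup.mem_bot, mul_inv_eq_one, mul_inv_eq_iff_eq_mul] at h3
      exact h3.symm
  exact fun a ha => key _ a ha rfl

/-- No normal `2`-subgroup. -/
theorem case_minimal (h : Below G) (hO : Cfsg.oddCore G = ⊥)
    (h2 : ∀ K : Subgroup G, K.Normal → IsPGroup 2 K → K = ⊥) {S : Sylow 2 G} {A B : Subgroup G}
    (hA : Cfsg.IsStronglyClosed A (S : Subgroup G)) (hB : Cfsg.IsStronglyClosed B (S : Subgroup G))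
    (hd : A ⊓ B = ⊥) (K : Subgroup G) [K.Normal]
    (hmin : ∀ L : Subgroup G, L.Normal → L ≤ K → L = ⊥ ∨ L = K) (hKA : K ⊓ A ≠ ⊥) :
    ⁅Subgroup.normalClosure (A : Set G), Subgroup.normalClosure (B : Set G)⁆ = ⊥ := by
  haveI : Fact (Nat.Prime 2) := ⟨Nat.prime_two⟩
  by_cases hKtop : K = ⊤
  · subst hKtop
    rcases eq_or_ne B ⊥ with rfl | hB1
    · exact eq_bot_iff.2 (comm_normalClosure_le fun a _ g b hb => by
        simp [Subgroup.mem_bot.1 hb])
    haveI : Nontrivial G := by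
      obtain ⟨x, hx⟩ := Subgroup.ne_bot_iff_exists_ne_one.1 hB1
      exact ⟨(x : G), 1, fun e => hx (Subtype.ext e)⟩
    have hsimple : IsSimpleGroup G := ⟨fun L hL => (hmin L hL le_top)⟩
    have hnc : ¬ IsMulCommutative G := fun hc => by
      have := eq_bot_of_comm_normal hO h2 (L := (⊤ : Subgroup G)) fun x _ y _ => hc.is_comm.comm x y
      exact hKA (by rw [this, bot_inf_eq])
    rcases Ctx.eq_bot_or ⟨S, A, B, hA, hB, hd, hsimple, hnc, fun H hH => h.subgroup H hH⟩ with e | e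
    · exact absurd (by rw [show A = ⊥ from e, inf_bot_eq]) hKA
    · exact absurd e hB1
  set T := (S : Subgroup G) ⊓ K
  have hT : SylIn 2 T K := (Fusion.sylIn_top S).inf_normal le_top (by rw [Subgroup.normalizer_eq_top])
  obtain ⟨T', hT'⟩ := hT.exists_sylow_subgroupOf
  have hsc : ∀ D : Subgroup G, Cfsg.IsStronglyClosed D (S : Subgroup G) →
      Cfsg.IsStronglyClosed (D.subgroupOf K) (T' : Subgroup K) := fun D hD => by
    rw [hT']
    exact ⟨fun x hx => ⟨hD.1 hx, x.2⟩, fun x hx g hg => hD.2 _ hx g hg.1⟩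
  set P := Subgroup.normalClosure ((A.subgroupOf K : Subgroup K) : Set K)
  set Q := Subgroup.normalClosure ((B.subgroupOf K : Subgroup K) : Set K)
  have hprod : ⁅P, Q⁆ ≤ Cfsg.oddCore K := h.subgroup K hKtop T' _ _ (hsc A hA) (hsc B hB) (by
    rw [eq_bot_iff]
    intro x hx
    have h1 : (x : G) ∈ A ⊓ B := hx
    rw [hd, Subgroup.mem_bot] at h1
    exact Subgroup.mem_bot.2 (Subtype.ext h1))
  haveI : ((Cfsg.pPrimeCore 2 K).map K.subtype).Normal := by
    rw [← Subgroup.normalizer_eq_top_iff, eq_top_iff]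
    refine le_trans ?_ (LocBal.normalizer_le_map_core K)
    rw [Subgroup.normalizer_eq_top]
  have hOK : Cfsg.oddCore K = ⊥ := by
    have : (Cfsg.oddCore K).map K.subtype ≤ Cfsg.oddCore G := Fusion.le_pPrimeCore (by
      rw [Solv.card_map_subtype]; exact Fusion.card_pPrimeCore_coprime 2 _)
    rw [hO, le_bot_iff, Subgroup.map_eq_bot_iff_of_injective _ K.subtype_injective] at this
    exact this
  rw [hOK] at hprod
  haveI : P.Normal := Subgroup.normalClosure_normal
  haveI : (P.map K.subtype).Normal := ⟨by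
    rintro _ ⟨p, hp, rfl⟩ g
    obtain ⟨m, hm, hn⟩ := Fusion.frattini_conj hT (le_of_eq (Subgroup.normalizer_eq_top (H := K)).symm)
      (Subgroup.mem_top g)
    let φ : K →* K :=
      { toFun := fun x => ⟨g * x * g⁻¹, (inferInstance : K.Normal).conj_mem _ x.2 g⟩
        map_one' := Subtype.ext (by simp)
        map_mul' := fun x y => Subtype.ext (by simp [mul_assoc]) }
    have hle : P ≤ P.comap φ := by
      haveI : (P.comap φ).Normal := inferInstance
      refine Subgroup.normalClosure_le_normal fun x hx => ?_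
      rw [SetLike.mem_coe, Subgroup.mem_comap]
      have h1 : (m * g) * (x : G) * (m * g)⁻¹ ∈ A := hA.2 _ hx _
        (Solv.conj_mem_of_mem_normalizer hn (⟨hA.1 hx, x.2⟩ : (x : G) ∈ T)).1
      set w : K := ⟨_, (inferInstance : K.Normal).conj_mem _ x.2 (m * g)⟩
      have h2 : (⟨m, hm⟩ : K)⁻¹ * w * (⟨m, hm⟩ : K)⁻¹⁻¹ ∈ P :=
        (inferInstance : P.Normal).conj_mem _ (Subgroup.subset_normalClosure (show w ∈ A.subgroupOf K from h1)) _
      convert h2 using 1
      exact Subtype.ext (by simp [φ, w, mul_assoc])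
    exact ⟨φ p, hle hp, rfl⟩⟩
  have hPK : P.map K.subtype = K := by
    refine (hmin _ inferInstance (Subgroup.map_subtype_le P)).resolve_left fun e => hKA ?_
    rw [eq_bot_iff]
    intro x hx
    exact e ▸ ⟨⟨x, hx.1⟩, Subgroup.subset_normalClosure (show (⟨x, hx.1⟩ : K) ∈ A.subgroupOf K from hx.2), rfl⟩
  have hPtop : P = ⊤ := by
    refine eq_top_iff.2 fun x _ => ?_
    have hx : (x : G) ∈ P.map K.subtype := hPK.symm ▸ x.2
    obtain ⟨y, hy, he⟩ := hx
    exact K.subtype_injective he ▸ hy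
  set C := Subgroup.centralizer (K : Set G) with hC
  haveI : C.Normal := hC ▸ inferInstance
  have hKC : K ⊓ C = ⊥ := eq_bot_of_comm_normal hO h2 fun x hx y hy => Subgroup.mem_centralizer_iff.1 hy.2 x hx.1
  have hKB : K ⊓ B = ⊥ := by
    rw [eq_bot_iff, ← hKC]
    intro x hx
    refine ⟨hx.1, ?_⟩
    show x ∈ C
    rw [hC, Subgroup.mem_centralizer_iff]
    intro k hk
    have h1 := hprod (Subgroup.commutator_mem_commutator (hPtop.symm ▸ Subgroup.mem_top (⟨k, hk⟩ : K) :
      (⟨k, hk⟩ : K) ∈ P) (Subgroup.subset_normalClosure (show (⟨x, hx.1⟩ : K) ∈ B.subgroupOf K from hx.2)))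
    rw [Subgroup.mem_bot, commutatorElement_eq_one_iff_mul_comm] at h1
    exact congrArg Subtype.val h1
  have hBC := le_centralizer_of_disjoint hO h2 hB K hKB
  have hKne : K ≠ ⊥ := fun e => hKA (by rw [e, bot_inf_eq])
  have hBAK : B ⊓ (A ⊔ K) = ⊥ := by
    by_contra hne
    obtain ⟨⟨b, hb⟩, hb2⟩ := exists_prime_orderOf_dvd_card' 2 (show 2 ∣ Nat.card (B ⊓ (A ⊔ K) : Subgroup G) by
      obtain ⟨j, hj⟩ := IsPGroup.iff_card.1 (S.isPGroup'.to_le ((inf_le_left : B ⊓ (A ⊔ K) ≤ B).trans hB.1))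
      rcases j with _ | j
      · exact absurd (Subgroup.card_eq_one.1 (by simpa using hj)) hne
      · exact hj ▸ dvd_pow_self 2 j.succ_ne_zero)
    rw [← Subgroup.orderOf_coe] at hb2
    simp only at hb2
    obtain ⟨a, ha, k, hk, he⟩ := Subgroup.mem_sup_of_normal_right.1 hb.2
    have hTC : SylIn 2 ((S : Subgroup G) ⊓ C) C :=
      (Fusion.sylIn_top S).inf_normal le_top (by rw [Subgroup.normalizer_eq_top])
    obtain ⟨R, hR⟩ := hTC.exists_sylow_subgroupOf
    set bC : C := ⟨b, hBC hb.1⟩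
    have hbC2 : orderOf bC = 2 := by rw [← Subgroup.orderOf_coe]; exact hb2
    have hbR : bC ∈ R := show bC ∈ (R : Subgroup C) from hR ▸ ⟨hB.1 hb.1, hBC hb.1⟩
    have hiso : ∀ g : C, g * bC * g⁻¹ ∈ R → g * bC * g⁻¹ = bC := by
      intro g hg
      have hg' : ((g * bC * g⁻¹ : C) : G) ∈ (S : Subgroup G) ⊓ C := by
        have : g * bC * g⁻¹ ∈ (R : Subgroup C) := hg
        rw [hR] at this
        exact this
      set b' := (g : G) * b * (g : G)⁻¹
      have hb' : b' ∈ B := hB.2 b hb.1 g hg'.1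
      have hkS : k ∈ (S : Subgroup G) := by
        have : k = a⁻¹ * b := by rw [← he, inv_mul_cancel_left]
        rw [this]; exact (S : Subgroup G).mul_mem ((S : Subgroup G).inv_mem (hA.1 ha)) (hB.1 hb.1)
      have hgk : (g : G) * k * (g : G)⁻¹ = k := by
        rw [← Subgroup.mem_centralizer_iff.1 g.2 k hk, mul_inv_cancel_right]
      have h1 : (g : G) * a * (g : G)⁻¹ = b' * k⁻¹ := by
        calc (g : G) * a * (g : G)⁻¹ = (g : G) * (a * k) * (g : G)⁻¹ * ((g : G) * k * (g : G)⁻¹)⁻¹ := by group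
          _ = b' * k⁻¹ := by rw [he, hgk]
      have ha' : (g : G) * a * (g : G)⁻¹ ∈ A :=
        hA.2 a ha g (h1 ▸ (S : Subgroup G).mul_mem (hB.1 hb') ((S : Subgroup G).inv_mem hkS))
      have h3 : b' * b⁻¹ ∈ A ⊓ B := by
        refine ⟨?_, B.mul_mem hb' (B.inv_mem hb.1)⟩
        have : b' * b⁻¹ = (g : G) * a * (g : G)⁻¹ * a⁻¹ := by
          rw [h1, show b⁻¹ = k⁻¹ * a⁻¹ by rw [← he, mul_inv_rev], mul_assoc b' k⁻¹]
        rw [this]; exact A.mul_mem ha' (A.inv_mem ha)
      rw [hd, Subgroup.mem_bot, mul_inv_eq_one] at h3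
      exact Subtype.ext h3
    have hOC : Cfsg.oddCore C = ⊥ := by
      haveI : ((Cfsg.pPrimeCore 2 C).map C.subtype).Normal := by
        rw [← Subgroup.normalizer_eq_top_iff, eq_top_iff]
        refine le_trans ?_ (LocBal.normalizer_le_map_core C)
        rw [Subgroup.normalizer_eq_top]
      have : (Cfsg.oddCore C).map C.subtype ≤ Cfsg.oddCore G := Fusion.le_pPrimeCore (by
        rw [Solv.card_map_subtype]; exact Fusion.card_pPrimeCore_coprime 2 _)
      rw [hO, le_bot_iff, Subgroup.map_eq_bot_iff_of_injective _ C.subtype_injective] at this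
      exact this
    have hcent := Char.zStar_central (Char.oddInvol_of_isolated_sylow hbC2 hbR hiso) hOC
    set Z := C ⊓ Subgroup.centralizer (C : Set G)
    haveI : Z.Normal := inferInstance
    have hZ : Z = ⊥ := eq_bot_of_comm_normal hO h2 fun x hx y hy =>
      Subgroup.mem_centralizer_iff.1 hy.2 x hx.1
    have hbZ : b ∈ Z := ⟨hBC hb.1, Subgroup.mem_centralizer_iff.2 fun x hx =>
      (congrArg Subtype.val (hcent ⟨x, hx⟩)).symm⟩
    rw [hZ, Subgroup.mem_bot] at hbZ
    rw [hbZ, orderOf_one] at hb2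
    omega
  have hq := h.quot hA hB K hKne fun a ha b hb hm => by
    have h1 : b⁻¹ ∈ A ⊔ K := by
      have := (A ⊔ K).mul_mem (Subgroup.mem_sup_right (S := A) hm) ((A ⊔ K).inv_mem (Subgroup.mem_sup_left ha))
      simpa using this
    have h2' : b⁻¹ ∈ B ⊓ (A ⊔ K) := ⟨B.inv_mem hb, h1⟩
    rw [hBAK, Subgroup.mem_bot] at h2'
    rwa [h2', one_mul] at hm
  set N1 := Subgroup.normalClosure (A : Set G)
  set N2 := Subgroup.normalClosure (B : Set G)
  haveI : N1.Normal := Subgroup.normalClosure_normal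
  haveI : N2.Normal := Subgroup.normalClosure_normal
  haveI : ⁅N1, N2⁆.Normal := Subgroup.commutator_normal _ _
  have hN2C : N2 ≤ C := Subgroup.normalClosure_le_normal hBC
  obtain ⟨n, hn, hpow⟩ := exists_pow_odd K
  have hle : ⁅N1, N2⁆ ≤ K := le_of_central_odd hO hn (fun x hx => hpow x (hq x hx))
    fun k hk hkK x _ => by
      have : k ∈ K ⊓ C := ⟨hkK, hN2C (Subgroup.commutator_le_right N1 N2 hk)⟩
      rw [hKC, Subgroup.mem_bot] at this
      rw [this, one_mul, mul_one]
  exact eq_bot_iff.2 (hKC ▸ le_inf hle ((Subgroup.commutator_le_right N1 N2).trans hN2C))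

theorem prodThm_aux : ∀ (n : ℕ) (G : Type u) [Group G] [Finite G], Nat.card G = n → ProdThm G := by
  intro n
  induction n using Nat.strong_induction_on with
  | _ n ih =>
    intro G _ _ hcard S A B hA hB hd
    haveI : Fact (Nat.Prime 2) := ⟨Nat.prime_two⟩
    have h : Below G := fun H _ _ hlt => ih _ (hcard ▸ hlt) H rfl
    haveI := oddCore_normal G
    by_cases hO : Cfsg.oddCore G = ⊥
    swap
    · have hinf : ∀ x ∈ (S : Subgroup G), x ∈ Cfsg.oddCore G → x = 1 := by
        intro x hx hxO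
        obtain ⟨j, hj⟩ := IsPGroup.iff_orderOf.1 S.isPGroup' ⟨x, hx⟩
        rw [Subgroup.orderOf_mk] at hj
        exact orderOf_eq_one_iff.1 (Nat.eq_one_of_dvd_coprimes
          ((Nat.coprime_two_left.2 (oddCore_odd G)).pow_left j) (hj ▸ dvd_rfl)
          (Subgroup.orderOf_dvd_natCard _ hxO))
      have hq := h.quot hA hB (Cfsg.oddCore G) hO fun a ha b hb hm => by
        have h1 := inv_mul_eq_one.1
          (hinf _ ((S : Subgroup G).mul_mem ((S : Subgroup G).inv_mem (hB.1 hb)) (hA.1 ha)) hm)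
        have h2 : a ∈ A ⊓ B := ⟨ha, h1 ▸ hb⟩
        rw [hd, Subgroup.mem_bot] at h2
        rw [h2]; exact one_mem _
      intro x hx
      have hbot : Cfsg.oddCore (G ⧸ Cfsg.oddCore G) = ⊥ := Fusion.pPrimeCore_quotient_eq_bot
      have := hq x hx
      rw [hbot, Subgroup.mem_bot] at this
      exact (QuotientGroup.eq_one_iff x).1 this
    refine le_of_eq_of_le ?_ bot_le
    by_cases h2 : ∀ K : Subgroup G, K.Normal → IsPGroup 2 K → K = ⊥
    swap
    · push Not at h2
      obtain ⟨K, hKn, hKp, hK⟩ := h2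
      haveI := hKn
      exact case_pGroup h hO hA hB hd K hKp hK
    rcases subsingleton_or_nontrivial G with hs | hs
    · exact Subsingleton.elim _ _
    obtain ⟨K, -, ⟨hKn, hKne⟩, hmin⟩ := Finite.exists_le_minimal
      (p := fun K : Subgroup G => K.Normal ∧ K ≠ ⊥) (a := ⊤) ⟨inferInstance, top_ne_bot⟩
    haveI := hKn
    have hmin' : ∀ L : Subgroup G, L.Normal → L ≤ K → L = ⊥ ∨ L = K := fun L hL hLK =>
      or_iff_not_imp_left.2 fun hne => le_antisymm hLK (hmin ⟨hL, hne⟩ hLK)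
    by_cases hKA : K ⊓ A = ⊥
    swap
    · exact case_minimal h hO h2 hA hB hd K hmin' hKA
    by_cases hKB : K ⊓ B = ⊥
    swap
    · rw [commutator_comm']
      exact case_minimal h hO h2 hB hA (by rw [inf_comm]; exact hd) K hmin' hKB
    haveI : (Subgroup.centralizer (K : Set G)).Normal := inferInstance
    refine h.descend hO hA hB hd (Subgroup.centralizer (K : Set G)) (fun e => hKne ?_)
      (le_centralizer_of_disjoint hO h2 hA K hKA) (le_centralizer_of_disjoint hO h2 hB K hKB)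
    refine eq_bot_of_comm_normal hO h2 fun x hx y hy => ?_
    exact (Subgroup.mem_centralizer_iff.1 (e.symm ▸ Subgroup.mem_top x :
      x ∈ Subgroup.centralizer (K : Set G)) y hy).symm

/-- The product theorem. -/
theorem prodThm (G : Type u) [Group G] [Finite G] : ProdThm G := prodThm_aux _ G rfl

end Cfsg.Agent.StrongProd
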