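import Cfsg.Agent.Lib.Fusion.Product.Functor
import Cfsg.Agent.Lib.Char.ZStar
import Cfsg.Agent.Lib.Small.SylowInside

/-!
No simple group has two nontrivial strongly closed subgroups meeting trivially.
-/

set_option autoImplicit false
set_option linter.style.haveILetI false
set_option linter.unusedSectionVars false

open scoped commutatorElement

namespace Cfsg.Agent.StrongProd

open Cfsg.Agent.Solv (CycQuot)
open Cfsg.Agent.Fusion (cj mem_cj mem_normalizer_of_cj_le cj_eq_self SylIn)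
open Ctx (O O_le O_odd O_normalized)

universe u

variable {G : Type u} [Group G] [Finite G]

theorem sq_closure_pair {a b : G} (ha : a * a = 1) (hb : b * b = 1) (hab : a * b = b * a) :
    ∀ x ∈ Subgroup.closure ({a, b} : Set G), x * x = 1 := by
  intro x hx
  have key : Subgroup.closure ({a, b} : Set G) ≤ Subgroup.centralizer ({a, b} : Set G) := by
    rw [Subgroup.closure_le]
    rintro y (rfl | rfl) <;> rw [SetLike.mem_coe, Subgroup.mem_centralizer_iff] <;>
      rintro z (rfl | rfl) <;> simp [hab]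
  induction hx using Subgroup.closure_induction with
  | mem y hy => rcases hy with rfl | rfl <;> assumption
  | one => exact one_mul _
  | mul y z hy hz ihy ihz =>
    have h1 : Commute y z := by
      have h2 := key hz
      clear ihy
      induction hy using Subgroup.closure_induction with
      | mem y hy => exact Subgroup.mem_centralizer_iff.1 h2 y hy
      | one => exact Commute.one_left _
      | mul y w _ _ i j => exact i.mul_left j
      | inv y _ i => exact i.inv_left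
    rw [h1.symm.mul_mul_mul_comm, ihy, ihz, one_mul]
  | inv y _ ih => rw [← mul_inv_rev, ih, inv_one]

theorem card_closure_pair {a b : G} (ha : a * a = 1) (hb : b * b = 1) (hab : a * b = b * a)
    (h1 : a ≠ 1) (h2 : b ≠ 1) (hne : a ≠ b) :
    Nat.card (Subgroup.closure ({a, b} : Set G)) = 4 := by
  have hab' : Commute a b := hab
  let T : Subgroup G :=
    { carrier := {1, a, b, a * b}
      one_mem' := Or.inl rfl
      mul_mem' := by
        rintro x y (rfl | rfl | rfl | rfl) (rfl | rfl | rfl | rfl) <;>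
          simp only [Set.mem_insert_iff, Set.mem_singleton_iff, mul_one, one_mul, ha, hb, ← mul_assoc] <;>
          simp [mul_assoc, ha, hb, hab'.symm.eq] <;> simp [← mul_assoc, ha, hb]
      inv_mem' := by
        rintro x (rfl | rfl | rfl | rfl) <;>
          simp [inv_eq_of_mul_eq_one_right ha, inv_eq_of_mul_eq_one_right hb, mul_inv_rev, hab'.symm.eq] }
  have e : Subgroup.closure ({a, b} : Set G) = T := by
    refine le_antisymm ((Subgroup.closure_le _).2 ?_) ?_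
    · rintro x (rfl | rfl)
      exacts [Or.inr (Or.inl rfl), Or.inr (Or.inr (Or.inl rfl))]
    · rintro x (rfl | rfl | rfl | rfl)
      exacts [one_mem _, Subgroup.subset_closure (by simp), Subgroup.subset_closure (by simp),
        mul_mem (Subgroup.subset_closure (by simp)) (Subgroup.subset_closure (by simp))]
  rw [e, ← SetLike.coe_sort_coe, Nat.card_coe_set_eq]
  have hab1 : a * b ≠ 1 := fun h => hne ((eq_inv_of_mul_eq_one_left h).trans (inv_eq_of_mul_eq_one_right hb))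
  show ({1, a, b, a * b} : Set G).ncard = 4
  rw [Set.ncard_insert_of_notMem, Set.ncard_insert_of_notMem, Set.ncard_pair]
  · exact fun h => h1 (mul_eq_right.mp h.symm)
  · simp [hne, Ne.symm hab1, h2]
  · simp [Ne.symm h1, Ne.symm h2, Ne.symm hab1]

/-- An element splits into commuting parts of `2`-power and odd order. -/
theorem exists_two_split (r : G) : ∃ i j : ℤ, r ^ (i + j) = r ∧ (∃ k : ℕ, (r ^ i) ^ 2 ^ k = 1) ∧
    Odd (orderOf (r ^ j)) := by
  obtain ⟨k, m, hm, hkm⟩ := Nat.exists_eq_two_pow_mul_odd (n := orderOf r) (orderOf_pos r).ne'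
  have hco : Nat.Coprime (2 ^ k) m := (Nat.coprime_two_left.2 hm).pow_left _
  have hbez := Nat.gcd_eq_gcd_ab (2 ^ k) m
  rw [hco.gcd_eq_one, Nat.cast_one] at hbez
  refine ⟨(m : ℤ) * Nat.gcdB (2 ^ k) m, ((2 ^ k : ℕ) : ℤ) * Nat.gcdA (2 ^ k) m, ?_, ⟨k, ?_⟩, ?_⟩
  · rw [add_comm, ← hbez, zpow_one]
  · rw [← zpow_natCast, ← zpow_mul, show (m : ℤ) * Nat.gcdB (2 ^ k) m * ((2 ^ k : ℕ) : ℤ)
      = ((orderOf r : ℕ) : ℤ) * Nat.gcdB (2 ^ k) m by rw [hkm]; push_cast; ring, zpow_mul, zpow_natCast,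
      pow_orderOf_eq_one, one_zpow]
  · refine hm.of_dvd_nat (orderOf_dvd_of_pow_eq_one ?_)
    rw [← zpow_natCast, ← zpow_mul, show ((2 ^ k : ℕ) : ℤ) * Nat.gcdA (2 ^ k) m * (m : ℤ)
      = ((orderOf r : ℕ) : ℤ) * Nat.gcdA (2 ^ k) m by rw [hkm]; push_cast; ring, zpow_mul, zpow_natCast,
      pow_orderOf_eq_one, one_zpow]

namespace Ctx

variable (c : Ctx G)

theorem isA_of_mem {g x : G} (h : x ∈ cj c.A g) : c.IsA x :=
  ⟨g⁻¹, by rw [inv_inv]; exact mem_cj.1 h⟩

theorem isB_of_mem {g x : G} (h : x ∈ cj c.B g) : c.IsB x :=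
  ⟨g⁻¹, by rw [inv_inv]; exact mem_cj.1 h⟩

theorem isA_conj {x : G} (h : c.IsA x) (g : G) : c.IsA (g * x * g⁻¹) := by
  obtain ⟨k, hk⟩ := h
  exact ⟨k * g⁻¹, by simpa [mul_assoc] using hk⟩

theorem isB_conj {x : G} (h : c.IsB x) (g : G) : c.IsB (g * x * g⁻¹) :=
  c.swap.isA_conj h g

theorem sylow_le_normalizer {D : Subgroup G} (hD : Cfsg.IsStronglyClosed D (c.S : Subgroup G)) :
    (c.S : Subgroup G) ≤ Subgroup.normalizer (D : Set G) := fun s hs =>
  mem_normalizer_of_cj_le fun x hx => by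
    rw [mem_cj] at hx
    have h := hD.2 _ hx s ((c.S : Subgroup G).mul_mem ((c.S : Subgroup G).mul_mem hs (hD.1 hx))
      ((c.S : Subgroup G).inv_mem hs))
    rwa [show s * (s⁻¹ * x * s) * s⁻¹ = x by group] at h

theorem commute_AB {a b : G} (ha : a ∈ c.A) (hb : b ∈ c.B) : a * b = b * a := by
  have h1 : a * b * a⁻¹ * b⁻¹ ∈ c.A ⊓ c.B := by
    refine ⟨?_, ?_⟩
    · exact Solv.comm_mem_of_mem_normalizer (c.sylow_le_normalizer c.scA (c.scB.1 hb)) ha
    · exact c.B.mul_mem (Solv.conj_mem_of_mem_normalizer (c.sylow_le_normalizer c.scB (c.scA.1 ha)) hb)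
        (c.B.inv_mem hb)
  rw [c.disj, Subgroup.mem_bot] at h1
  calc a * b = a * b * a⁻¹ * b⁻¹ * (b * a) := by group
    _ = b * a := by rw [h1, one_mul]

theorem commute_cj_AB {a b g : G} (ha : a ∈ cj c.A g) (hb : b ∈ cj c.B g) : a * b = b * a := by
  have h := c.commute_AB (mem_cj.1 ha) (mem_cj.1 hb)
  calc a * b = g * (g⁻¹ * a * g * (g⁻¹ * b * g)) * g⁻¹ := by group
    _ = g * (g⁻¹ * b * g * (g⁻¹ * a * g)) * g⁻¹ := by rw [h]
    _ = b * a := by group

include c in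
theorem oddCore_eq_bot (hA : c.A ≠ ⊥) : Cfsg.oddCore G = ⊥ := by
  haveI := c.simple
  rcases (oddCore_normal G).eq_bot_or_eq_top with h | h
  · exact h
  exfalso
  have hodd : Odd (Nat.card G) := by
    have := oddCore_odd G
    rwa [h, Subgroup.card_top] at this
  refine hA (Subgroup.card_eq_one.1 ?_)
  haveI : Fact (Nat.Prime 2) := ⟨Nat.prime_two⟩
  obtain ⟨k, hk⟩ := IsPGroup.iff_card.1 (c.S.isPGroup'.to_le c.scA.1)
  rcases k with _ | k
  · simpa using hk
  · exact absurd ((hk ▸ dvd_pow_self 2 k.succ_ne_zero).trans (Subgroup.card_subgroup_dvd_card c.A))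
      hodd.not_two_dvd_nat

theorem exists_central_invol {D : Subgroup G} (hD : Cfsg.IsStronglyClosed D (c.S : Subgroup G))
    (hne : D ≠ ⊥) : ∃ a ∈ D, a ≠ 1 ∧ a * a = 1 ∧ ∀ s ∈ (c.S : Subgroup G), a * s = s * a := by
  haveI : Fact (Nat.Prime 2) := ⟨Nat.prime_two⟩
  haveI : (D.subgroupOf (c.S : Subgroup G)).Normal :=
    Subgroup.normal_subgroupOf_of_le_normalizer (c.sylow_le_normalizer hD)
  have hne' : D.subgroupOf (c.S : Subgroup G) ≠ ⊥ := fun h => hne (by
    rw [Subgroup.subgroupOf_eq_bot] at h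
    exact h.eq_bot_of_le hD.1)
  have hmeet := Small.normal_meets_center c.S.isPGroup' inferInstance hne'
  obtain ⟨x, hx, hx1⟩ := Subgroup.bot_or_exists_ne_one _ |>.resolve_left hmeet
  obtain ⟨k, hk⟩ := IsPGroup.iff_orderOf.1 c.S.isPGroup' x
  rcases k with _ | k
  · exact absurd (orderOf_eq_one_iff.1 (by simpa using hk)) hx1
  refine ⟨((x ^ 2 ^ k : (c.S : Subgroup G)) : G), Subgroup.mem_subgroupOf.1 (pow_mem hx.1 _), fun e => ?_, ?_,
    fun s hs => ?_⟩
  · have h1 : x ^ 2 ^ k = 1 := Subtype.ext e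
    have := orderOf_dvd_of_pow_eq_one h1
    rw [hk] at this
    have := (Nat.pow_dvd_pow_iff_le_right Nat.one_lt_two).1 this
    omega
  · have h1 : x ^ 2 ^ k * x ^ 2 ^ k = 1 := by
      rw [← pow_add, ← two_mul, ← pow_succ', ← hk, pow_orderOf_eq_one]
    exact congrArg Subtype.val h1
  · exact congrArg Subtype.val (Subgroup.mem_center_iff.1 (pow_mem hx.2 (2 ^ k)) ⟨s, hs⟩).symm

theorem exists_second_invol (hA : c.A ≠ ⊥) {a₀ : G} (ha₀ : a₀ ∈ c.A) (h1 : a₀ ≠ 1)
    (hsq : a₀ * a₀ = 1) : ∃ a₁ ∈ c.A, a₁ ≠ 1 ∧ a₁ ≠ a₀ ∧ a₁ * a₁ = 1 := by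
  by_contra hcon
  push Not at hcon
  refine c.centralizer_ne_top h1 (eq_top_iff.2 fun g _ => Subgroup.mem_centralizer_singleton_iff.2 ?_)
  refine (Char.zStar_central ?_ (c.oddCore_eq_bot hA) g).symm
  refine Char.oddInvol_of_isolated_sylow (invol_of_mul_self h1 hsq) (P := c.S) (c.scA.1 ha₀) fun g hg => ?_
  by_contra hne
  have hmem := c.scA.2 _ ha₀ g hg
  refine hcon _ hmem (fun e => h1 (conj_eq_one_iff.1 e)) hne ?_
  rw [show g * a₀ * g⁻¹ * (g * a₀ * g⁻¹) = g * (a₀ * a₀) * g⁻¹ by group, hsq]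
  group

/-- Build a fours group inside a conjugate of a strongly closed subgroup. -/
theorem config_of_le {U V : Subgroup G} (hU : Nat.card U = 4) (hV : Nat.card V = 4)
    (sU : ∀ x ∈ U, x * x = 1) (sV : ∀ x ∈ V, x * x = 1) {g k : G} (hUA : U ≤ cj c.A g)
    (hVB : V ≤ cj c.B k) (hcomm : ∀ x ∈ U, ∀ y ∈ V, x * y = y * x) : c.Config U V :=
  ⟨hU, hV, sU, sV, fun _ hx => c.isA_of_mem (hUA hx), fun _ hy => c.isB_of_mem (hVB hy), hcomm⟩

/-- A fours group through a central involution of `B` and another involution of `B`. -/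
theorem exists_fours_B {V : Subgroup G} (hV4 : Nat.card V = 4) (hVs : ∀ x ∈ V, x * x = 1)
    (hVB : V ≤ c.B) {z y : G} (hz : z ∈ V) (hz1 : z ≠ 1) (hy : y ∈ c.B) (hy1 : y ≠ 1)
    (hys : y * y = 1) (hzy : z * y = y * z) :
    ∃ V' : Subgroup G, Nat.card V' = 4 ∧ (∀ x ∈ V', x * x = 1) ∧ V' ≤ c.B ∧ z ∈ V' ∧ y ∈ V' := by
  by_cases he : y = z
  · exact ⟨V, hV4, hVs, hVB, hz, he ▸ hz⟩
  refine ⟨Subgroup.closure {z, y}, card_closure_pair (hVs z hz) hys hzy hz1 hy1 (Ne.symm he),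
    sq_closure_pair (hVs z hz) hys hzy, (Subgroup.closure_le _).2 ?_,
    Subgroup.subset_closure (Or.inl rfl), Subgroup.subset_closure (Or.inr rfl)⟩
  rintro x (rfl | rfl)
  exacts [hVB hz, hy]

/-- The setting of the contradiction. -/
structure Setting (c : Ctx G) (U V : Subgroup G) (a₀ z : G) : Prop where
  cardU : Nat.card U = 4
  cardV : Nat.card V = 4
  sqU : ∀ x ∈ U, x * x = 1
  sqV : ∀ x ∈ V, x * x = 1
  leA : U ≤ c.A
  leB : V ≤ c.B
  a_mem : a₀ ∈ U
  a_ne : a₀ ≠ 1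
  a_cent : ∀ s ∈ (c.S : Subgroup G), a₀ * s = s * a₀
  z_mem : z ∈ V
  z_ne : z ≠ 1
  z_cent : ∀ s ∈ (c.S : Subgroup G), z * s = s * z

variable {c} {U V : Subgroup G} {a₀ z : G}

theorem exists_setting (hA : c.A ≠ ⊥) (hB : c.B ≠ ⊥) :
    ∃ (U V : Subgroup G) (a₀ z : G), c.Setting U V a₀ z := by
  obtain ⟨a, ha, ha1, ha2, hac⟩ := c.exists_central_invol c.scA hA
  obtain ⟨b, hb, hb1, hb2, hbc⟩ := c.exists_central_invol c.scB hB
  obtain ⟨a', ha', ha'1, hne, ha'2⟩ := c.exists_second_invol hA ha ha1 ha2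
  obtain ⟨b', hb', hb'1, hne', hb'2⟩ := c.swap.exists_second_invol hB hb hb1 hb2
  refine ⟨Subgroup.closure {a, a'}, Subgroup.closure {b, b'}, a, b,
    card_closure_pair ha2 ha'2 (hac a' (c.scA.1 ha')) ha1 ha'1 hne.symm,
    card_closure_pair hb2 hb'2 (hbc b' (c.scB.1 hb')) hb1 hb'1 hne'.symm,
    sq_closure_pair ha2 ha'2 (hac a' (c.scA.1 ha')), sq_closure_pair hb2 hb'2 (hbc b' (c.scB.1 hb')),
    (Subgroup.closure_le _).2 ?_, (Subgroup.closure_le _).2 ?_, Subgroup.subset_closure (Or.inl rfl), ha1,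
    hac, Subgroup.subset_closure (Or.inl rfl), hb1, hbc⟩
  · rintro x (rfl | rfl) <;> assumption
  · rintro x (rfl | rfl) <;> assumption

namespace Setting

variable (h : c.Setting U V a₀ z)

include h in
theorem config : c.Config U V :=
  c.config_of_le h.cardU h.cardV h.sqU h.sqV (g := 1) (k := 1) (by rw [Fusion.cj_one]; exact h.leA)
    (by rw [Fusion.cj_one]; exact h.leB) fun x hx y hy => c.commute_AB (h.leA hx) (h.leB hy)

include h in
/-- A conjugate of `z` is an involution commuting with `a₀` times an odd element. -/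
theorem dihedral (g : G) : ∃ (y' d : G) (k : G), g * z * g⁻¹ = y' * d ∧
    k ∈ Subgroup.centralizer ({a₀} : Set G) ∧ y' ∈ cj c.B k ∧ y' ≠ 1 ∧ y' * y' = 1 ∧
    a₀ * y' = y' * a₀ ∧ a₀ * y' ≠ 1 ∧ d * (a₀ * y') = (a₀ * y') * d ∧ Odd (orderOf d) ∧
    a₀ * d * a₀⁻¹ = d⁻¹ ∧ y' * d * y'⁻¹ = d⁻¹ := by
  haveI : Fact (Nat.Prime 2) := ⟨Nat.prime_two⟩
  set y := g * z * g⁻¹ with hy
  have ha := h.sqU a₀ h.a_mem
  have haA : c.IsA a₀ := ⟨1, by simpa using h.leA h.a_mem⟩
  have hyB : c.IsB y := c.isB_conj ⟨1, by simpa using h.leB h.z_mem⟩ g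
  have hy2 : y * y = 1 := by
    rw [hy, show g * z * g⁻¹ * (g * z * g⁻¹) = g * (z * z) * g⁻¹ by group, h.sqV z h.z_mem]; group
  have hy1 : y ≠ 1 := fun e => h.z_ne (conj_eq_one_iff.1 e)
  set r := a₀ * y with hr
  obtain ⟨i, j, hij, ⟨k2, hi⟩, hj⟩ := exists_two_split r
  set r₂ := r ^ i with hr₂
  set d := r ^ j with hd
  have hai : a₀⁻¹ = a₀ := inv_eq_of_mul_eq_one_right ha
  have hyi : y⁻¹ = y := inv_eq_of_mul_eq_one_right hy2
  have hra : a₀ * r * a₀⁻¹ = r⁻¹ := by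
    rw [hr, mul_inv_rev, hyi, hai, ← mul_assoc, ha, one_mul]
  have hrz : ∀ l : ℤ, a₀ * r ^ l * a₀⁻¹ = (r ^ l)⁻¹ := fun l => by
    rw [show a₀ * r ^ l * a₀⁻¹ = (a₀ * r * a₀⁻¹) ^ l from (conj_zpow).symm, hra, inv_zpow]
  set y' := a₀ * r₂ with hy'
  have hsplit : r₂ * d = r := by rw [hr₂, hd, ← zpow_add, hij]
  have hye : y = y' * d := by
    rw [hy', mul_assoc, hsplit, hr, ← mul_assoc, ha, one_mul]
  have hy'2 : y' * y' = 1 := by
    calc a₀ * r₂ * (a₀ * r₂) = a₀ * r₂ * a₀⁻¹ * r₂ := by rw [hai]; group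
      _ = 1 := by rw [hrz i, inv_mul_cancel]
  have hdy' : y' * d * y'⁻¹ = d⁻¹ := by
    rw [hy', show a₀ * r₂ * d * (a₀ * r₂)⁻¹ = a₀ * (r₂ * d * r₂⁻¹) * a₀⁻¹ by group,
      show r₂ * d * r₂⁻¹ = d by rw [hr₂, hd, ((Commute.refl r).zpow_zpow i j).eq, mul_inv_cancel_right]]
    exact hrz j
  -- `y'` is conjugate to `y`
  obtain ⟨m, hm⟩ := hj
  set q := d ^ (m + 1) with hq
  have hq2 : q * q = d := by
    rw [hq, ← pow_add, show m + 1 + (m + 1) = orderOf d + 1 by omega, pow_succ, pow_orderOf_eq_one, one_mul]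
  have hqy : q * y * q⁻¹ = y' := by
    have h1 : y' * q * y'⁻¹ = q⁻¹ := by rw [hq, ← conj_pow, hdy', inv_pow]
    have h2 : y' * q = q⁻¹ * y' := by rw [← h1, inv_mul_cancel_right]
    calc q * y * q⁻¹ = q * (y' * q) * (q * q⁻¹) := by rw [hye, ← hq2]; group
      _ = q * (q⁻¹ * y') := by rw [h2]; group
      _ = y' := mul_inv_cancel_left _ _
  have hy'B : c.IsB y' := hqy ▸ c.isB_conj hyB q
  have hy'1 : y' ≠ 1 := fun e => hy1 (conj_eq_one_iff.1 (hqy.trans e))
  -- a common Sylow subgroup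
  set D := Subgroup.zpowers a₀ ⊔ Subgroup.zpowers r₂ with hD
  have hp1 : IsPGroup 2 (Subgroup.zpowers a₀) := IsPGroup.of_card (n := 1) (by
    rw [Nat.card_zpowers, invol_of_mul_self h.a_ne ha, pow_one])
  have hp2 : IsPGroup 2 (Subgroup.zpowers r₂) := by
    obtain ⟨n, -, hn⟩ := (Nat.dvd_prime_pow Nat.prime_two).1 (orderOf_dvd_of_pow_eq_one hi)
    exact IsPGroup.of_card (n := n) (by rw [Nat.card_zpowers, hn])
  have hnorm : Subgroup.zpowers a₀ ≤ Subgroup.normalizer (Subgroup.zpowers r₂ : Set G) := by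
    rw [Subgroup.zpowers_le]
    refine mem_normalizer_of_cj_le fun x hx => ?_
    obtain ⟨l, hl⟩ := mem_cj.1 hx
    refine ⟨-l, ?_⟩
    have h1 : x = a₀ * r₂ ^ l * a₀⁻¹ := by
      simp only at hl; rw [hl]; group
    show r₂ ^ (-l) = x
    rw [h1, hr₂, ← zpow_mul, ← zpow_mul, hrz, ← zpow_neg, mul_neg]
  have hDp : IsPGroup 2 D := hp1.to_sup_of_normal_right' hp2 hnorm
  obtain ⟨T, hDT⟩ := hDp.exists_le_sylow
  obtain ⟨t, ht⟩ := MulAction.exists_smul_eq G c.S T
  have hTt : (T : Subgroup G) = cj (c.S : Subgroup G) t := by rw [← ht]; rfl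
  have haD : a₀ ∈ D := Subgroup.mem_sup_left (Subgroup.mem_zpowers _)
  have hy'D : y' ∈ D := D.mul_mem haD (Subgroup.mem_sup_right (Subgroup.mem_zpowers _))
  have hcomm : a₀ * y' = y' * a₀ :=
    c.commute_cj_AB (c.mem_cj_A haA (hTt ▸ hDT haD)) (c.mem_cj_B hy'B (hTt ▸ hDT hy'D))
  have hu1 : a₀ * y' ≠ 1 := fun e => by
    rw [mul_eq_one_iff_inv_eq, hai] at e
    exact h.a_ne (c.eq_one_of_both haA (e ▸ hy'B))
  -- conjugate into a Sylow subgroup through `a₀`
  set X := Subgroup.centralizer ({a₀} : Set G) with hX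
  have hSX : SylIn 2 (c.S : Subgroup G) X :=
    (Fusion.sylIn_top c.S).mono (fun s hs => Subgroup.mem_centralizer_singleton_iff.2 (h.a_cent s hs).symm)
      le_top
  have hy'p : IsPGroup 2 (Subgroup.zpowers y') := IsPGroup.of_card (n := 1) (by
    rw [Nat.card_zpowers, invol_of_mul_self hy'1 hy'2, pow_one])
  obtain ⟨k, hk, hkle⟩ := hSX.conj_le hy'p
    (Subgroup.zpowers_le.2 (Subgroup.mem_centralizer_singleton_iff.2 hcomm.symm))
  have hk' : y' ∈ cj (c.S : Subgroup G) k⁻¹ := by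
    rw [mem_cj, inv_inv]
    exact hkle (Fusion.conj_mem_cj (Subgroup.mem_zpowers y'))
  refine ⟨y', d, k⁻¹, hye, X.inv_mem hk, c.mem_cj_B hy'B hk', hy'1, hy'2, hcomm, hu1, ?_, ⟨m, hm⟩,
    hrz j, hdy'⟩
  rw [show a₀ * y' = r₂ by rw [hy', ← mul_assoc, ha, one_mul], hr₂, hd]
  exact ((Commute.refl r).zpow_zpow j i).eq

include h in
theorem u_involution {y' : G} (hc : a₀ * y' = y' * a₀) (hy : y' * y' = 1) :
    (a₀ * y') * (a₀ * y') = 1 := by
  rw [mul_assoc, ← mul_assoc y', ← hc, mul_assoc, hy, mul_one, h.sqU a₀ h.a_mem]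

include h in
theorem mem_cj_U {k : G} (hk : k ∈ Subgroup.centralizer ({a₀} : Set G)) : a₀ ∈ cj U k := by
  rw [mem_cj]
  rw [Subgroup.mem_centralizer_singleton_iff] at hk
  rw [mul_assoc, ← hk, inv_mul_cancel_left]
  exact h.a_mem

include h in
theorem O_normalized_cj {k y' : G} (hk : k ∈ Subgroup.centralizer ({a₀} : Set G))
    (hy' : y' ∈ cj c.B k) : cj U k ≤ Subgroup.normalizer (O (a₀ * y') : Set G) := fun x hx =>
  O_normalized _ (Subgroup.mem_centralizer_singleton_iff.2 (by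
    have hxA : x ∈ cj c.A k := Fusion.cj_mono h.leA k hx
    rw [← mul_assoc, commute_of_sq (h.config.cj k).sqU hx (h.mem_cj_U hk), mul_assoc,
      c.commute_cj_AB hxA hy', ← mul_assoc]))

include h in
/-- The group `W` is nontrivial. -/
theorem W_ne_bot : W (U ⊔ V) ≠ ⊥ := by
  intro hW
  have hkey : ∀ g : G, a₀ * (g * z * g⁻¹) = g * z * g⁻¹ * a₀ := by
    intro g
    obtain ⟨y', d, k, hyd, hk, hy'B, hy'1, hy'2, hc, hu1, hdu, hdodd, hda, hdy⟩ := h.dihedral g
    set u := a₀ * y' with hu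
    have hcfg := h.config.cj k
    set Uk := cj U k
    set Vk := cj V k
    have hak : a₀ ∈ Uk := h.mem_cj_U hk
    have hzk : k * z * k⁻¹ ∈ Vk := Fusion.conj_mem_cj h.z_mem
    have hz1 : k * z * k⁻¹ ≠ 1 := fun e => h.z_ne (conj_eq_one_iff.1 e)
    have hzy : (k * z * k⁻¹) * y' = y' * (k * z * k⁻¹) := by
      have h1 := h.z_cent _ (c.scB.1 (mem_cj.1 hy'B))
      calc k * z * k⁻¹ * y' = k * (z * (k⁻¹ * y' * k)) * k⁻¹ := by group
        _ = k * (k⁻¹ * y' * k * z) * k⁻¹ := by rw [h1]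
        _ = y' * (k * z * k⁻¹) := by group
    obtain ⟨V', hV'4, hV's, hV'le, hzV', hyV'⟩ :
        ∃ V' : Subgroup G, Nat.card V' = 4 ∧ (∀ x ∈ V', x * x = 1) ∧ V' ≤ cj c.B k ∧
          k * z * k⁻¹ ∈ V' ∧ y' ∈ V' := by
      by_cases he : y' = k * z * k⁻¹
      · exact ⟨Vk, hcfg.cardV, hcfg.sqV, Fusion.cj_mono h.leB k, hzk, he ▸ hzk⟩
      refine ⟨Subgroup.closure {k * z * k⁻¹, y'},
        card_closure_pair (hcfg.sqV _ hzk) hy'2 hzy hz1 hy'1 (Ne.symm he),
        sq_closure_pair (hcfg.sqV _ hzk) hy'2 hzy, (Subgroup.closure_le _).2 ?_,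
        Subgroup.subset_closure (Or.inl rfl), Subgroup.subset_closure (Or.inr rfl)⟩
      rintro x (rfl | rfl)
      exacts [Fusion.cj_mono h.leB k hzk, hy'B]
    have hcfg' : c.Config Uk V' :=
      c.config_of_le hcfg.cardU hV'4 hcfg.sqU hV's (Fusion.cj_mono h.leA k) hV'le
        fun x hx y hy => c.commute_cj_AB (Fusion.cj_mono h.leA k hx) (hV'le hy)
    have hW' : W (Uk ⊔ V') = ⊥ := by
      rw [← hcfg.share_B hcfg' hzk hzV' hz1, eq_bot_iff]
      have h1 := cj_W_le (Uk ⊔ Vk) k⁻¹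
      rw [Fusion.cj_sup, Fusion.cj_cj_inv, Fusion.cj_cj_inv, hW] at h1
      rw [Fusion.cj_le_iff, inv_inv, Fusion.cj_bot] at h1
      exact h1
    have hu2 : u * u = 1 := h.u_involution hc hy'2
    have hUn : Uk ≤ Subgroup.normalizer (O u : Set G) := h.O_normalized_cj hk hy'B
    have hcent : O u ≤ Subgroup.centralizer ({a₀} : Set G) := by
      rw [← Solv.gen_eq Uk (O u) (comm_of_sq hcfg.sqU) hUn (coprime_of_sq hcfg.sqU (O_odd u))]
      refine iSup₂_le fun R hR => ?_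
      obtain ⟨a', ha'R, ha'U, ha'1⟩ := exists_mem_cyc hcfg.sqU hR le_rfl hcfg.cardU
      intro x hx
      set e := ⁅x, a₀⁆ with he
      have hai : a₀⁻¹ = a₀ := inv_eq_of_mul_eq_one_right (h.sqU _ h.a_mem)
      have heO : e ∈ O u := by
        rw [he, commutatorElement_def]
        exact Solv.comm_mem_of_mem_normalizer (hUn hak) hx.1
      have hea : a₀ * e * a₀⁻¹ = e⁻¹ := by
        rw [he, commutatorElement_inv, commutatorElement_def, commutatorElement_def, hai]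
        rw [show a₀ * (x * a₀ * x⁻¹ * a₀) * a₀ = a₀ * x * a₀ * x⁻¹ * (a₀ * a₀) by group,
          h.sqU _ h.a_mem, mul_one]
      have heu : u * e * u⁻¹ = e := by
        rw [← Subgroup.mem_centralizer_singleton_iff.1 (O_le u heO), mul_inv_cancel_right]
      have hey : y' * e * y'⁻¹ = e⁻¹ := by
        have hy'u : y' = a₀ * u := by rw [hu, ← mul_assoc, h.sqU _ h.a_mem, one_mul]
        rw [hy'u, show a₀ * u * e * (a₀ * u)⁻¹ = a₀ * (u * e * u⁻¹) * a₀⁻¹ by group, heu]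
        exact hea
      have hxa' : Commute a' x := Subgroup.mem_centralizer_iff.1 hx.2 a' ha'R
      have haa' : Commute a' a₀ := commute_of_sq hcfg.sqU ha'U hak
      have hea' : e * a' = a' * e := by
        rw [he, commutatorElement_def]
        exact (((hxa'.mul_right haa').mul_right hxa'.inv_right).mul_right haa'.inv_right).eq.symm
      have h1 : e ∈ O a' := c.local_inverted ha'1 (hcfg.isA _ hak) (c.isB_of_mem hy'B) haa'.eq.symm
        (hcfg'.comm a' ha'U y' hyV').symm hc (h.sqU _ h.a_mem) hy'2 hea' hea hey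
        (odd_orderOf_of_mem (O_odd u) heO)
      have h2 := hcfg'.inverted_mem_W ha'U hyV' h1 hey
      rw [hW', Subgroup.mem_bot, he, commutatorElement_eq_one_iff_mul_comm] at h2
      exact Subgroup.mem_centralizer_singleton_iff.2 h2
    have hdO : d ∈ O u := c.local_inverted hu1 (hcfg.isA _ hak) (c.isB_of_mem hy'B)
      (by rw [hu, mul_assoc, ← hc]) (by rw [hu, ← mul_assoc, ← hc]) hc (h.sqU _ h.a_mem) hy'2 hdu
      hda hdy hdodd
    have hd1 : d = 1 := by
      have h1 : a₀ * d * a₀⁻¹ = d := by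
        rw [← Subgroup.mem_centralizer_singleton_iff.1 (hcent hdO), mul_inv_cancel_right]
      rw [h1] at hda
      refine Subgroup.mem_bot.1 (mem_of_sq_mem hdodd ?_)
      rw [Subgroup.mem_bot]
      nth_rewrite 1 [hda]
      exact inv_mul_cancel d
    rw [hyd, hd1, mul_one]
    exact hc
  haveI := c.simple
  refine c.centralizer_ne_top h.a_ne (eq_top_iff.2 ?_)
  have htop : Subgroup.normalClosure ({z} : Set G) = ⊤ :=
    ((Subgroup.normalClosure_normal).eq_bot_or_eq_top).resolve_left fun e =>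
      h.z_ne (Subgroup.mem_bot.1 (e ▸ Subgroup.subset_normalClosure rfl))
  rw [← htop, Subgroup.normalClosure, Subgroup.closure_le]
  intro x hx
  obtain ⟨y, hy, hyx⟩ := Group.mem_conjugatesOfSet_iff.1 hx
  rw [Set.mem_singleton_iff] at hy
  subst hy
  obtain ⟨g, rfl⟩ := isConj_iff.1 hyx
  exact Subgroup.mem_centralizer_singleton_iff.2 (hkey g).symm

include h in
theorem cent_generate : (⨆ a ∈ U, ⨆ _ : a ≠ 1, Subgroup.centralizer ({a} : Set G)) = ⊤ := by
  set M := ⨆ a ∈ U, ⨆ _ : a ≠ 1, Subgroup.centralizer ({a} : Set G) with hM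
  have hle : ∀ {a : G}, a ∈ U → a ≠ 1 → Subgroup.centralizer ({a} : Set G) ≤ M := fun {a} ha ha1 =>
    le_iSup₂_of_le (f := fun a _ => ⨆ _ : a ≠ 1, Subgroup.centralizer ({a} : Set G)) a ha
      (le_iSup (fun _ : a ≠ 1 => Subgroup.centralizer ({a} : Set G)) ha1)
  have hMa : Subgroup.centralizer ({a₀} : Set G) ≤ M := hle h.a_mem h.a_ne
  have hgen : ∀ g : G, g * z * g⁻¹ ∈ M := by
    intro g
    obtain ⟨y', d, k, hyd, hk, hy'B, hy'1, hy'2, hc, hu1, hdu, hdodd, hda, hdy⟩ := h.dihedral g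
    have hcfg := h.config.cj k
    have hdO : d ∈ O (a₀ * y') := c.local_inverted hu1 (hcfg.isA _ (h.mem_cj_U hk)) (c.isB_of_mem hy'B)
      (by rw [mul_assoc, ← hc]) (by rw [← mul_assoc, ← hc]) hc (h.sqU _ h.a_mem) hy'2 hdu hda hdy hdodd
    refine hyd ▸ M.mul_mem (hMa (Subgroup.mem_centralizer_singleton_iff.2 hc.symm)) ?_
    refine (?_ : O (a₀ * y') ≤ M) hdO
    rw [← Solv.gen_eq (cj U k) _ (comm_of_sq hcfg.sqU) (h.O_normalized_cj hk hy'B)
      (coprime_of_sq hcfg.sqU (O_odd _))]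
    refine iSup₂_le fun R hR => ?_
    obtain ⟨a', ha'R, ha'U, ha'1⟩ := exists_mem_cyc hcfg.sqU hR le_rfl hcfg.cardU
    intro x hx
    have hxa' : a' * x = x * a' := Subgroup.mem_centralizer_iff.1 hx.2 a' ha'R
    have hmem : k⁻¹ * x * k ∈ M := by
      refine hle (mem_cj.1 ha'U) (fun e => ha'1 ?_) (Subgroup.mem_centralizer_singleton_iff.2 ?_)
      · calc a' = k * (k⁻¹ * a' * k) * k⁻¹ := by group
          _ = 1 := by rw [e]; group
      · calc k⁻¹ * x * k * (k⁻¹ * a' * k) = k⁻¹ * (x * a') * k := by group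
          _ = k⁻¹ * (a' * x) * k := by rw [hxa']
          _ = k⁻¹ * a' * k * (k⁻¹ * x * k) := by group
    have := M.mul_mem (M.mul_mem (hMa hk) hmem) (M.inv_mem (hMa hk))
    rwa [show k * (k⁻¹ * x * k) * k⁻¹ = x by group] at this
  haveI := c.simple
  have htop : Subgroup.normalClosure ({z} : Set G) = ⊤ :=
    ((Subgroup.normalClosure_normal).eq_bot_or_eq_top).resolve_left fun e =>
      h.z_ne (Subgroup.mem_bot.1 (e ▸ Subgroup.subset_normalClosure rfl))
  rw [eq_top_iff, ← htop, Subgroup.normalClosure, Subgroup.closure_le]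
  intro x hx
  obtain ⟨y, hy, hyx⟩ := Group.mem_conjugatesOfSet_iff.1 hx
  rw [Set.mem_singleton_iff] at hy
  subst hy
  obtain ⟨g, rfl⟩ := isConj_iff.1 hyx
  exact hgen g

include h in
theorem stab_mem {x : G} (hV : cj V x = V) {a : G} (ha : a ∈ U) (ha1 : a ≠ 1)
    (hxa : x ∈ Subgroup.centralizer ({a} : Set G)) :
    x ∈ Subgroup.normalizer (W (U ⊔ V) : Set G) := by
  have hcfg := h.config.cj x
  rw [hV] at hcfg
  have hax : a ∈ cj U x := by
    rw [mem_cj, mul_assoc, ← Subgroup.mem_centralizer_singleton_iff.1 hxa, inv_mul_cancel_left]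
    exact ha
  refine mem_normalizer_of_cj_le ((cj_W_le (U ⊔ V) x).trans ?_)
  rw [Fusion.cj_sup, hV, hcfg.share_A h.config hax ha ha1]

include h in
theorem core_le {a : G} (ha : a ∈ U) (ha1 : a ≠ 1) :
    O a ≤ Subgroup.normalizer (W (U ⊔ V) : Set G) := by
  have hVn : V ≤ Subgroup.normalizer (O a : Set G) := fun g hg =>
    O_normalized a (Subgroup.mem_centralizer_singleton_iff.2 (h.config.comm a ha g hg).symm)
  rw [← Solv.commutator_sup_fixed hVn (coprime_of_sq h.sqV (O_odd a))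
    (Or.inl (Group.isSolvable_of_comm fun s t => Subtype.ext (commute_of_sq h.sqV s.2 t.2)))]
  refine sup_le ((h.config.comm_le_W ha).trans Subgroup.le_normalizer) fun x hx => ?_
  exact h.stab_mem (cj_eq_self (Subgroup.centralizer_le_normalizer _ hx.2)) ha ha1 (O_le a hx.1)

include h in
theorem normalizer_B_mem {n : G} (hn : n ∈ Subgroup.normalizer (c.B : Set G)) {a : G} (ha : a ∈ U)
    (ha1 : a ≠ 1) (hna : n ∈ Subgroup.centralizer ({a} : Set G)) :
    n ∈ Subgroup.normalizer (W (U ⊔ V) : Set G) := by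
  have hcfg := h.config.cj n
  have hBn : cj c.B n = c.B := cj_eq_self hn
  have hznB : n * z * n⁻¹ ∈ c.B := hBn ▸ Fusion.conj_mem_cj (h.leB h.z_mem)
  have hzn1 : n * z * n⁻¹ ≠ 1 := fun e => h.z_ne (conj_eq_one_iff.1 e)
  obtain ⟨V', hV'4, hV's, hV'B, hzV', hznV'⟩ := c.exists_fours_B h.cardV h.sqV h.leB h.z_mem h.z_ne hznB hzn1
    (hcfg.sqV _ (Fusion.conj_mem_cj h.z_mem)) (h.z_cent _ (c.scB.1 hznB))
  have h1 : c.Config U V' := c.config_of_le h.cardU hV'4 h.sqU hV's (g := 1) (k := 1)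
    (by rw [Fusion.cj_one]; exact h.leA) (by rw [Fusion.cj_one]; exact hV'B)
    fun x hx y hy => c.commute_AB (h.leA hx) (hV'B hy)
  have h2 : c.Config (cj U n) V' := c.config_of_le hcfg.cardU hV'4 hcfg.sqU hV's (g := n) (k := n)
    (Fusion.cj_mono h.leA n) (hBn.symm ▸ hV'B)
    fun x hx y hy => c.commute_cj_AB (Fusion.cj_mono h.leA n hx) (hBn.symm ▸ hV'B hy)
  have han : a ∈ cj U n := by
    rw [mem_cj, mul_assoc, ← Subgroup.mem_centralizer_singleton_iff.1 hna, inv_mul_cancel_left]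
    exact ha
  refine mem_normalizer_of_cj_le ((cj_W_le (U ⊔ V) n).trans ?_)
  rw [Fusion.cj_sup, hcfg.share_B h2 (Fusion.conj_mem_cj h.z_mem) hznV' hzn1, h2.share_A h1 han ha ha1,
    h1.share_B h.config hzV' h.z_mem h.z_ne]

include h in
theorem centralizer_split {a : G} (ha : a ∈ U) (ha1 : a ≠ 1) {x : G}
    (hx : x ∈ Subgroup.centralizer ({a} : Set G)) :
    ∃ q ∈ Subgroup.centralizer (U : Set G), ∃ n ∈ Subgroup.normalizer (W (U ⊔ V) : Set G), x = q * n := by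
  haveI : Fact (Nat.Prime 2) := ⟨Nat.prime_two⟩
  set X := Subgroup.centralizer ({a} : Set G) with hX
  have hUX : U ≤ X := fun u hu => Subgroup.mem_centralizer_singleton_iff.2 (commute_of_sq h.sqU hu ha)
  have hBX : c.B ≤ X := fun b hb => Subgroup.mem_centralizer_singleton_iff.2 (c.commute_AB (h.leA ha) hb).symm
  have hUBp : IsPGroup 2 (U ⊔ c.B : Subgroup G) :=
    c.S.isPGroup'.to_le (sup_le (h.leA.trans c.scA.1) c.scB.1)
  obtain ⟨R, hR⟩ := (hUBp.comap_subtype (K := X)).exists_le_sylow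
  obtain ⟨T, hT⟩ := (R.2.map X.subtype).exists_le_sylow
  obtain ⟨g, hg⟩ := MulAction.exists_smul_eq G c.S T
  have hTg : (T : Subgroup G) = cj (c.S : Subgroup G) g := by rw [← hg]; rfl
  have hinT : ∀ y : X, y ∈ (R : Subgroup X) → (y : G) ∈ cj (c.S : Subgroup G) g := fun y hy =>
    hTg ▸ hT ⟨y, hy, rfl⟩
  have hBg : cj c.B g = c.B := by
    refine (Subgroup.eq_of_le_of_card_ge (fun b hb => ?_) (by rw [Fusion.card_cj])).symm
    exact c.mem_cj_B ⟨1, by simpa using hb⟩ (hinT ⟨b, hBX hb⟩ (hR (Subgroup.mem_sup_right (S := U) hb)))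
  set A' := (cj c.A g).subgroupOf X ⊓ (R : Subgroup X) with hA'
  set B' := (cj c.B g).subgroupOf X ⊓ (R : Subgroup X) with hB'
  have hsc : ∀ D : Subgroup G, Cfsg.IsStronglyClosed D (c.S : Subgroup G) →
      Cfsg.IsStronglyClosed ((cj D g).subgroupOf X ⊓ (R : Subgroup X)) (R : Subgroup X) := by
    refine fun D hD => ⟨inf_le_right, fun y hy k hk => ⟨?_, hk⟩⟩
    show ((k * y * k⁻¹ : X) : G) ∈ cj D g
    have h2 := hinT _ hk
    rw [mem_cj] at h2 ⊢
    have h1 : g⁻¹ * (y : G) * g ∈ D := mem_cj.1 hy.1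
    have h3 := hD.2 _ h1 (g⁻¹ * (k : G) * g)
    rw [show g⁻¹ * (k : G) * g * (g⁻¹ * (y : G) * g) * (g⁻¹ * (k : G) * g)⁻¹ =
      g⁻¹ * ((k * y * k⁻¹ : X) : G) * g by simp [mul_assoc]] at h3
    exact h3 h2
  have hdisj : A' ⊓ B' = ⊥ := by
    rw [eq_bot_iff]
    intro y hy
    have h1 : g⁻¹ * (y : G) * g ∈ c.A ⊓ c.B := ⟨mem_cj.1 hy.1.1, mem_cj.1 hy.2.1⟩
    rw [c.disj, Subgroup.mem_bot] at h1
    rw [Subgroup.mem_bot]
    refine Subtype.ext ?_
    calc (y : G) = g * (g⁻¹ * (y : G) * g) * g⁻¹ := by group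
      _ = 1 := by rw [h1]; group
  have hprod := c.below X (c.centralizer_ne_top ha1) R A' B' (hsc _ c.scA) (hsc _ c.scB) hdisj
  set P := Subgroup.normalClosure (A' : Set X)
  set Q := Subgroup.normalClosure (B' : Set X) with hQ
  -- Frattini argument
  set x' : X := ⟨x, hx⟩
  haveI : Q.Normal := Subgroup.normalClosure_normal
  have hsyl : SylIn 2 ((R : Subgroup X) ⊓ Q) Q :=
    (Fusion.sylIn_top R).inf_normal le_top (by rw [Subgroup.normalizer_eq_top])
  obtain ⟨m, hm, hn⟩ := Fusion.frattini_conj hsyl (le_of_eq (Subgroup.normalizer_eq_top (H := Q)).symm)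
    (Subgroup.mem_top x')
  set n := m * x' with hndef
  have hnB : (n : G) ∈ Subgroup.normalizer (c.B : Set G) := by
    refine mem_normalizer_of_cj_le fun w hw => ?_
    rw [mem_cj] at hw
    set b : X := ⟨(n : G)⁻¹ * w * n, hBX hw⟩
    have hbR : b ∈ (R : Subgroup X) := hR (show (b : G) ∈ U ⊔ c.B from Subgroup.mem_sup_right hw)
    have hbB' : b ∈ B' := ⟨show (b : G) ∈ cj c.B g from hBg.symm ▸ hw, hbR⟩
    have h1 := Solv.conj_mem_of_mem_normalizer hn
      (⟨hbR, Subgroup.subset_normalClosure hbB'⟩ : b ∈ (R : Subgroup X) ⊓ Q)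
    have h2 : ((n * b * n⁻¹ : X) : G) = w := by simp [b, mul_assoc]
    have h3 := hinT _ h1.1
    rw [h2] at h3
    exact hBg ▸ c.mem_cj_B ⟨(n : G)⁻¹, by simpa using hw⟩ h3
  -- the factor in `Q`
  set q : X := m⁻¹
  have hqQ : q ∈ Q := Q.inv_mem hm
  have hqU : ∀ v ∈ U, (q : G)⁻¹ * (v * q * v⁻¹) ∈ O a := by
    intro v hv
    set v' : X := ⟨v, hUX hv⟩
    have hvR : v' ∈ (R : Subgroup X) := hR (show (v' : G) ∈ U ⊔ c.B from Subgroup.mem_sup_left hv)
    have hvA' : v' ∈ A' := ⟨show (v' : G) ∈ cj c.A g from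
      c.mem_cj_A ⟨1, by simpa using h.leA hv⟩ (hinT v' hvR), hvR⟩
    have h1 := hprod (Subgroup.commutator_mem_commutator (Subgroup.subset_normalClosure hvA') hqQ)
    have h2 := (oddCore_normal X).conj_mem _ h1 q⁻¹
    refine ⟨_, h2, ?_⟩
    simp [commutatorElement_def, v', mul_assoc]
  have hco : (Nat.card U).Coprime (Nat.card (O a)) := coprime_of_sq h.sqU (O_odd a)
  have hUn : U ≤ Subgroup.normalizer (O a : Set G) := hUX.trans (O_normalized a)
  obtain ⟨o, ho, hqo⟩ := Solv.exists_fixed_in_coset U (O a) hUn hco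
    (Or.inl (Group.isSolvable_of_comm fun s t => Subtype.ext (commute_of_sq h.sqU s.2 t.2))) hqU
  have hcent : (q : G) * o ∈ Subgroup.centralizer (U : Set G) := by
    rw [Subgroup.mem_centralizer_iff]
    intro v hv
    have hqX : (q : G) ∈ Subgroup.normalizer (O a : Set G) := O_normalized a q.2
    have h1 : (q : G) * o * v * ((q : G) * o)⁻¹ * v⁻¹ ∈ O a := by
      have e1 : (q : G)⁻¹ * (v * q * v⁻¹) ∈ O a := hqU v hv
      have e2 : o * v * o⁻¹ * v⁻¹ ∈ O a := Solv.comm_mem_of_mem_normalizer (hUn hv) ho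
      have e3 := (O a).mul_mem (Solv.conj_mem_of_mem_normalizer hqX e2)
        (Solv.conj_mem_of_mem_normalizer hqX ((O a).inv_mem e1))
      rwa [show (q : G) * (o * v * o⁻¹ * v⁻¹) * (q : G)⁻¹ *
        ((q : G) * ((q : G)⁻¹ * (v * q * v⁻¹))⁻¹ * (q : G)⁻¹)
        = (q : G) * o * v * ((q : G) * o)⁻¹ * v⁻¹ by group] at e3
    have h2 : (q : G) * o * v * ((q : G) * o)⁻¹ * v⁻¹ ∈ U :=
      U.mul_mem (Solv.conj_mem_of_mem_normalizer hqo hv) (U.inv_mem hv)
    have h3 := Subgroup.orderOf_dvd_natCard _ h1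
    have h4 := Subgroup.orderOf_dvd_natCard _ h2
    have h5 := orderOf_eq_one_iff.1 (Nat.eq_one_of_dvd_coprimes hco h4 h3)
    rw [mul_inv_eq_one, mul_inv_eq_iff_eq_mul] at h5
    exact h5.symm
  refine ⟨(q : G) * o, hcent, o⁻¹ * (n : G),
    Subgroup.mul_mem _ (Subgroup.inv_mem _ (h.core_le ha ha1 ho)) (h.normalizer_B_mem hnB ha ha1 n.2), ?_⟩
  simp [q, hndef, x', mul_assoc]

include h in
theorem false : False := by
  set H := Subgroup.normalizer (W (U ⊔ V) : Set G) with hH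
  haveI := c.simple
  have hUH : U ≤ H := le_sup_left.trans h.config.W_invariant
  have hHtop : H ≠ ⊤ := by
    intro e
    have hnorm : (W (U ⊔ V)).Normal := Subgroup.normalizer_eq_top_iff.1 e
    rcases hnorm.eq_bot_or_eq_top with h1 | h1
    · exact h.W_ne_bot h1
    · have := h.config.W_spec.1
      rw [h1, Subgroup.card_top] at this
      exact this.not_two_dvd_nat ((by rw [h.cardU]; norm_num : 2 ∣ Nat.card U).trans
        (Subgroup.card_subgroup_dvd_card U))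
  set Z : Set G := {y | ∃ q ∈ Subgroup.centralizer (U : Set G), ∃ n ∈ H, y = q * n}
  let M : Subgroup G :=
    { carrier := {y | ∀ w, w ∈ Z ↔ y * w ∈ Z}
      one_mem' := fun w => by rw [one_mul]
      mul_mem' := fun {x y} hx hy w => by rw [mul_assoc, hy w, hx (y * w)]
      inv_mem' := fun {x} hx w => by rw [hx (x⁻¹ * w), mul_inv_cancel_left] }
  have hleft : ∀ a ∈ U, a ≠ 1 → ∀ x ∈ Subgroup.centralizer ({a} : Set G), ∀ w ∈ Z, x * w ∈ Z := by
    rintro a ha ha1 x hx _ ⟨q, hq, n, hn, rfl⟩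
    have hqa : q ∈ Subgroup.centralizer ({a} : Set G) :=
      Subgroup.centralizer_le (Set.singleton_subset_iff.2 ha) hq
    obtain ⟨q', hq', n', hn', he⟩ := h.centralizer_split ha ha1 (Subgroup.mul_mem _ hx hqa)
    exact ⟨q', hq', n' * n, H.mul_mem hn' hn, by rw [← mul_assoc, he, mul_assoc]⟩
  have hM : ∀ a ∈ U, a ≠ 1 → Subgroup.centralizer ({a} : Set G) ≤ M := fun a ha ha1 x hx w =>
    ⟨fun hw => hleft a ha ha1 x hx w hw, fun hw => by
      simpa using hleft a ha ha1 x⁻¹ (Subgroup.inv_mem _ hx) _ hw⟩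
  have hMtop : M = ⊤ := eq_top_iff.2
    (h.cent_generate ▸ iSup₂_le fun a ha => iSup_le fun ha1 => hM a ha ha1)
  refine hHtop (eq_top_iff.2 ?_)
  have htop : Subgroup.normalClosure ({a₀} : Set G) = ⊤ :=
    ((Subgroup.normalClosure_normal).eq_bot_or_eq_top).resolve_left fun e =>
      h.a_ne (Subgroup.mem_bot.1 (e ▸ Subgroup.subset_normalClosure rfl))
  rw [← htop, Subgroup.normalClosure, Subgroup.closure_le]
  intro y hy
  obtain ⟨b, hb, hby⟩ := Group.mem_conjugatesOfSet_iff.1 hy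
  rw [Set.mem_singleton_iff] at hb
  subst hb
  obtain ⟨g, rfl⟩ := isConj_iff.1 hby
  have h1 : g⁻¹ ∈ M := hMtop ▸ Subgroup.mem_top _
  obtain ⟨q, hq, n, hn, he⟩ := (h1 1).1 ⟨1, Subgroup.one_mem _, 1, H.one_mem, (one_mul 1).symm⟩
  rw [mul_one] at he
  have hg : g = n⁻¹ * q⁻¹ := by rw [← mul_inv_rev, ← he, inv_inv]
  have hqa : q⁻¹ * b * q = b := by
    rw [mul_assoc, Subgroup.mem_centralizer_iff.1 hq b h.a_mem, inv_mul_cancel_left]
  rw [hg, show n⁻¹ * q⁻¹ * b * (n⁻¹ * q⁻¹)⁻¹ = n⁻¹ * (q⁻¹ * b * q) * n by group, hqa]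
  exact H.mul_mem (H.mul_mem (H.inv_mem hn) (hUH h.a_mem)) hn

end Setting

/-- A simple configuration has a trivial member. -/
theorem eq_bot_or (c : Ctx G) : c.A = ⊥ ∨ c.B = ⊥ := by
  by_contra hcon
  push Not at hcon
  obtain ⟨U, V, a₀, z, h⟩ := exists_setting hcon.1 hcon.2
  exact h.false

end Ctx

end Cfsg.Agent.StrongProd
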